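import Groth.Agent.Adeq.K569.Basic
import Mathlib.Algebra.Category.Grp.AB
import Mathlib.CategoryTheory.Abelian.GrothendieckAxioms.Basic
import Mathlib.CategoryTheory.Abelian.GrothendieckAxioms.FunctorCategory
import Mathlib.CategoryTheory.Functor.ReflectsIso.Balanced

/-!
# Exactness of coproducts and filtered colimits in the category of module-valued functors
-/

universe u

open CategoryTheory Limits Opposite TensorProduct Adeq

namespace K569.AB

open K569.Basic

noncomputable section

variable (A : Type u) [CommRing A]

theorem hasColims : HasColimitsOfSize.{u + 1, u + 1} (MVF A) :=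
  PresheafOfModules.hasColimitsOfSize.{u + 1, u, u + 1, u + 1, u + 1, u} (ringOf A)

theorem hasCoproducts : HasCoproducts.{u + 1} (MVF A) := by
  have := hasColims A
  infer_instance

variable {A} in
theorem hasCoproduct {ι : Type (u + 1)} (F : ι → MVF A) : HasCoproduct F := by
  have := hasCoproducts A
  infer_instance

theorem hasLims : HasLimitsOfSize.{u + 1, u + 1} (MVF A) := inferInstance

theorem hasFiniteBiproducts : HasFiniteBiproducts (MVF A) :=
  Abelian.hasFiniteBiproducts

theorem reflectsIso : (PresheafOfModules.toPresheaf.{u + 1} (ringOf A)).ReflectsIsomorphisms :=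
  reflectsIsomorphisms_of_reflectsMonomorphisms_of_reflectsEpimorphisms _

theorem ab5 [HasFilteredColimitsOfSize.{u + 1, u + 1} (MVF A)] :
    AB5OfSize.{u + 1, u + 1} (MVF A) where
  ofShape K _ _ := by
    have : HasExactColimitsOfShape K ((Alg A)ᵒᵖᵒᵖ ⥤ AddCommGrpCat.{u + 1}) := inferInstance
    have := reflectsIso A
    have : ReflectsFiniteLimits (PresheafOfModules.toPresheaf.{u + 1} (ringOf A)) := ⟨fun J _ _ =>
      reflectsLimitsOfShape_of_reflectsIsomorphisms⟩
    exact HasExactColimitsOfShape.domain_of_functor K
      (PresheafOfModules.toPresheaf.{u + 1} (ringOf A))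

theorem ab4 [HasCoproducts.{u + 1} (MVF A)] : AB4OfSize.{u + 1} (MVF A) := by
  have := hasColims A
  have := hasFiniteBiproducts A
  have := ab5 A
  exact AB4.of_AB5 _

end
end K569.AB
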