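import Mathlib.LinearAlgebra.TensorProduct.Tower
import Mathlib.LinearAlgebra.TensorProduct.RightExactness
import Mathlib.RingTheory.Flat.Basic
import Mathlib.RingTheory.TensorProduct.Basic

/-!
# The base change map of a semilinear map
-/

open TensorProduct

namespace K569.BCAlg

section

variable {B B' : Type*} [CommRing B] [CommRing B'] [Algebra B B']
variable {X Y Z : Type*} [AddCommGroup X] [Module B X] [AddCommGroup Y] [Module B' Y]

/-- the map `B' ⊗ X → Y` attached to a semilinear map -/
def bcl (g : X →+ Y) (hg : ∀ (b : B) (x : X), g (b • x) = algebraMap B B' b • g x) :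
    B' ⊗[B] X →+ Y :=
  letI : Module B Y := Module.compHom Y (algebraMap B B')
  (TensorProduct.lift
    { toFun := fun b' =>
        { toFun := fun x => b' • g x
          map_add' := fun x y => by rw [map_add, smul_add]
          map_smul' := fun b x => by
            change b' • g (b • x) = algebraMap B B' b • b' • g x
            rw [hg, smul_smul, smul_smul, mul_comm] }
      map_add' := fun b₁ b₂ => by
        refine LinearMap.ext fun x => ?_
        exact add_smul b₁ b₂ (g x)
      map_smul' := fun b b' => by
        refine LinearMap.ext fun x => ?_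
        change (b • b') • g x = algebraMap B B' b • b' • g x
        rw [Algebra.smul_def, mul_smul] }).toAddMonoidHom

@[simp] theorem bcl_tmul (g : X →+ Y) (hg : ∀ (b : B) (x : X), g (b • x) = algebraMap B B' b • g x)
    (b' : B') (x : X) : bcl g hg (b' ⊗ₜ[B] x) = b' • g x := rfl

theorem bcl_smul (g : X →+ Y) (hg : ∀ (b : B) (x : X), g (b • x) = algebraMap B B' b • g x)
    (b' : B') (z : B' ⊗[B] X) : bcl g hg (b' • z) = b' • bcl g hg z := by
  induction z using TensorProduct.induction_on with
  | zero => simp
  | tmul c x => rw [TensorProduct.smul_tmul', bcl_tmul, bcl_tmul, smul_smul, smul_eq_mul]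
  | add x y hx hy => rw [smul_add, map_add, map_add, smul_add, hx, hy]

variable {X' Y' : Type*} [AddCommGroup X'] [Module B X'] [AddCommGroup Y'] [Module B' Y']

theorem bcl_naturality (g : X →+ Y)
    (hg : ∀ (b : B) (x : X), g (b • x) = algebraMap B B' b • g x) (g' : X' →+ Y')
    (hg' : ∀ (b : B) (x : X'), g' (b • x) = algebraMap B B' b • g' x)
    (p : X →ₗ[B] X') (q : Y →ₗ[B'] Y') (h : ∀ x, q (g x) = g' (p x)) (z : B' ⊗[B] X) :
    q (bcl g hg z) = bcl g' hg' (p.lTensor B' z) := by
  induction z using TensorProduct.induction_on with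
  | zero => simp
  | tmul c x => rw [bcl_tmul, map_smul, h, LinearMap.lTensor_tmul, bcl_tmul]
  | add x y hx hy => rw [map_add, map_add, map_add, map_add, hx, hy]

variable {X'' Y'' : Type*} [AddCommGroup X''] [Module B X''] [AddCommGroup Y''] [Module B' Y'']

/-- the base change map is bijective for a kernel if it is for the other two terms -/
theorem bijective_of_kernel [Module.Flat B B'] (g : X →+ Y)
    (hg : ∀ (b : B) (x : X), g (b • x) = algebraMap B B' b • g x) (g' : X' →+ Y')
    (hg' : ∀ (b : B) (x : X'), g' (b • x) = algebraMap B B' b • g' x)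
    (g'' : X'' →+ Y'')
    (hg'' : ∀ (b : B) (x : X''), g'' (b • x) = algebraMap B B' b • g'' x)
    (p : X →ₗ[B] X') (q : Y →ₗ[B'] Y') (h : ∀ x, q (g x) = g' (p x))
    (p' : X' →ₗ[B] X'') (q' : Y' →ₗ[B'] Y'') (h' : ∀ x, q' (g' x) = g'' (p' x))
    (hp : Function.Injective p) (hq : Function.Injective q) (hpp : Function.Exact p p')
    (hqq : Function.Exact q q') (hb' : Function.Bijective (bcl g' hg'))
    (hb'' : Function.Injective (bcl g'' hg'')) : Function.Bijective (bcl g hg) := by
  have hpi : Function.Injective (p.lTensor B') := Module.Flat.lTensor_preserves_injective_linearMap p hp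
  have hpe : Function.Exact (p.lTensor B') (p'.lTensor B') := Module.Flat.lTensor_exact B' hpp
  constructor
  · refine (injective_iff_map_eq_zero _).2 fun z hz => ?_
    have h1 := bcl_naturality g hg g' hg' p q h z
    rw [hz, map_zero] at h1
    have h2 := (injective_iff_map_eq_zero _).1 hb'.1 _ h1.symm
    exact (injective_iff_map_eq_zero _).1 hpi _ h2
  · intro y
    obtain ⟨z, hz⟩ := hb'.2 (q y)
    have h1 := bcl_naturality g' hg' g'' hg'' p' q' h' z
    rw [hz, (hqq (q y)).2 ⟨y, rfl⟩] at h1
    have h2 := (injective_iff_map_eq_zero _).1 hb'' _ h1.symm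
    obtain ⟨x, rfl⟩ := (hpe z).1 h2
    refine ⟨x, hq ?_⟩
    rw [bcl_naturality g hg g' hg' p q h, hz]

end

section

variable {A B B' : Type*} [CommRing A] [CommRing B] [CommRing B'] [Algebra A B] [Algebra A B']
  [Algebra B B'] [IsScalarTower A B B'] (M : Type*) [AddCommGroup M] [Module A M]

theorem bijective_tensor (g : B ⊗[A] M →+ B' ⊗[A] M)
    (hg : ∀ (b : B) (x : B ⊗[A] M), g (b • x) = algebraMap B B' b • g x)
    (hg' : ∀ (b : B) (m : M), g (b ⊗ₜ m) = algebraMap B B' b ⊗ₜ m) :
    Function.Bijective (bcl (B := B) (B' := B') g hg) := by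
  have h : ∀ z, bcl (B := B) (B' := B') g hg z =
      TensorProduct.AlgebraTensorModule.cancelBaseChange A B B' B' M z := by
    intro z
    induction z using TensorProduct.induction_on with
    | zero => simp
    | add x y hx hy => rw [map_add, map_add, hx, hy]
    | tmul c x =>
      induction x using TensorProduct.induction_on with
      | zero => simp
      | add x y hx hy => rw [TensorProduct.tmul_add, map_add, map_add, hx, hy]
      | tmul b m =>
        rw [bcl_tmul, hg', TensorProduct.AlgebraTensorModule.cancelBaseChange_tmul,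
          TensorProduct.smul_tmul', smul_eq_mul, Algebra.smul_def, mul_comm]
  have h2 := (TensorProduct.AlgebraTensorModule.cancelBaseChange A B B' B' M).bijective
  have h3 : (bcl (B := B) (B' := B') g hg : B' ⊗[B] (B ⊗[A] M) → B' ⊗[A] M) =
    TensorProduct.AlgebraTensorModule.cancelBaseChange A B B' B' M := funext h
  rw [h3]
  exact h2

end

end K569.BCAlg
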