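import Groth.Agent.Adeq.K569.Basic
import Groth.Agent.Adeq.K569.BCAlg
import Mathlib.RingTheory.RingHom.Flat

/-!
# Flat base change for adequate functors
-/

universe u

open CategoryTheory Limits Opposite TensorProduct Adeq

namespace K569.BC

open K569.Basic

noncomputable section

variable {A : Type u} [CommRing A]

/-- the plain base change map of a module-valued functor -/
def bcp (F : MVF A) {B B' : Alg A} (f : B ⟶ B') :
    letI : Algebra B B' := f.hom.toRingHom.toAlgebra
    (B' : Type u) ⊗[B] (F.obj (pt B)) →+ F.obj (pt B') :=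
  letI : Algebra B B' := f.hom.toRingHom.toAlgebra
  BCAlg.bcl (tr F f) (tr_smul F f)

open scoped ChangeOfRings in
theorem bc_one_tmul (F : MVF A) {B B' : Alg A} (f : B ⟶ B') (x : F.obj (pt B)) :
    F.bc f ((1 : B') ⊗ₜ[B, f.hom.toRingHom] x) = tr F f x := by
  have h1 : (ModuleCat.extendRestrictScalarsAdj.{u + 1, u, u} f.hom.toRingHom).homEquiv
      (F.obj (pt B)) (F.obj (pt B')) (F.bc f) = F.map (ptHom f) :=
    Equiv.apply_symm_apply _ _
  have h2 := ModuleCat.extendRestrictScalarsAdj_homEquiv_apply.{u + 1, u, u} (f := f.hom.toRingHom)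
    (M := F.obj (pt B)) (N := F.obj (pt B')) (F.bc f) x
  refine Eq.trans h2.symm ?_
  rw [h1]
  rfl

theorem bc_apply (F : MVF A) {B B' : Alg A} (f : B ⟶ B')
    (z : (ModuleCat.extendScalars.{u, u, u + 1} f.hom.toRingHom).obj (F.obj (pt B))) :
    F.bc f z = bcp F f z := by
  let _ : Algebra B B' := f.hom.toRingHom.toAlgebra
  let g : (B' : Type u) ⊗[B] (F.obj (pt B)) →+ F.obj (pt B') := (F.bc f).hom.toAddMonoidHom
  let g' : (B' : Type u) ⊗[B] (F.obj (pt B)) →+ F.obj (pt B') := bcp F f
  have hsm : ∀ (b' : B') (z : (B' : Type u) ⊗[B] (F.obj (pt B))), g (b' • z) = b' • g z :=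
    fun b' z => (F.bc f).hom.map_smul b' z
  have h : ∀ z : (B' : Type u) ⊗[B] (F.obj (pt B)), g z = g' z := by
    intro z
    induction z using TensorProduct.induction_on with
    | zero => rw [map_zero, map_zero]
    | add x y hx hy => rw [map_add, map_add, hx, hy]
    | tmul b' x =>
      have h1 : b' ⊗ₜ[B] x = b' • ((1 : B') ⊗ₜ[B] x) := by
        rw [TensorProduct.smul_tmul', smul_eq_mul, mul_one]
      have h2 : g' (b' ⊗ₜ[B] x) = b' • tr F f x := rfl
      have h3 : g ((1 : B') ⊗ₜ[B] x) = tr F f x := bc_one_tmul F f x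
      rw [h2, h1, hsm, h3]
  exact h z

theorem bc_bijective_iff (F : MVF A) {B B' : Alg A} (f : B ⟶ B') :
    Function.Bijective (F.bc f) ↔ Function.Bijective (bcp F f) := by
  have h := funext (bc_apply F f)
  rw [h]
  rfl

theorem isIso_bc_iff (F : MVF A) {B B' : Alg A} (f : B ⟶ B') :
    IsIso (F.bc f) ↔ Function.Bijective (bcp F f) := by
  rw [← bc_bijective_iff]
  exact ConcreteCategory.isIso_iff_bijective _

theorem bcp_underline (M : ModuleCat.{u + 1} A) {B B' : Alg A} (f : B ⟶ B') :
    Function.Bijective (bcp ((underline A).obj M) f) := by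
  let _ : Algebra B B' := f.hom.toRingHom.toAlgebra
  have : IsScalarTower A B B' := IsScalarTower.of_algebraMap_eq fun a => (f.hom.commutes a).symm
  exact BCAlg.bijective_tensor (A := A) (B := B) (B' := B') M (tr ((underline A).obj M) f)
    (tr_smul ((underline A).obj M) f) (fun b m => rfl)

theorem bcp_adequate {F : MVF A} (hF : adequate A F) {B B' : Alg A} (f : B ⟶ B')
    (hf : f.hom.toRingHom.Flat) : Function.Bijective (bcp F f) := by
  let _ : Algebra B B' := f.hom.toRingHom.toAlgebra
  have : Module.Flat B B' := hf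
  obtain ⟨M, N, φ, i, hi, hex⟩ := exists_of_adequate hF
  exact BCAlg.bijective_of_kernel (tr F f) (tr_smul F f)
    (tr ((underline A).obj M) f) (tr_smul ((underline A).obj M) f)
    (tr ((underline A).obj N) f) (tr_smul ((underline A).obj N) f)
    (i.app (pt B)).hom (i.app (pt B')).hom (fun x => naturality i f x)
    (((underline A).map φ).app (pt B)).hom (((underline A).map φ).app (pt B')).hom
    (fun x => naturality ((underline A).map φ) f x) (hi B) (hi B') (hex B) (hex B')
    (bcp_underline M f) (bcp_underline N f).1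

/-- `F(B) → F(B')` computes the base change for `F` adequate and `B → B'` flat -/
theorem isIso_bc {F : MVF A} (hF : adequate A F) {B B' : Alg A} (f : B ⟶ B')
    (hf : f.hom.toRingHom.Flat) : IsIso (F.bc f) :=
  (isIso_bc_iff F f).2 (bcp_adequate hF f hf)

end

end K569.BC
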