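import Groth.Prelude.Def_Adeq
import Mathlib.Algebra.Homology.ShortComplex.ModuleCat
import Mathlib.Algebra.Homology.ShortComplex.ExactFunctor
import Mathlib.Algebra.Homology.ShortComplex.Abelian

/-!
# Pointwise exactness in the category of presheaves of modules / module-valued functors
-/

universe w v v₁ u u₁

open CategoryTheory Limits Opposite TensorProduct Adeq

namespace K569.Basic

noncomputable section

section General

variable {C : Type u₁} [Category.{v₁} C] {R : Cᵒᵖ ⥤ RingCat.{u}}

theorem isZero_of_pointwise (F : PresheafOfModules.{v} R)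
    (h : ∀ X : Cᵒᵖ, IsZero (F.obj X)) : IsZero F := by
  rw [IsZero.iff_id_eq_zero]
  apply PresheafOfModules.hom_ext
  intro X
  exact (h X).eq_of_src _ _

/-- Exactness is tested pointwise -/
theorem exact_iff_ev (S : ShortComplex (PresheafOfModules.{v} R)) :
    S.Exact ↔ ∀ X : Cᵒᵖ, (S.map (PresheafOfModules.evaluation R X)).Exact := by
  constructor
  · intro h X
    exact h.map _
  · intro h
    rw [ShortComplex.exact_iff_isZero_homology]
    refine isZero_of_pointwise _ fun X => ?_
    have := (ShortComplex.exact_iff_isZero_homology _).1 (h X)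
    exact this.of_iso (S.mapHomologyIso (PresheafOfModules.evaluation R X)).symm

theorem exact_iff (S : ShortComplex (PresheafOfModules.{v} R)) :
    S.Exact ↔ ∀ X : Cᵒᵖ, Function.Exact (S.f.app X) (S.g.app X) := by
  rw [exact_iff_ev]
  refine forall_congr' fun X => ?_
  rw [ShortComplex.ShortExact.moduleCat_exact_iff_function_exact]
  rfl

end General

variable {A : Type u} [CommRing A]

theorem exact_iff' (S : ShortComplex (MVF A)) :
    S.Exact ↔ ∀ B : Alg A, Function.Exact (S.f.app (pt B)) (S.g.app (pt B)) := by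
  rw [exact_iff]
  exact ⟨fun h B => h _, fun h X => h X.unop.unop⟩

theorem mono_iff {F G : MVF A} (f : F ⟶ G) :
    Mono f ↔ ∀ B : Alg A, Function.Injective (f.app (pt B)) := by
  rw [PresheafOfModules.mono_iff_surjective]
  exact ⟨fun h B => @h (pt B), fun h X => h X.unop.unop⟩

theorem epi_iff {F G : MVF A} (f : F ⟶ G) :
    Epi f ↔ ∀ B : Alg A, Function.Surjective (f.app (pt B)) := by
  rw [PresheafOfModules.epi_iff_surjective]
  exact ⟨fun h B => @h (pt B), fun h X => h X.unop.unop⟩

theorem isIso_iff {F G : MVF A} (f : F ⟶ G) :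
    IsIso f ↔ ∀ B : Alg A, Function.Bijective (f.app (pt B)) := by
  constructor
  · intro h B
    exact ⟨(mono_iff f).1 inferInstance B, (epi_iff f).1 inferInstance B⟩
  · intro h
    have : Mono f := (mono_iff f).2 fun B => (h B).1
    have : Epi f := (epi_iff f).2 fun B => (h B).2
    exact isIso_of_mono_of_epi f

theorem hom_ext' {F G : MVF A} {f g : F ⟶ G}
    (h : ∀ (B : Alg A) (x : F.obj (pt B)), f.app (pt B) x = g.app (pt B) x) : f = g := by
  apply PresheafOfModules.hom_ext
  intro X
  ext x
  exact h X.unop.unop x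

theorem comp_app_apply {F G H : MVF A} (f : F ⟶ G) (g : G ⟶ H) (B : Alg A) (x : F.obj (pt B)) :
    (f ≫ g).app (pt B) x = g.app (pt B) (f.app (pt B) x) := rfl

/-- transition maps as additive maps, with the expected type -/
def tr (F : MVF A) {B B' : Alg A} (g : B ⟶ B') : F.obj (pt B) →+ F.obj (pt B') where
  toFun x := F.map (ptHom g) x
  map_zero' := map_zero (F.map (ptHom g)).hom
  map_add' x y := map_add (F.map (ptHom g)).hom x y

theorem tr_eq (F : MVF A) {B B' : Alg A} (g : B ⟶ B') (x : F.obj (pt B)) :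
    tr F g x = F.map (ptHom g) x := rfl

theorem naturality {F G : MVF A} (f : F ⟶ G) {B B' : Alg A} (g : B ⟶ B') (x : F.obj (pt B)) :
    f.app (pt B') (tr F g x) = tr G g (f.app (pt B) x) :=
  PresheafOfModules.naturality_apply f (ptHom g) x

theorem tr_smul (F : MVF A) {B B' : Alg A} (g : B ⟶ B') (b : B) (x : F.obj (pt B)) :
    tr F g (b • x) = g.hom b • tr F g x :=
  PresheafOfModules.map_smul F (ptHom g) b x

theorem tr_comp (F : MVF A) {B B' B'' : Alg A} (g : B ⟶ B') (g' : B' ⟶ B'')
    (x : F.obj (pt B)) :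
    tr F (g ≫ g') x = tr F g' (tr F g x) :=
  F.map_comp_apply (ptHom g) (ptHom g') x

theorem tr_id (F : MVF A) {B : Alg A} (x : F.obj (pt B)) :
    tr F (𝟙 B) x = x := by
  have := F.map_id (pt B)
  exact congrArg (fun (f : F.obj (pt B) ⟶ _) => f x) this

theorem app_smul {F G : MVF A} (f : F ⟶ G) {B : Alg A} (b : B) (x : F.obj (pt B)) :
    f.app (pt B) (b • x) = b • (f.app (pt B) x : G.obj (pt B)) :=
  (f.app (pt B)).hom.map_smul b x

/-- Construct a morphism of module-valued functors from element-level data. -/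
def mkHom {F G : MVF A} (φ : ∀ B : Alg A, F.obj (pt B) → G.obj (pt B))
    (hadd : ∀ (B : Alg A) (x y : F.obj (pt B)), φ B (x + y) = φ B x + φ B y)
    (hsmul : ∀ (B : Alg A) (b : B) (x : F.obj (pt B)), φ B (b • x) = b • φ B x)
    (hnat : ∀ ⦃B B' : Alg A⦄ (f : B ⟶ B') (x : F.obj (pt B)),
      φ B' (tr F f x) = tr G f (φ B x)) : F ⟶ G :=
  PresheafOfModules.homMk
    { app := fun X => AddCommGrpCat.ofHom
        { toFun := fun x => φ X.unop.unop x
          map_zero' := by
            have := hsmul X.unop.unop 0 0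
            rw [zero_smul, zero_smul] at this
            exact this
          map_add' := fun x y => hadd X.unop.unop x y }
      naturality := by
        intro X Y f
        ext x
        exact hnat f.unop.unop x }
    (fun X r m => hsmul X.unop.unop r m)

@[simp] theorem mkHom_app {F G : MVF A} (φ : ∀ B : Alg A, F.obj (pt B) → G.obj (pt B))
    (hadd : ∀ (B : Alg A) (x y : F.obj (pt B)), φ B (x + y) = φ B x + φ B y)
    (hsmul : ∀ (B : Alg A) (b : B) (x : F.obj (pt B)), φ B (b • x) = b • φ B x)
    (hnat : ∀ ⦃B B' : Alg A⦄ (f : B ⟶ B') (x : F.obj (pt B)),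
      φ B' (tr F f x) = tr G f (φ B x)) (B : Alg A) (x : F.obj (pt B)) :
    (mkHom φ hadd hsmul hnat).app (pt B) x = φ B x := rfl

section Kernel

variable {F G : MVF A} (f : F ⟶ G)

theorem kernel_ι_injective (B : Alg A) : Function.Injective ((kernel.ι f).app (pt B)) :=
  (mono_iff _).1 inferInstance B

theorem kernel_condition_apply (B : Alg A) (x : (kernel f).obj (pt B)) :
    f.app (pt B) ((kernel.ι f).app (pt B) x) = 0 := by
  rw [← comp_app_apply, kernel.condition]
  rfl

theorem kernel_exact : (ShortComplex.mk (kernel.ι f) f (kernel.condition f)).Exact :=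
  ShortComplex.exact_of_f_is_kernel _ (kernelIsKernel f)

theorem exists_kernel {B : Alg A} (x : F.obj (pt B)) (hx : f.app (pt B) x = 0) :
    ∃ y : (kernel f).obj (pt B), (kernel.ι f).app (pt B) y = x :=
  ((exact_iff' _).1 (kernel_exact f) B x).1 hx

/-- The element of the kernel attached to an element killed by `f`. -/
def kmk {B : Alg A} (x : F.obj (pt B)) (hx : f.app (pt B) x = 0) : (kernel f).obj (pt B) :=
  (exists_kernel f x hx).choose

@[simp] theorem kernel_ι_kmk {B : Alg A} (x : F.obj (pt B)) (hx : f.app (pt B) x = 0) :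
    (kernel.ι f).app (pt B) (kmk f x hx) = x := (exists_kernel f x hx).choose_spec

theorem cokernel_π_surjective (B : Alg A) :
    Function.Surjective ((cokernel.π f).app (pt B)) :=
  (epi_iff _).1 inferInstance B

theorem cokernel_exact : (ShortComplex.mk f (cokernel.π f) (cokernel.condition f)).Exact :=
  ShortComplex.exact_of_g_is_cokernel _ (cokernelIsCokernel f)

theorem cokernel_π_eq_zero_iff (B : Alg A) (x : G.obj (pt B)) :
    (cokernel.π f).app (pt B) x = 0 ↔ ∃ y, f.app (pt B) y = x :=
  (exact_iff' _).1 (cokernel_exact f) B x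

end Kernel

section Underline

theorem underline_map_app {M N : ModuleCat.{u + 1} A} (φ : M ⟶ N) (B : Alg A)
    (x : (B : Type u) ⊗[A] M) :
    ((underline A).map φ).app (pt B) x = (φ.hom.baseChange B) x := rfl

theorem underline_map_app_tmul {M N : ModuleCat.{u + 1} A} (φ : M ⟶ N) (B : Alg A)
    (b : B) (m : M) :
    ((underline A).map φ).app (pt B) (b ⊗ₜ[A] m) = b ⊗ₜ[A] φ m := rfl

theorem underline_obj_map (M : ModuleCat.{u + 1} A) {B B' : Alg A} (f : B ⟶ B')
    (x : (B : Type u) ⊗[A] M) :
    tr ((underline A).obj M) f x = (f.hom.toLinearMap.rTensor M) x := rfl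

theorem underline_obj_map_tmul (M : ModuleCat.{u + 1} A) {B B' : Alg A} (f : B ⟶ B')
    (b : B) (m : M) :
    tr ((underline A).obj M) f (b ⊗ₜ[A] m) = (f.hom b ⊗ₜ[A] m : (B' : Type u) ⊗[A] M) := rfl

end Underline

section Adequate

/-- categorical criterion for adequacy -/
theorem adequate_of_exact {F : MVF A} {M N : ModuleCat.{u + 1} A} (φ : M ⟶ N)
    (i : F ⟶ (underline A).obj M) [Mono i] (w : i ≫ (underline A).map φ = 0)
    (h : (ShortComplex.mk _ _ w).Exact) : adequate A F :=
  ⟨M, N, φ, ⟨IsLimit.conePointUniqueUpToIso (h.fIsKernel) (limit.isLimit _)⟩⟩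

/-- pointwise criterion for adequacy -/
theorem adequate_of_pointwise {F : MVF A} {M N : ModuleCat.{u + 1} A} (φ : M ⟶ N)
    (i : F ⟶ (underline A).obj M)
    (hi : ∀ B : Alg A, Function.Injective (i.app (pt B)))
    (h : ∀ (B : Alg A) (x : (B : Type u) ⊗[A] M),
      (φ.hom.baseChange B) x = 0 ↔ ∃ y, i.app (pt B) y = x) : adequate A F := by
  have w : i ≫ (underline A).map φ = 0 := by
    apply hom_ext'
    intro B x
    exact (h B (i.app (pt B) x)).2 ⟨x, rfl⟩
  have : Mono i := (mono_iff i).2 hi
  exact adequate_of_exact φ i w ((exact_iff' _).2 fun B x => h B x)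

theorem exists_of_adequate {F : MVF A} (hF : adequate A F) :
    ∃ (M N : ModuleCat.{u + 1} A) (φ : M ⟶ N) (i : F ⟶ (underline A).obj M),
      (∀ B : Alg A, Function.Injective (i.app (pt B))) ∧
      (∀ (B : Alg A) (x : (B : Type u) ⊗[A] M),
        (φ.hom.baseChange B) x = 0 ↔ ∃ y, i.app (pt B) y = x) := by
  obtain ⟨M, N, φ, ⟨e⟩⟩ := hF
  refine ⟨M, N, φ, e.hom ≫ kernel.ι _, fun B => ?_, fun B x => ⟨fun hx => ?_, ?_⟩⟩
  · exact (kernel_ι_injective _ B).comp ((mono_iff e.hom).1 inferInstance B)
  · obtain ⟨y, hy⟩ := exists_kernel ((underline A).map φ) x hx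
    obtain ⟨z, rfl⟩ := (epi_iff e.hom).1 inferInstance B y
    exact ⟨z, hy⟩
  · rintro ⟨y, rfl⟩
    exact kernel_condition_apply ((underline A).map φ) B (e.hom.app (pt B) y)

end Adequate

end

end K569.Basic
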