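import Groth.Agent.CohtopA.CechInj
import Groth.Agent.Adeq.K570.CechM

/-!
# Mathlib's Cech complex for one object, and the model of fibre powers over a terminal object
-/

set_option autoImplicit false
universe w v u w'

open CategoryTheory CategoryTheory.Limits Opposite AlgebraicTopology Simplicial

namespace K569.CechTerm

open K570.CechM Groth.Agent.CohtopA.CechInj

variable {C : Type u} [Category.{v} C] [HasFiniteProducts C]

/-- The powers of `Y`, seen as fibre powers over a terminal object. -/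
noncomputable def prodModel {U Y : C} (hU : IsTerminal U) (g : Y ⟶ U) : Model g where
  W n := ∏ᶜ (fun _ : Fin n => Y)
  b _ := hU.from _
  π _ i := Pi.π (fun _ => Y) i
  w _ _ := hU.hom_ext _ _
  lift _ _ _ f _ := Pi.lift f
  lift_b _ _ _ _ _ := hU.hom_ext _ _
  lift_π _ _ _ f _ i := Pi.lift_π f i
  hom_ext _ _ a a' _ h := Pi.hom_ext a a' h

variable (P : Cᵒᵖ ⥤ AddCommGrpCat.{w}) (Y : C)

/-- The Cech object. -/
noncomputable abbrev E : SimplicialObject (FormalCoproduct.{w} C) :=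
  (FormalCoproduct.mk PUnit.{w + 1} (fun _ => Y)).cech

/-- The only component. -/
noncomputable def c (n : ℕ) : ev P ((E.{w} Y) _⦋n⦌) ⟶ P.obj (op (∏ᶜ (fun _ : Fin (n + 1) => Y))) :=
  comp P ((E.{w} Y) _⦋n⦌) (fun _ => PUnit.unit)

theorem c_injective (n : ℕ) : Function.Injective (c P Y n) := by
  intro x y h
  refine ev_ext P fun i => ?_
  exact h

theorem c_surjective (n : ℕ) : Function.Surjective (c P Y n) := by
  intro x
  obtain ⟨y, hy⟩ := ev_exists P (W := (E.{w} Y) _⦋n⦌) (fun _ => x)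
  exact ⟨y, hy _⟩

theorem c_evMap {U : C} (hU : IsTerminal U) (g : Y ⟶ U) (n : ℕ) (j : Fin (n + 2)) (x : ev P ((E.{w} Y) _⦋n⦌)) :
    c P Y (n + 1) (evMap P ((E.{w} Y).δ j) x) = res P ((prodModel hU g).face (n + 1) j) (c P Y n x) := by
  refine (comp_evMap P ((E.{w} Y).δ j) x (fun _ => PUnit.unit)).trans ?_
  rfl

theorem c_dEv {U : C} (hU : IsTerminal U) (g : Y ⟶ U) (n : ℕ) (x : ev P ((E.{w} Y) _⦋n⦌)) :
    c P Y (n + 1) (dEv P (E.{w} Y) n x) = (prodModel hU g).d P (n + 1) (c P Y n x) := by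
  rw [dEv, ab_alt_apply, map_sum, Model.d_apply]
  refine Finset.sum_congr rfl fun j _ => ?_
  rw [map_zsmul]
  exact congrArg (fun t => (-1 : ℤ) ^ (j : ℕ) • t) (c_evMap P Y hU g n j x)

theorem exactAt_iff {U : C} (hU : IsTerminal U) (g : Y ⟶ U) (n : ℕ) :
    ((cechComplexFunctor (A := AddCommGrpCat.{w}) (fun _ : PUnit.{w + 1} => Y)).obj P).ExactAt (n + 1) ↔
      (prodModel hU g).Ex P (n + 1) := by
  refine (cochain_exactAt_iff (E := E.{w} Y) P n).trans ?_
  constructor
  · intro h x hx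
    obtain ⟨x, rfl⟩ := c_surjective P Y (n + 1) x
    obtain ⟨y, hy⟩ := h x (c_injective P Y (n + 2) (by
      rw [c_dEv P Y hU g, map_zero]
      exact hx))
    exact ⟨c P Y n y, (c_dEv P Y hU g n y).symm.trans (congrArg _ hy)⟩
  · intro h x hx
    obtain ⟨y, hy⟩ := h (c P Y (n + 1) x) (by
      refine (c_dEv P Y hU g (n + 1) x).symm.trans ?_
      exact (congrArg _ hx).trans (map_zero _))
    obtain ⟨y, rfl⟩ := c_surjective P Y n y
    exact ⟨y, c_injective P Y (n + 1) ((c_dEv P Y hU g n y).trans hy)⟩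

theorem exactAt_of_ex {U : C} (hU : IsTerminal U) (g : Y ⟶ U) (n : ℕ) (h : ∀ m : Model g, m.Ex P (n + 1)) :
    ((cechComplexFunctor (A := AddCommGrpCat.{w}) (fun _ : PUnit.{w + 1} => Y)).obj P).ExactAt (n + 1) :=
  (exactAt_iff P Y hU g n).2 (h _)

end K569.CechTerm
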