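import Mathlib.LinearAlgebra.TensorProduct.Finiteness
import Mathlib.LinearAlgebra.TensorProduct.RightExactness
import Mathlib.LinearAlgebra.DirectSum.TensorProduct
import Mathlib.Algebra.DirectSum.Module

/-!
# Algebra for the cokernel of a map into `underline M`
-/

open TensorProduct DirectSum

namespace K569.CokAlg

variable {A : Type*} [CommRing A] (C : Type*) [AddCommGroup C] [Module A C]

section Push

variable {P P' M : Type*} [AddCommGroup P] [Module A P] [AddCommGroup P'] [Module A P']
  [AddCommGroup M] [Module A M]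

theorem mkQ_exact (f : P →ₗ[A] P') :
    Function.Exact (f.lTensor C) ((LinearMap.range f).mkQ.lTensor C) :=
  lTensor_exact C (f := f) (g := (LinearMap.range f).mkQ) (LinearMap.exact_map_mkQ_range f)
    (Submodule.mkQ_surjective _)

theorem mkQ_lTensor_surjective (N : Submodule A P) :
    Function.Surjective (N.mkQ.lTensor C) :=
  LinearMap.lTensor_surjective C (Submodule.mkQ_surjective _)

variable (g : P →ₗ[A] M) (v : P →ₗ[A] P')

/-- the pushout of `g` and `v` -/
abbrev Q := (M × P') ⧸ LinearMap.range (g.prod v)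

/-- the cokernel of `v` -/
abbrev K := P' ⧸ LinearMap.range v

/-- the map from `M` to the pushout -/
def q1 : M →ₗ[A] Q g v := (LinearMap.range (g.prod v)).mkQ ∘ₗ LinearMap.inl A M P'

/-- the map from the pushout to the cokernel -/
def r : Q g v →ₗ[A] K v :=
  (LinearMap.range (g.prod v)).liftQ ((LinearMap.range v).mkQ ∘ₗ LinearMap.snd A M P') (by
    rintro _ ⟨x, rfl⟩
    rw [LinearMap.mem_ker, LinearMap.comp_apply, Submodule.mkQ_apply,
      Submodule.Quotient.mk_eq_zero]
    exact ⟨x, rfl⟩)

theorem r_comp : r g v ∘ₗ (LinearMap.range (g.prod v)).mkQ =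
    (LinearMap.range v).mkQ ∘ₗ LinearMap.snd A M P' :=
  Submodule.liftQ_mkQ _ _ _

theorem q1_eq_zero_iff (y : C ⊗[A] M) :
    (q1 g v).lTensor C y = 0 ↔ ∃ x : C ⊗[A] P, v.lTensor C x = 0 ∧ g.lTensor C x = y := by
  have hf : LinearMap.fst A M P' ∘ₗ g.prod v = g := LinearMap.ext fun _ => rfl
  have hs : LinearMap.snd A M P' ∘ₗ g.prod v = v := LinearMap.ext fun _ => rfl
  have hfi : LinearMap.fst A M P' ∘ₗ LinearMap.inl A M P' = LinearMap.id :=
    LinearMap.ext fun _ => rfl
  have hsi : LinearMap.snd A M P' ∘ₗ LinearMap.inl A M P' = 0 :=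
    LinearMap.ext fun _ => rfl
  constructor
  · intro h
    rw [q1, LinearMap.lTensor_comp, LinearMap.comp_apply] at h
    obtain ⟨x, hx⟩ := ((mkQ_exact C (g.prod v)) _).1 h
    refine ⟨x, ?_, ?_⟩
    · have := congrArg ((LinearMap.snd A M P').lTensor C) hx
      rw [← LinearMap.comp_apply, ← LinearMap.lTensor_comp, hs, ← LinearMap.comp_apply,
        ← LinearMap.lTensor_comp, hsi] at this
      simpa using this
    · have := congrArg ((LinearMap.fst A M P').lTensor C) hx
      rw [← LinearMap.comp_apply, ← LinearMap.lTensor_comp, hf, ← LinearMap.comp_apply,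
        ← LinearMap.lTensor_comp, hfi] at this
      simpa using this
  · rintro ⟨x, hx, rfl⟩
    rw [q1, LinearMap.lTensor_comp, LinearMap.comp_apply]
    apply ((mkQ_exact C (g.prod v)) _).2
    refine ⟨x, ?_⟩
    have h : g.prod v = LinearMap.inl A M P' ∘ₗ g + LinearMap.inr A M P' ∘ₗ v := by
      ext z <;> simp
    conv_lhs => rw [h]
    rw [LinearMap.lTensor_add, LinearMap.add_apply, LinearMap.lTensor_comp,
      LinearMap.lTensor_comp, LinearMap.comp_apply, LinearMap.comp_apply, hx, map_zero, add_zero]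

theorem r_eq_zero_iff (z : C ⊗[A] Q g v) :
    (r g v).lTensor C z = 0 ↔ ∃ y : C ⊗[A] M, (q1 g v).lTensor C y = z := by
  constructor
  · intro h
    obtain ⟨w, rfl⟩ := mkQ_lTensor_surjective C (LinearMap.range (g.prod v)) z
    rw [← LinearMap.comp_apply, ← LinearMap.lTensor_comp, r_comp, LinearMap.lTensor_comp,
      LinearMap.comp_apply] at h
    obtain ⟨x, hx⟩ := ((mkQ_exact C v) _).1 h
    have hw : w = (LinearMap.inl A M P').lTensor C ((LinearMap.fst A M P').lTensor C w) +
        (LinearMap.inr A M P').lTensor C ((LinearMap.snd A M P').lTensor C w) := by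
      have h : (LinearMap.id : M × P' →ₗ[A] M × P') = LinearMap.inl A M P' ∘ₗ
          LinearMap.fst A M P' + LinearMap.inr A M P' ∘ₗ LinearMap.snd A M P' := by
        ext z <;> simp
      have h2 := congrArg (fun f => f.lTensor C w) h
      simpa only [LinearMap.lTensor_id, LinearMap.id_apply, LinearMap.lTensor_add,
        LinearMap.add_apply, LinearMap.lTensor_comp, LinearMap.comp_apply] using h2
    refine ⟨(LinearMap.fst A M P').lTensor C w - g.lTensor C x, ?_⟩
    have hz : (LinearMap.range (g.prod v)).mkQ.lTensor C ((g.prod v).lTensor C x) = 0 :=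
      ((mkQ_exact C (g.prod v)) _).2 ⟨x, rfl⟩
    have h : g.prod v = LinearMap.inl A M P' ∘ₗ g + LinearMap.inr A M P' ∘ₗ v := by
      ext z <;> simp
    have hz' : (g.prod v).lTensor C x = (LinearMap.inl A M P').lTensor C (g.lTensor C x) +
        (LinearMap.inr A M P').lTensor C (v.lTensor C x) := by
      conv_lhs => rw [h]
      rw [LinearMap.lTensor_add, LinearMap.add_apply, LinearMap.lTensor_comp,
        LinearMap.lTensor_comp, LinearMap.comp_apply, LinearMap.comp_apply]
    rw [hz', map_add] at hz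
    rw [map_sub]
    conv_rhs => rw [hw, map_add, ← hx]
    rw [q1, LinearMap.lTensor_comp, LinearMap.comp_apply, LinearMap.comp_apply]
    rw [eq_neg_of_add_eq_zero_right hz, sub_eq_add_neg]
  · rintro ⟨y, rfl⟩
    rw [← LinearMap.comp_apply, ← LinearMap.lTensor_comp]
    have : r g v ∘ₗ q1 g v = 0 := by
      rw [q1, ← LinearMap.comp_assoc, r_comp]
      ext; simp
    rw [this]
    simp

end Push

section Sum

variable {ι : Type*} [DecidableEq ι] (P P' : ι → Type*) [∀ i, AddCommGroup (P i)]
  [∀ i, Module A (P i)] [∀ i, AddCommGroup (P' i)] [∀ i, Module A (P' i)]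
  (v : ∀ i, P i →ₗ[A] P' i)

theorem exists_decomp (x : C ⊗[A] (⨁ i, P i)) :
    ∃ (S : Finset ι) (z : ∀ i, C ⊗[A] P i),
      x = ∑ i ∈ S, (DirectSum.lof A ι P i).lTensor C (z i) := by
  classical
  induction x using TensorProduct.induction_on with
  | zero => exact ⟨∅, 0, by simp⟩
  | tmul c w =>
    refine ⟨DFinsupp.support w, fun i => c ⊗ₜ w i, ?_⟩
    conv_lhs => rw [← DirectSum.sum_support_of w]
    rw [TensorProduct.tmul_sum]
    rfl
  | add x y hx hy =>
    obtain ⟨S, z, hz⟩ := hx
    obtain ⟨S', z', hz'⟩ := hy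
    refine ⟨S ∪ S', fun i => (if i ∈ S then z i else 0) + (if i ∈ S' then z' i else 0), ?_⟩
    simp only [map_add, Finset.sum_add_distrib]
    congr 1
    · rw [hz]
      simp only [apply_ite (LinearMap.lTensor C (DirectSum.lof A ι P _)), map_zero]
      rw [Finset.sum_ite_mem, Finset.union_inter_cancel_left]
    · rw [hz']
      simp only [apply_ite (LinearMap.lTensor C (DirectSum.lof A ι P _)), map_zero]
      rw [Finset.sum_ite_mem, Finset.union_inter_cancel_right]

variable {C P P'} in
/-- If the direct sum of the maps `v i` kills `x`, then `x` is a finite sum of elements killed by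
the `v i`. -/
theorem exists_decomp_of_eq_zero (x : C ⊗[A] (⨁ i, P i))
    (hx : (DirectSum.lmap v).lTensor C x = 0) :
    ∃ (S : Finset ι) (z : ∀ i, C ⊗[A] P i), (∀ i ∈ S, (v i).lTensor C (z i) = 0) ∧
      x = ∑ i ∈ S, (DirectSum.lof A ι P i).lTensor C (z i) := by
  obtain ⟨S, z, rfl⟩ := exists_decomp C P x
  refine ⟨S, z, fun j hj => ?_, rfl⟩
  have := congrArg ((DirectSum.component A ι P' j).lTensor C) hx
  rw [map_zero, map_sum, map_sum, Finset.sum_eq_single j] at this
  · rw [← LinearMap.comp_apply, ← LinearMap.comp_apply, ← LinearMap.lTensor_comp,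
      ← LinearMap.lTensor_comp] at this
    have h : ((DirectSum.component A ι P' j) ∘ₗ (DirectSum.lmap v)) ∘ₗ
      (DirectSum.lof A ι P j) = v j := by
      ext t; simp
    rw [h] at this
    exact this
  · intro i _ hij
    rw [← LinearMap.comp_apply, ← LinearMap.comp_apply, ← LinearMap.lTensor_comp,
      ← LinearMap.lTensor_comp]
    have h : ((DirectSum.component A ι P' j) ∘ₗ (DirectSum.lmap v)) ∘ₗ
      (DirectSum.lof A ι P i) = 0 := by
      ext t
      simp only [LinearMap.comp_apply, DirectSum.lmap_lof, LinearMap.zero_apply]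
      rw [DirectSum.component.of, dif_neg hij]
    rw [h]; simp
  · intro h; exact (h hj).elim

end Sum

end K569.CokAlg
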