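import Mathlib.LinearAlgebra.TensorProduct.Finiteness
import Mathlib.LinearAlgebra.TensorProduct.RightExactness
import Mathlib.LinearAlgebra.DirectSum.Finsupp

/-!
# An equational criterion for elements of the kernel of `B ⊗ M → B ⊗ N`
-/

open TensorProduct

namespace K569.Tens

variable {A : Type*} [CommRing A] {B M N : Type*} [AddCommGroup B] [Module A B]
  [AddCommGroup M] [Module A M] [AddCommGroup N] [Module A N]

theorem lTensor_ker_exact (q : M →ₗ[A] N) (hq : Function.Surjective q) :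
    Function.Exact (LinearMap.lTensor B (LinearMap.ker q).subtype) (LinearMap.lTensor B q) :=
  lTensor_exact (M := LinearMap.ker q) B (f := (LinearMap.ker q).subtype) (g := q)
    (LinearMap.exact_subtype_ker_map q) hq

theorem exists_ker_sum (q : M →ₗ[A] N) (hq : Function.Surjective q) (e : B ⊗[A] M)
    (he : q.lTensor B e = 0) :
    ∃ (l : ℕ) (d : Fin l → B) (κ : Fin l → M), (∀ j, q (κ j) = 0) ∧
      e = ∑ j, d j ⊗ₜ[A] (κ j) := by
  obtain ⟨y, hy⟩ := (lTensor_ker_exact (B := B) q hq e).1 he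
  obtain ⟨l, d, κ, rfl⟩ := TensorProduct.exists_sum_tmul_eq y
  refine ⟨l, d, fun j => κ j, fun j => (κ j).2, ?_⟩
  rw [← hy, map_sum]
  rfl

theorem exists_relations_aux (φ : M →ₗ[A] N) (z : B ⊗[A] M) (hz : φ.lTensor B z = 0) :
    ∃ (k l : ℕ) (T : Finset N) (a : T → (Fin k ⊕ Fin l) → A) (c : (Fin k ⊕ Fin l) → B)
      (g : (Fin k ⊕ Fin l) → M) (h : T → N),
      (∀ r, ∑ i, a r i • c i = 0) ∧ (∀ i, φ (g i) = ∑ r, a r i • h r) ∧
      z = ∑ i, c i ⊗ₜ[A] g i := by
  classical
  obtain ⟨k, b, m, rfl⟩ := TensorProduct.exists_sum_tmul_eq z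
  have hq1 : ∀ n : N, Finsupp.linearCombination A (id : N → N) (Finsupp.single n 1) = n := by
    intro n; simp
  obtain ⟨l, d, κ, hκ, hy⟩ := exists_ker_sum (B := B)
    (Finsupp.linearCombination A (id : N → N)) (fun n => ⟨_, hq1 n⟩)
    (∑ i, b i ⊗ₜ[A] (Finsupp.single (φ (m i)) (1 : A))) (by
      rw [← hz]
      simp only [map_sum, LinearMap.lTensor_tmul, hq1])
  let T : Finset N := (Finset.univ.biUnion fun j => (κ j : N →₀ A).support) ∪
    Finset.univ.image fun i => φ (m i)
  have h1 : ∀ r : T, ∑ i : Fin k ⊕ Fin l, (Sum.elim (fun i => Finsupp.single (φ (m i)) (1 : A) r)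
    (fun j => -((κ j : N →₀ A) r)) i) • (Sum.elim b d i) = 0 := by
    intro r
    have := congrArg (fun t => TensorProduct.finsuppScalarRight A A B N t (r : N)) hy
    simp only [map_sum,
      Finsupp.finsetSum_apply, TensorProduct.finsuppScalarRight_apply_tmul_apply] at this
    simp only [Fintype.sum_sum_type, Sum.elim_inl, Sum.elim_inr, neg_smul, Finset.sum_neg_distrib]
    rw [this]
    exact add_neg_cancel _
  have h2 : ∀ i : Fin k ⊕ Fin l, φ (Sum.elim m (fun _ => 0) i) =
    ∑ r : T, (Sum.elim (fun i => Finsupp.single (φ (m i)) (1 : A) r)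
    (fun j => -((κ j : N →₀ A) r)) i) • (r : N) := by
    rintro (i | j)
    · simp only [Sum.elim_inl]
      rw [Finset.sum_coe_sort T (fun r => (Finsupp.single (φ (m i)) (1 : A) r) • r)]
      rw [Finset.sum_eq_single (φ (m i))]
      · simp
      · intro r _ hr
        rw [Finsupp.single_apply, if_neg (Ne.symm hr), zero_smul]
      · intro h
        exact (h (Finset.mem_union_right _ (Finset.mem_image_of_mem _ (Finset.mem_univ i)))).elim
    · simp only [Sum.elim_inr, map_zero]
      rw [Finset.sum_coe_sort T (fun r => (-((κ j : N →₀ A) r)) • r)]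
      have hκ := hκ j
      rw [Finsupp.linearCombination_apply] at hκ
      rw [Finsupp.sum_of_support_subset _ (s := T) ?_ _ (by simp)] at hκ
      · simp only [neg_smul, Finset.sum_neg_distrib]
        rw [zero_eq_neg]
        exact hκ
      · intro x hx
        exact Finset.mem_union_left _ (Finset.mem_biUnion.2 ⟨j, Finset.mem_univ _, hx⟩)
  refine ⟨k, l, T, _, Sum.elim b d, Sum.elim m (fun _ => 0), fun r => (r : N),
    h1, h2, ?_⟩
  simp [Fintype.sum_sum_type]

/-- If `φ` kills `z` after tensoring with `B`, then there are a matrix `a`, a solution `c` of the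
linear system `a` in `B`, and lifts `g`, `h` with `φ ∘ g = h ∘ a` and `z = ∑ c_i ⊗ g_i`. -/
theorem exists_relations (φ : M →ₗ[A] N) (z : B ⊗[A] M) (hz : φ.lTensor B z = 0) :
    ∃ (n m : ℕ) (a : Fin m → Fin n → A) (c : Fin n → B) (g : Fin n → M) (h : Fin m → N),
      (∀ r, ∑ i, a r i • c i = 0) ∧ (∀ i, φ (g i) = ∑ r, a r i • h r) ∧
      z = ∑ i, c i ⊗ₜ[A] g i := by
  classical
  obtain ⟨k, l, T, a, c, g, h, h₁, h₂, h₃⟩ := exists_relations_aux φ z hz
  let e := (finSumFinEquiv (m := k) (n := l)).symm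
  let f := (Fintype.equivFin T).symm
  refine ⟨k + l, Fintype.card T, fun r i => a (f r) (e i), fun i => c (e i), fun i => g (e i),
    fun r => h (f r), fun r => ?_, fun i => ?_, ?_⟩
  · rw [e.sum_comp (fun i => a (f r) i • c i)]
    exact h₁ _
  · rw [f.sum_comp (fun r => a r (e i) • h r)]
    exact h₂ _
  · rw [h₃, e.sum_comp (fun i => c i ⊗ₜ[A] g i)]

end K569.Tens
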