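import Groth.Agent.Adeq.K569.Basic
import Groth.Agent.Adeq.K569.Tens
import Groth.Agent.Adeq.K569.AB
import Mathlib.RingTheory.Finiteness.Finsupp
import Mathlib.LinearAlgebra.FreeModule.Finite.Basic

/-!
# Linearly adequate functors given by matrices, and the surjection from a sum of them
-/

universe u

open CategoryTheory Limits Opposite TensorProduct Adeq

namespace K569.Lin

open K569.Basic

noncomputable section

variable {A : Type u} [CommRing A]

variable (A) in
/-- the standard free module of rank `n`, in the universe of the values -/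
abbrev freeMod (n : ℕ) : ModuleCat.{u + 1} A := ModuleCat.of A (ULift.{u + 1} (Fin n) →₀ A)

/-- the map out of a free module -/
abbrev lc {n : ℕ} {M : ModuleCat.{u + 1} A} (g : Fin n → M) : freeMod A n ⟶ M :=
  ModuleCat.ofHom (Finsupp.linearCombination A (fun i : ULift.{u + 1} (Fin n) => g i.down))

theorem lc_single {n : ℕ} {M : ModuleCat.{u + 1} A} (g : Fin n → M) (i : ULift.{u + 1} (Fin n)) :
    (lc g).hom (Finsupp.single i 1) = g i.down := by
  change Finsupp.linearCombination A _ _ = _
  simp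

variable (A) in
/-- basis vector -/
abbrev bv {n : ℕ} (i : Fin n) : freeMod A n := Finsupp.single (ULift.up.{u + 1} i) (1 : A)

/-- the map of free modules attached to a matrix -/
abbrev matHom {n m : ℕ} (a : Fin m → Fin n → A) : freeMod A n ⟶ freeMod A m :=
  lc fun i => ∑ r, a r i • bv A r

theorem free_hom_ext {n : ℕ} {M : ModuleCat.{u + 1} A} {f g : freeMod A n ⟶ M}
    (h : ∀ i : Fin n, f.hom (bv A i) = g.hom (bv A i)) : f = g := by
  apply ModuleCat.hom_ext
  apply Finsupp.lhom_ext'
  rintro ⟨i⟩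
  ext
  exact h i

theorem lc_bv {n : ℕ} {M : ModuleCat.{u + 1} A} (g : Fin n → M) (i : Fin n) :
    (lc g).hom (bv A i) = g i := lc_single g _

/-- the linearly adequate functor of a matrix -/
abbrev linF {n m : ℕ} (a : Fin m → Fin n → A) : MVF A :=
  kernel ((underline A).map (matHom a))

theorem linAdequate_linF {n m : ℕ} (a : Fin m → Fin n → A) : linAdequate A (linF a) :=
  ⟨_, _, matHom a, inferInstance, inferInstance, inferInstance, inferInstance, ⟨Iso.refl _⟩⟩

/-- element of `linF a` -/
theorem exists_lin_elt {n m : ℕ} (a : Fin m → Fin n → A) (B : Alg A) (c : Fin n → B)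
    (hc : ∀ r, ∑ i, a r i • c i = 0) :
    ∃ l : (linF a).obj (pt B), (kernel.ι ((underline A).map (matHom a))).app (pt B) l =
      (∑ i, c i ⊗ₜ[A] bv A i : (B : Type u) ⊗[A] (freeMod A n)) := by
  apply exists_kernel
  rw [underline_map_app]
  rw [map_sum]
  have : ∀ i : Fin n, ((matHom a).hom.baseChange B) (c i ⊗ₜ[A] bv A i) =
      ∑ r, (a r i • c i) ⊗ₜ[A] bv A r := by
    intro i
    rw [LinearMap.baseChange_tmul]
    rw [lc_bv, TensorProduct.tmul_sum]
    refine Finset.sum_congr rfl fun r _ => ?_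
    rw [TensorProduct.tmul_smul, TensorProduct.smul_tmul']
  rw [Finset.sum_congr rfl fun i _ => this i, Finset.sum_comm]
  refine Finset.sum_eq_zero fun r _ => ?_
  rw [← TensorProduct.sum_tmul, hc r, TensorProduct.zero_tmul]
  rfl

theorem exists_lin_of_kernel {M N : ModuleCat.{u + 1} A} (φ : M ⟶ N) (B : Alg A)
    (ξ : (kernel ((underline A).map φ)).obj (pt B)) :
    ∃ (n m : ℕ) (a : Fin m → Fin n → A) (p : linF a ⟶ kernel ((underline A).map φ))
      (l : (linF a).obj (pt B)), p.app (pt B) l = ξ := by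
  obtain ⟨n, m, a, c, g, h, h₁, h₂, h₃⟩ := Tens.exists_relations (B := (B : Type u)) φ.hom
    ((kernel.ι ((underline A).map φ)).app (pt B) ξ)
    (kernel_condition_apply ((underline A).map φ) B ξ)
  obtain ⟨l, hl⟩ := exists_lin_elt a B c h₁
  have w : matHom a ≫ lc h = lc g ≫ φ := by
    apply free_hom_ext
    intro i
    rw [ModuleCat.hom_comp, ModuleCat.hom_comp, LinearMap.comp_apply, LinearMap.comp_apply,
      lc_bv, lc_bv, map_sum, h₂ i]
    refine Finset.sum_congr rfl fun r _ => ?_
    rw [map_smul, lc_bv]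
  refine ⟨n, m, a, kernel.map _ _ ((underline A).map (lc g)) ((underline A).map (lc h))
    (by rw [← Functor.map_comp, w, Functor.map_comp]), l, ?_⟩
  apply kernel_ι_injective
  rw [← comp_app_apply, kernel.lift_ι, comp_app_apply, hl, h₃, underline_map_app, map_sum]
  refine Finset.sum_congr rfl fun i _ => ?_
  rw [LinearMap.baseChange_tmul, lc_bv]

theorem exists_lin {F : MVF A} (hF : adequate A F) (B : Alg A) (ξ : F.obj (pt B)) :
    ∃ (n m : ℕ) (a : Fin m → Fin n → A) (p : linF a ⟶ F)
      (l : (linF a).obj (pt B)), p.app (pt B) l = ξ := by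
  obtain ⟨M, N, φ, ⟨e⟩⟩ := hF
  obtain ⟨n, m, a, p, l, hl⟩ := exists_lin_of_kernel φ B (e.hom.app (pt B) ξ)
  refine ⟨n, m, a, p ≫ e.inv, l, ?_⟩
  rw [comp_app_apply, hl, ← comp_app_apply, e.hom_inv_id]
  rfl

attribute [local instance] AB.hasCoproduct

/-- index of the canonical sum of linearly adequate functors over `F` -/
abbrev Idx (F : MVF A) : Type (u + 1) :=
  Σ (n m : ℕ) (a : Fin m → Fin n → A), (linF a ⟶ F)

abbrev idxF (F : MVF A) (i : Idx F) : MVF A := linF i.2.2.1

abbrev canon (F : MVF A) : (∐ idxF F) ⟶ F := Sigma.desc fun i => i.2.2.2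

theorem epi_canon {F : MVF A} (hF : adequate A F) : Epi (canon F) := by
  rw [epi_iff]
  intro B ξ
  obtain ⟨n, m, a, p, l, hl⟩ := exists_lin hF B ξ
  refine ⟨(Sigma.ι (idxF F) ⟨n, m, a, p⟩).app (pt B) l, ?_⟩
  rw [← comp_app_apply, Sigma.ι_desc]
  exact hl

end

end K569.Lin
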