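import Mathlib.Algebra.MvPolynomial.Basic
import Mathlib.Algebra.MvPolynomial.Eval
import Mathlib.Algebra.Polynomial.AlgebraMap
import Mathlib.Algebra.Polynomial.Coeff
import Mathlib.RingTheory.Ideal.Quotient.Operations
import Mathlib.RingTheory.TensorProduct.Basic
import Mathlib.RingTheory.PolynomialAlgebra

/-!
# The universal algebra of solutions of a linear system, and homogeneous elements
-/

universe u w

open TensorProduct Polynomial

namespace K569.Homog

noncomputable section

variable {A : Type u} [CommRing A] {n m : ℕ} (a : Fin m → Fin n → A)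

/-- the ideal of relations -/
abbrev relI : Ideal (MvPolynomial (Fin n) A) := Ideal.span (Set.range fun r : Fin m =>
    (∑ i, a r i • (MvPolynomial.X i : MvPolynomial (Fin n) A)))

/-- the universal algebra of solutions of the linear system `a` -/
def Ua : Type u := MvPolynomial (Fin n) A ⧸ relI a

instance : CommRing (Ua a) := inferInstanceAs (CommRing (MvPolynomial (Fin n) A ⧸ relI a))

instance : Algebra A (Ua a) := inferInstanceAs (Algebra A (MvPolynomial (Fin n) A ⧸ relI a))

/-- the quotient map -/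
def uq : MvPolynomial (Fin n) A →ₐ[A] Ua a := Ideal.Quotient.mkₐ A (relI a)

theorem uq_surjective : Function.Surjective (uq a) := Ideal.Quotient.mk_surjective

/-- the universal solution -/
def ux (i : Fin n) : Ua a := uq a (MvPolynomial.X i)

theorem ux_rel (r : Fin m) : ∑ i, a r i • ux a i = 0 := by
  have h : uq a (∑ i, a r i • (MvPolynomial.X i : MvPolynomial (Fin n) A)) = 0 :=
    Ideal.Quotient.eq_zero_iff_mem.2 (Ideal.subset_span ⟨r, rfl⟩)
  rw [map_sum] at h
  simp only [map_smul] at h
  exact h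

variable {a}

/-- the classifying map of a solution -/
def cls {C : Type*} [CommRing C] [Algebra A C] (c : Fin n → C)
    (hc : ∀ r, ∑ i, a r i • c i = 0) : Ua a →ₐ[A] C :=
  Ideal.Quotient.liftₐ (relI a) (MvPolynomial.aeval c) (by
    intro x hx
    rw [← RingHom.mem_ker]
    revert x
    change relI a ≤ RingHom.ker (MvPolynomial.aeval c : MvPolynomial (Fin n) A →ₐ[A] C)
    rw [Ideal.span_le]
    rintro _ ⟨r, rfl⟩
    simp only [SetLike.mem_coe, RingHom.mem_ker, map_sum, map_smul, MvPolynomial.aeval_X]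
    exact hc r)

@[simp] theorem cls_ux {C : Type*} [CommRing C] [Algebra A C] (c : Fin n → C)
    (hc : ∀ r, ∑ i, a r i • c i = 0) (i : Fin n) : cls c hc (ux a i) = c i := by
  change (MvPolynomial.aeval c) (MvPolynomial.X i) = c i
  simp

theorem ua_ext {C : Type*} [CommRing C] [Algebra A C] {f g : Ua a →ₐ[A] C}
    (h : ∀ i, f (ux a i) = g (ux a i)) : f = g := by
  have h' : f.comp (uq a) = g.comp (uq a) := MvPolynomial.algHom_ext h
  ext x
  obtain ⟨y, rfl⟩ := uq_surjective a x
  exact DFunLike.congr_fun h' y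

theorem map_rel {C C' : Type*} [CommRing C] [Algebra A C] [CommRing C'] [Algebra A C']
    (f : C →ₐ[A] C') {c : Fin n → C} (hc : ∀ r, ∑ i, a r i • c i = 0) (r : Fin m) :
    ∑ i, a r i • f (c i) = 0 := by
  have := congrArg f (hc r)
  rw [map_sum, map_zero] at this
  simpa only [map_smul] using this

theorem smul_rel {C : Type*} [CommRing C] [Algebra A C] (t : C) {c : Fin n → C}
    (hc : ∀ r, ∑ i, a r i • c i = 0) (r : Fin m) :
    ∑ i, a r i • (t * c i) = 0 := by
  have := congrArg (fun x => t * x) (hc r)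
  simp only [mul_zero, Finset.mul_sum, mul_smul_comm] at this
  exact this

variable (a) in
/-- the constant inclusion -/
def cst : Ua a →ₐ[A] (Ua a)[X] := Polynomial.CAlgHom

variable (a) in
/-- the scaling map -/
def scl : Ua a →ₐ[A] (Ua a)[X] :=
  cls (fun i => X * C (ux a i)) (smul_rel X (map_rel (cst a) (ux_rel a)))

theorem scl_ux (i : Fin n) : scl a (ux a i) = X * C (ux a i) := cls_ux _ _ _

/-- coefficient of degree `k`, as a linear map over the base ring -/
def cf (R : Type*) [CommRing R] [Algebra A R] (k : ℕ) : R[X] →ₗ[A] R :=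
  (Polynomial.lcoeff R k).restrictScalars A

@[simp] theorem cf_apply (R : Type*) [CommRing R] [Algebra A R] (k : ℕ) (p : R[X]) :
    cf (A := A) R k p = p.coeff k := rfl

theorem scl_coeff (b : Ua a) :
    (∃ β : A, (scl a b).coeff 0 = algebraMap A (Ua a) β) ∧
      ∃ α : Fin n → A, (scl a b).coeff 1 = ∑ i, α i • ux a i := by
  obtain ⟨q, rfl⟩ := uq_surjective a b
  induction q using MvPolynomial.induction_on with
  | C r =>
    have : scl a (uq a (MvPolynomial.C r)) = algebraMap A _ r := by
      have h : uq a (MvPolynomial.C r) = algebraMap A _ r := (uq a).commutes r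
      rw [h, AlgHom.commutes]
    rw [this, Polynomial.algebraMap_apply]
    refine ⟨⟨r, by simp⟩, ⟨0, by simp⟩⟩
  | add p q hp hq =>
    obtain ⟨⟨β, hβ⟩, α, hα⟩ := hp
    obtain ⟨⟨β', hβ'⟩, α', hα'⟩ := hq
    rw [map_add, map_add, Polynomial.coeff_add, Polynomial.coeff_add, hβ, hβ', hα, hα']
    refine ⟨⟨β + β', by rw [map_add]⟩, ⟨α + α', ?_⟩⟩
    simp only [Pi.add_apply, add_smul, Finset.sum_add_distrib]
  | mul_X p i hp =>
    obtain ⟨⟨β, hβ⟩, α, hα⟩ := hp
    have h : scl a (uq a (p * MvPolynomial.X i)) =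
        X * (scl a (uq a p) * C (ux a i)) := by
      rw [map_mul, map_mul]
      change _ * scl a (ux a i) = _
      rw [scl_ux]
      ring
    rw [h]
    refine ⟨⟨0, by simp⟩, ⟨Pi.single i β, ?_⟩⟩
    rw [Polynomial.coeff_X_mul, Polynomial.coeff_mul_C, hβ, Finset.sum_eq_single i]
    · rw [Pi.single_eq_same, Algebra.smul_def]
    · intro j _ hj
      rw [Pi.single_eq_of_ne hj, zero_smul]
    · intro h; exact (h (Finset.mem_univ i)).elim

variable {M : Type w} [AddCommGroup M] [Module A M]

theorem exists_of_scl (μ : Ua a ⊗[A] M) :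
    ∃ g : Fin n → M, ((cf (A := A) (Ua a) 1) ∘ₗ (scl a).toLinearMap).rTensor M μ =
      ∑ i, ux a i ⊗ₜ[A] g i := by
  induction μ using TensorProduct.induction_on with
  | zero => exact ⟨0, by simp⟩
  | tmul b x =>
    obtain ⟨-, α, hα⟩ := scl_coeff b
    refine ⟨fun i => α i • x, ?_⟩
    rw [LinearMap.rTensor_tmul]
    have : ((cf (A := A) (Ua a) 1) ∘ₗ (scl a).toLinearMap) b = ∑ i, α i • ux a i := hα
    rw [this, TensorProduct.sum_tmul]
    refine Finset.sum_congr rfl fun i _ => ?_
    rw [TensorProduct.smul_tmul]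
  | add x y hx hy =>
    obtain ⟨g, hg⟩ := hx
    obtain ⟨g', hg'⟩ := hy
    refine ⟨g + g', ?_⟩
    rw [map_add, hg, hg', ← Finset.sum_add_distrib]
    refine Finset.sum_congr rfl fun i _ => ?_
    rw [Pi.add_apply, TensorProduct.tmul_add]

theorem cf_smul_C (R : Type*) [CommRing R] [Algebra A R] (μ : R ⊗[A] M) :
    ((cf (A := A) R 1).rTensor M) ((X : R[X]) •
      ((Polynomial.CAlgHom : R →ₐ[A] R[X]).toLinearMap.rTensor M μ)) = μ := by
  induction μ using TensorProduct.induction_on with
  | zero => simp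
  | tmul b x =>
    rw [LinearMap.rTensor_tmul, TensorProduct.smul_tmul', LinearMap.rTensor_tmul]
    congr 1
    change ((X : R[X]) • (C b : R[X])).coeff 1 = b
    rw [smul_eq_mul, Polynomial.coeff_X_mul, Polynomial.coeff_C_zero]
  | add x y hx hy =>
    rw [map_add, smul_add, map_add, hx, hy]

/-- a homogeneous element of degree one is linear -/
theorem exists_of_homog (μ : Ua a ⊗[A] M)
    (hμ : (scl a).toLinearMap.rTensor M μ =
      (X : (Ua a)[X]) • (cst a).toLinearMap.rTensor M μ) :
    ∃ g : Fin n → M, μ = ∑ i, ux a i ⊗ₜ[A] g i := by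
  obtain ⟨g, hg⟩ := exists_of_scl (a := a) μ
  refine ⟨g, ?_⟩
  rw [← hg, LinearMap.rTensor_comp, LinearMap.comp_apply, hμ]
  exact (cf_smul_C (Ua a) μ).symm

end

end K569.Homog
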