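import Groth.Agent.Adeq.K569.Basic
import Groth.Agent.Adeq.K569.Homog
import Mathlib.LinearAlgebra.Basis.Defs
import Mathlib.LinearAlgebra.TensorProduct.Basis
import Mathlib.LinearAlgebra.FreeModule.Finite.Basic
import Mathlib.LinearAlgebra.TensorProduct.Tower
import Mathlib.RingTheory.TensorProduct.Free

/-!
# Linearly adequate functors are represented (as functors to sets), homogeneous maps are linear
-/

universe u

open CategoryTheory Limits Opposite TensorProduct Adeq

namespace K569.Repr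

open K569.Basic K569.Homog

noncomputable section

variable {A : Type u} [CommRing A] {P P' : ModuleCat.{u + 1} A} (φ₀ : P ⟶ P') {n m : ℕ}
  (b : Module.Basis (Fin n) A P) (b' : Module.Basis (Fin m) A P')

/-- the matrix of a map of free modules -/
def mat : Fin m → Fin n → A := fun r i => b'.repr (φ₀.hom (b i)) r

theorem map_b (i : Fin n) : φ₀.hom (b i) = ∑ r, mat φ₀ b b' r i • b' r :=
  (b'.sum_repr (φ₀.hom (b i))).symm

/-- coordinates of an element of `C ⊗ P` -/
def crd (C : Type u) [CommRing C] [Algebra A C] (z : C ⊗[A] P) (i : Fin n) : C :=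
  (Algebra.TensorProduct.basis C b).repr z i

theorem sum_crd (C : Type u) [CommRing C] [Algebra A C] (z : C ⊗[A] P) :
    ∑ i, crd b C z i ⊗ₜ[A] b i = z := by
  have := (Algebra.TensorProduct.basis C b).sum_repr z
  simp only [Algebra.TensorProduct.basis_apply, TensorProduct.smul_tmul', smul_eq_mul,
    mul_one] at this
  exact this

theorem crd_unique (C : Type u) [CommRing C] [Algebra A C] (c c' : Fin n → C)
    (h : ∑ i, c i ⊗ₜ[A] b i = ∑ i, c' i ⊗ₜ[A] b i) : c = c' := by
  have key : ∀ c : Fin n → C, ∑ i, c i ⊗ₜ[A] b i =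
      ∑ i, c i • (Algebra.TensorProduct.basis C b) i := by
    intro c
    simp only [Algebra.TensorProduct.basis_apply, TensorProduct.smul_tmul', smul_eq_mul, mul_one]
  rw [key, key] at h
  have := congrArg (fun z => (Algebra.TensorProduct.basis C b).repr z) h
  funext i
  have h2 := DFunLike.congr_fun this i
  simpa [Finsupp.single_apply] using h2

theorem baseChange_sum (C : Type u) [CommRing C] [Algebra A C] (c : Fin n → C) :
    φ₀.hom.baseChange C (∑ i, c i ⊗ₜ[A] b i) =
      ∑ r, (∑ i, mat φ₀ b b' r i • c i) ⊗ₜ[A] b' r := by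
  rw [map_sum]
  simp only [LinearMap.baseChange_tmul, map_b φ₀ b b', TensorProduct.tmul_sum,
    TensorProduct.tmul_smul, TensorProduct.sum_tmul]
  rw [Finset.sum_comm]
  simp only [TensorProduct.smul_tmul']

theorem baseChange_sum_eq_zero_iff (C : Type u) [CommRing C] [Algebra A C] (c : Fin n → C) :
    φ₀.hom.baseChange C (∑ i, c i ⊗ₜ[A] b i) = 0 ↔
      ∀ r, ∑ i, mat φ₀ b b' r i • c i = 0 := by
  rw [baseChange_sum φ₀ b b']
  constructor
  · intro h r
    have := crd_unique b' C (fun r => ∑ i, mat φ₀ b b' r i • c i) (fun _ => 0) (by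
      rw [h]; simp)
    exact congrFun this r
  · intro h
    simp [h]

/-- the functor -/
abbrev L : MVF A := kernel ((underline A).map φ₀)

/-- its inclusion -/
abbrev ι : L φ₀ ⟶ (underline A).obj P := kernel.ι _

theorem ι_inj (C : Alg A) : Function.Injective ((ι φ₀).app (pt C)) := kernel_ι_injective _ C

/-- the universal algebra -/
abbrev UA : Alg A := algOf A (Ua (mat φ₀ b b'))

theorem exists_univ : ∃ ξ : (L φ₀).obj (pt (UA φ₀ b b')),
    (ι φ₀).app _ ξ = (∑ i, ux (mat φ₀ b b') i ⊗ₜ[A] b i : (UA φ₀ b b' : Type u) ⊗[A] P) := by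
  apply exists_kernel
  rw [underline_map_app]
  exact (baseChange_sum_eq_zero_iff φ₀ b b' _ _).2 (ux_rel _)

/-- the universal element -/
def ξ : (L φ₀).obj (pt (UA φ₀ b b')) := (exists_univ φ₀ b b').choose

theorem ι_ξ : (ι φ₀).app _ (ξ φ₀ b b') =
    (∑ i, ux (mat φ₀ b b') i ⊗ₜ[A] b i : (UA φ₀ b b' : Type u) ⊗[A] P) :=
  (exists_univ φ₀ b b').choose_spec

theorem crd_rel (C : Alg A) (l : (L φ₀).obj (pt C)) (r : Fin m) :
    ∑ i, mat φ₀ b b' r i • crd b C ((ι φ₀).app _ l) i = 0 := by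
  revert r
  rw [← baseChange_sum_eq_zero_iff φ₀ b b' C, sum_crd]
  exact kernel_condition_apply ((underline A).map φ₀) C l

/-- the classifying map of an element -/
def clsf (C : Alg A) (l : (L φ₀).obj (pt C)) : UA φ₀ b b' ⟶ C :=
  CommAlgCat.ofHom (cls (crd b C ((ι φ₀).app _ l)) (crd_rel φ₀ b b' C l))

theorem map_clsf (C : Alg A) (l : (L φ₀).obj (pt C)) :
    tr (L φ₀) (clsf φ₀ b b' C l) (ξ φ₀ b b') = l := by
  apply ι_inj
  rw [naturality, ι_ξ, underline_obj_map, map_sum]
  have h : ∀ i, ((CommAlgCat.Hom.hom (clsf φ₀ b b' C l)).toLinearMap.rTensor P)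
      (ux (mat φ₀ b b') i ⊗ₜ[A] b i) = crd b C ((ι φ₀).app _ l) i ⊗ₜ[A] b i := by
    intro i
    rw [LinearMap.rTensor_tmul]
    congr 1
    exact cls_ux _ (crd_rel φ₀ b b' C l) i
  rw [Finset.sum_congr rfl fun i _ => h i]
  exact sum_crd b C _

theorem clsf_unique (C : Alg A) (f g : UA φ₀ b b' ⟶ C)
    (h : tr (L φ₀) f (ξ φ₀ b b') = tr (L φ₀) g (ξ φ₀ b b')) : f = g := by
  apply CommAlgCat.hom_ext
  apply ua_ext
  intro i
  have h' := congrArg (fun z => (ι φ₀).app (pt C) z) h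
  beta_reduce at h'
  rw [naturality, naturality, ι_ξ, underline_obj_map, underline_obj_map, map_sum, map_sum] at h'
  exact congrFun (crd_unique b C (fun i => f.hom (ux _ i)) (fun i => g.hom (ux _ i)) h') i

/-- the polynomial algebra over an algebra -/
abbrev polyAlg (C : Alg A) : Alg A := algOf A (Polynomial (C : Type u))

abbrev cstH : UA φ₀ b b' ⟶ polyAlg (UA φ₀ b b') := CommAlgCat.ofHom (cst (mat φ₀ b b'))

abbrev sclH : UA φ₀ b b' ⟶ polyAlg (UA φ₀ b b') := CommAlgCat.ofHom (scl (mat φ₀ b b'))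

theorem scl_sum : (scl (mat φ₀ b b')).toLinearMap.rTensor P (∑ i, ux (mat φ₀ b b') i ⊗ₜ[A] b i) =
    (Polynomial.X : Polynomial (Ua (mat φ₀ b b'))) •
      (cst (mat φ₀ b b')).toLinearMap.rTensor P (∑ i, ux (mat φ₀ b b') i ⊗ₜ[A] b i) := by
  rw [map_sum, map_sum, Finset.smul_sum]
  refine Finset.sum_congr rfl fun i _ => ?_
  rw [LinearMap.rTensor_tmul, LinearMap.rTensor_tmul, TensorProduct.smul_tmul']
  congr 1
  exact scl_ux _

theorem map_sclH : tr (L φ₀) (sclH φ₀ b b') (ξ φ₀ b b') =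
    (Polynomial.X : Polynomial (Ua (mat φ₀ b b'))) • tr (L φ₀) (cstH φ₀ b b') (ξ φ₀ b b') := by
  apply ι_inj
  rw [app_smul, naturality, naturality, ι_ξ, underline_obj_map, underline_obj_map]
  exact scl_sum φ₀ b b'

include b b' in
/-- A natural homogeneous transformation from a linearly adequate functor to `underline M` is
linear. -/
theorem exists_of_homog {M : ModuleCat.{u + 1} A}
    (τ : ∀ C : Alg A, (L φ₀).obj (pt C) → (C : Type u) ⊗[A] M)
    (hnat : ∀ ⦃C C' : Alg A⦄ (f : C ⟶ C') (l : (L φ₀).obj (pt C)),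
      τ C' (tr (L φ₀) f l) = f.hom.toLinearMap.rTensor M (τ C l))
    (hhom : ∀ (C : Alg A) (t : C) (l : (L φ₀).obj (pt C)), τ C (t • l) = t • τ C l) :
    ∃ g : P ⟶ M, ∀ (C : Alg A) (l : (L φ₀).obj (pt C)),
      τ C l = g.hom.baseChange C ((ι φ₀).app (pt C) l) := by
  obtain ⟨g, hg⟩ := Homog.exists_of_homog (a := mat φ₀ b b') (τ (UA φ₀ b b') (ξ φ₀ b b')) (by
    have h1 := hnat (sclH φ₀ b b') (ξ φ₀ b b')
    have h2 := hnat (cstH φ₀ b b') (ξ φ₀ b b')
    rw [map_sclH, hhom, h2] at h1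
    exact h1.symm)
  refine ⟨ModuleCat.ofHom (b.constr A g), fun C l => ?_⟩
  have h3 := hnat (clsf φ₀ b b' C l) (ξ φ₀ b b')
  rw [map_clsf, hg, map_sum] at h3
  rw [h3]
  have h4 := sum_crd b C ((ι φ₀).app (pt C) l)
  conv_rhs => rw [← h4]
  rw [map_sum]
  refine Finset.sum_congr rfl fun i _ => ?_
  rw [LinearMap.rTensor_tmul, LinearMap.baseChange_tmul]
  congr 1
  · exact cls_ux _ (crd_rel φ₀ b b' C l) i
  · exact (b.constr_basis A g i).symm

variable (A) in
theorem exists_basis (P : ModuleCat.{u + 1} A) [Module.Finite A P] [Module.Free A P] :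
    ∃ n : ℕ, Nonempty (Module.Basis (Fin n) A P) :=
  ⟨_, ⟨(Module.Free.chooseBasis A P).reindex (Fintype.equivFin _)⟩⟩

/-- A natural homogeneous transformation from a linearly adequate functor to `underline M` is
linear. -/
theorem exists_of_homog' [Module.Finite A P] [Module.Free A P] [Module.Finite A P']
    [Module.Free A P'] {M : ModuleCat.{u + 1} A}
    (τ : ∀ C : Alg A, (L φ₀).obj (pt C) → (C : Type u) ⊗[A] M)
    (hnat : ∀ ⦃C C' : Alg A⦄ (f : C ⟶ C') (l : (L φ₀).obj (pt C)),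
      τ C' (tr (L φ₀) f l) = f.hom.toLinearMap.rTensor M (τ C l))
    (hhom : ∀ (C : Alg A) (t : C) (l : (L φ₀).obj (pt C)), τ C (t • l) = t • τ C l) :
    ∃ g : P ⟶ M, ∀ (C : Alg A) (l : (L φ₀).obj (pt C)),
      τ C l = g.hom.baseChange C ((ι φ₀).app (pt C) l) := by
  obtain ⟨n, ⟨b⟩⟩ := exists_basis A P
  obtain ⟨m, ⟨b'⟩⟩ := exists_basis A P'
  exact exists_of_homog φ₀ b b' τ hnat hhom

/-- Every morphism from a linearly adequate functor to `underline M` extends. -/
theorem exists_lift [Module.Finite A P] [Module.Free A P] [Module.Finite A P']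
    [Module.Free A P'] {M : ModuleCat.{u + 1} A} (φ : L φ₀ ⟶ (underline A).obj M) :
    ∃ g : P ⟶ M, ι φ₀ ≫ (underline A).map g = φ := by
  obtain ⟨g, hg⟩ := exists_of_homog' φ₀ (M := M) (fun C l => φ.app (pt C) l)
    (fun C C' f l => naturality φ f l) (fun C t l => app_smul φ t l)
  exact ⟨g, hom_ext' fun C l => (hg C l).symm⟩

end

end K569.Repr
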