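import Groth.Agent.Adeq.K569.Basic
import Groth.Agent.Adeq.K569.Lin
import Groth.Agent.Adeq.K569.Repr
import Groth.Agent.Adeq.K569.CokAlg

/-!
# Cokernels and kernels of maps of adequate functors
-/

universe u

open CategoryTheory Limits Opposite TensorProduct Adeq

namespace K569.Cok

open K569.Basic K569.Lin

noncomputable section

variable {A : Type u} [CommRing A]

/-- algebraic form: if the image of `φ` is the image under `g` of the kernel of `v`, then the
cokernel is adequate -/
theorem adequate_cokernel_of_image {F : MVF A} {M P P' : ModuleCat.{u + 1} A}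
    (φ : F ⟶ (underline A).obj M) (g : P →ₗ[A] M) (v : P →ₗ[A] P')
    (h : ∀ (C : Alg A) (y : (C : Type u) ⊗[A] M), (∃ x, φ.app (pt C) x = y) ↔
      ∃ x : (C : Type u) ⊗[A] P, v.lTensor C x = 0 ∧ g.lTensor C x = y) :
    adequate A (cokernel φ) := by
  let Q : ModuleCat.{u + 1} A := ModuleCat.of A (CokAlg.Q g v)
  let K : ModuleCat.{u + 1} A := ModuleCat.of A (CokAlg.K v)
  let q1 : M ⟶ Q := ModuleCat.ofHom (CokAlg.q1 g v)
  let r : Q ⟶ K := ModuleCat.ofHom (CokAlg.r g v)
  have w : φ ≫ (underline A).map q1 = 0 := by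
    apply hom_ext'
    intro C x
    exact (CokAlg.q1_eq_zero_iff (C : Type u) g v _).2 ((h C _).1 ⟨x, rfl⟩)
  have hd : ∀ (C : Alg A) (y : (C : Type u) ⊗[A] M),
      (cokernel.desc φ ((underline A).map q1) w).app (pt C) ((cokernel.π φ).app (pt C) y) =
        (CokAlg.q1 g v).lTensor C y := by
    intro C y
    rw [← comp_app_apply, cokernel.π_desc]
    rfl
  refine adequate_of_pointwise (M := Q) (N := K) r (cokernel.desc φ ((underline A).map q1) w)
    (fun C => ?_) (fun C z => ?_)
  · refine (injective_iff_map_eq_zero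
      ((cokernel.desc φ ((underline A).map q1) w).app (pt C)).hom).2 fun y hy => ?_
    obtain ⟨y, rfl⟩ := cokernel_π_surjective φ C y
    have hy' := (hd C y).symm.trans hy
    rw [cokernel_π_eq_zero_iff]
    exact (h C y).2 ((CokAlg.q1_eq_zero_iff (C : Type u) g v _).1 hy')
  · refine (CokAlg.r_eq_zero_iff (C : Type u) g v z).trans ?_
    constructor
    · rintro ⟨y, rfl⟩
      exact ⟨(cokernel.π φ).app (pt C) y, hd C y⟩
    · rintro ⟨y, rfl⟩
      obtain ⟨y, rfl⟩ := cokernel_π_surjective φ C y
      exact ⟨y, (hd C y).symm⟩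

theorem adequate_cokernel_to_underline {F : MVF A} (hF : adequate A F)
    {M : ModuleCat.{u + 1} A} (φ : F ⟶ (underline A).obj M) : adequate A (cokernel φ) := by
  classical
  have hg : ∀ i : Idx F, ∃ g : freeMod A i.1 ⟶ M,
      kernel.ι ((underline A).map (matHom i.2.2.1)) ≫ (underline A).map g = i.2.2.2 ≫ φ :=
    fun i => Repr.exists_lift (matHom i.2.2.1) (i.2.2.2 ≫ φ)
  choose g hg using hg
  let P : ModuleCat.{u + 1} A := ModuleCat.of A (DirectSum (Idx F) fun i => freeMod A i.1)
  let P' : ModuleCat.{u + 1} A := ModuleCat.of A (DirectSum (Idx F) fun i => freeMod A i.2.1)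
  let v : P →ₗ[A] P' := DirectSum.lmap fun i : Idx F => (matHom i.2.2.1).hom
  let G : P →ₗ[A] M := DirectSum.toModule A (Idx F) M fun i => (g i).hom
  refine adequate_cokernel_of_image φ G v fun C y => ?_
  have hG : ∀ i : Idx F, G ∘ₗ DirectSum.lof A (Idx F) (fun i => freeMod A i.1) i = (g i).hom := by
    intro i
    refine LinearMap.ext fun z => ?_
    exact DirectSum.toModule_lof (R := A) (ι := Idx F) (M := fun i : Idx F => freeMod A i.1)
      (φ := fun i => (g i).hom) i z
  have hgi : ∀ (i : Idx F) (l : (linF i.2.2.1).obj (pt C)),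
      (g i).hom.lTensor C ((kernel.ι ((underline A).map (matHom i.2.2.1))).app (pt C) l) =
        φ.app (pt C) (i.2.2.2.app (pt C) l) := by
    intro i l
    exact congrArg (fun (ψ : linF i.2.2.1 ⟶ (underline A).obj M) => ψ.app (pt C) l) (hg i)
  constructor
  · rintro ⟨x, rfl⟩
    obtain ⟨n, m, a, p, l, rfl⟩ := exists_lin hF C x
    let i : Idx F := ⟨n, m, a, p⟩
    refine ⟨(DirectSum.lof A (Idx F) (fun i => freeMod A i.1) i).lTensor C
      ((kernel.ι ((underline A).map (matHom a))).app (pt C) l), ?_, ?_⟩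
    · rw [← LinearMap.comp_apply, ← LinearMap.lTensor_comp]
      have h : v ∘ₗ DirectSum.lof A (Idx F) (fun i => freeMod A i.1) i =
          DirectSum.lof A (Idx F) (fun i => freeMod A i.2.1) i ∘ₗ (matHom a).hom := by
        refine LinearMap.ext fun z => ?_
        exact DirectSum.lmap_lof _ i _
      rw [h, LinearMap.lTensor_comp, LinearMap.comp_apply]
      have := kernel_condition_apply ((underline A).map (matHom a)) C l
      refine Eq.trans (congrArg _ this) (map_zero _)
    · rw [← LinearMap.comp_apply, ← LinearMap.lTensor_comp, hG]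
      exact hgi i l
  · rintro ⟨x, hx, rfl⟩
    obtain ⟨S, z, hz, rfl⟩ := CokAlg.exists_decomp_of_eq_zero _ x hx
    choose! l hl using fun (i : Idx F) (hi : i ∈ S) =>
      exists_kernel ((underline A).map (matHom i.2.2.1)) (B := C) (z i) (hz i hi)
    refine ⟨∑ i ∈ S, i.2.2.2.app (pt C) (l i), ?_⟩
    refine (map_sum (φ.app (pt C)).hom _ _).trans ?_
    refine Eq.trans ?_ (map_sum (G.lTensor C) _ _).symm
    refine Finset.sum_congr rfl fun i hi => ?_
    refine (hgi i (l i)).symm.trans ?_
    rw [hl i hi]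
    rw [← LinearMap.comp_apply, ← LinearMap.lTensor_comp, hG]

/-- the initial map to an algebra -/
abbrev ofBase (C : Alg A) : algOf A A ⟶ C := CommAlgCat.ofHom (Algebra.ofId A C)

theorem ofBase_one_tmul (N : ModuleCat.{u + 1} A) (C : Alg A) (x : N) :
    tr ((underline A).obj N) (ofBase C) ((1 : A) ⊗ₜ[A] x : A ⊗[A] N) =
      ((1 : C) ⊗ₜ[A] x : (C : Type u) ⊗[A] N) := by
  rw [underline_obj_map_tmul]
  rw [map_one]

/-- `underline` is full -/
theorem exists_underline_map {N K : ModuleCat.{u + 1} A}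
    (ψ : (underline A).obj N ⟶ (underline A).obj K) :
    ∃ g : N ⟶ K, (underline A).map g = ψ := by
  let e1 : N →ₗ[A] A ⊗[A] N := (TensorProduct.lid A N).symm.toLinearMap
  let e2 : A ⊗[A] K →ₗ[A] K := (TensorProduct.lid A K).toLinearMap
  let ψA : A ⊗[A] N →ₗ[A] A ⊗[A] K :=
    { toFun := fun x => ψ.app (pt (algOf A A)) x
      map_add' := fun x y => map_add (ψ.app (pt (algOf A A))).hom x y
      map_smul' := fun a x => app_smul ψ (B := algOf A A) a x }
  refine ⟨ModuleCat.ofHom (e2 ∘ₗ ψA ∘ₗ e1), hom_ext' fun C x => ?_⟩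
  induction x using TensorProduct.induction_on with
  | zero =>
    exact (map_zero (((underline A).map _).app (pt C)).hom).trans
      (map_zero (ψ.app (pt C)).hom).symm
  | add x y hx hy =>
    exact (map_add (((underline A).map _).app (pt C)).hom x y).trans
      ((congrArg₂ (· + ·) hx hy).trans (map_add (ψ.app (pt C)).hom x y).symm)
  | tmul c x =>
    rw [underline_map_app_tmul]
    have h1 : (c ⊗ₜ[A] x : (C : Type u) ⊗[A] N) = c • ((1 : C) ⊗ₜ[A] x) := by
      rw [TensorProduct.smul_tmul', smul_eq_mul, mul_one]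
    have h2 : ψ.app (pt C) (c ⊗ₜ[A] x : (C : Type u) ⊗[A] N) =
        c • (ψ.app (pt C) ((1 : C) ⊗ₜ[A] x : (C : Type u) ⊗[A] N) :
          ((underline A).obj K).obj (pt C)) := by
      rw [h1]
      exact app_smul ψ (B := C) c ((1 : C) ⊗ₜ[A] x : (C : Type u) ⊗[A] N)
    rw [h2, ← ofBase_one_tmul, naturality]
    change c ⊗ₜ[A] (TensorProduct.lid A K (ψA ((TensorProduct.lid A N).symm x))) = _
    have h3 : (TensorProduct.lid A N).symm x = (1 : A) ⊗ₜ[A] x := rfl
    rw [h3]
    change _ = c • (tr ((underline A).obj K) (ofBase C) (ψA ((1 : A) ⊗ₜ[A] x)) :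
      (C : Type u) ⊗[A] K)
    generalize ψA ((1 : A) ⊗ₜ[A] x) = y
    obtain ⟨y, rfl⟩ := (TensorProduct.lid A K).symm.surjective y
    rw [LinearEquiv.apply_symm_apply]
    have h4 : (TensorProduct.lid A K).symm y = (1 : A) ⊗ₜ[A] y := rfl
    have h5 : (c ⊗ₜ[A] y : (C : Type u) ⊗[A] K) = c • ((1 : C) ⊗ₜ[A] y) := by
      rw [TensorProduct.smul_tmul', smul_eq_mul, mul_one]
    rw [h4, ofBase_one_tmul]
    exact h5

theorem exists_mono {F : MVF A} (hF : adequate A F) :
    ∃ (M : ModuleCat.{u + 1} A) (i : F ⟶ (underline A).obj M), Mono i := by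
  obtain ⟨M, N, φ, i, hi, -⟩ := exists_of_adequate hF
  exact ⟨M, i, (mono_iff i).2 hi⟩

theorem adequate_of_mono {F : MVF A} {N : ModuleCat.{u + 1} A} (i : F ⟶ (underline A).obj N)
    [Mono i] (h : adequate A (cokernel i)) : adequate A F := by
  obtain ⟨K, k, hk⟩ := exists_mono h
  obtain ⟨g, hg⟩ := exists_underline_map (cokernel.π i ≫ k)
  have w : i ≫ (underline A).map g = 0 := by
    rw [hg, ← Category.assoc, cokernel.condition, zero_comp]
  refine adequate_of_exact g i w ?_
  have h1 := cokernel_exact i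
  rw [exact_iff'] at h1 ⊢
  intro B x
  rw [← h1 B x]
  change ((underline A).map g).app (pt B) x = 0 ↔ _
  rw [hg, comp_app_apply]
  exact map_eq_zero_iff (k.app (pt B)).hom ((mono_iff k).1 hk B)

theorem adequate_of_epi_mono {G H : MVF A} (hG : adequate A G) (e : G ⟶ H) [Epi e]
    {N : ModuleCat.{u + 1} A} (i : H ⟶ (underline A).obj N) [Mono i] : adequate A H := by
  refine adequate_of_mono i ?_
  exact (adequate A).prop_of_iso (cokernelEpiComp e i) (adequate_cokernel_to_underline hG (e ≫ i))

/-- the cokernel of a map of adequate functors is adequate -/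
theorem adequate_cokernel {F G : MVF A} (φ : F ⟶ G) (hF : adequate A F) (hG : adequate A G) :
    adequate A (cokernel φ) := by
  obtain ⟨M, j, hj⟩ := exists_mono hG
  obtain ⟨N, k, hk⟩ := exists_mono (adequate_cokernel_to_underline hF (φ ≫ j))
  let c : cokernel φ ⟶ cokernel (φ ≫ j) := cokernel.map φ (φ ≫ j) (𝟙 F) j (by simp)
  have hc : Mono c := by
    rw [mono_iff]
    intro B
    refine (injective_iff_map_eq_zero (c.app (pt B)).hom).2 fun y hy => ?_
    obtain ⟨y, rfl⟩ := cokernel_π_surjective φ B y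
    have h1 : c.app (pt B) ((cokernel.π φ).app (pt B) y) =
        (cokernel.π (φ ≫ j)).app (pt B) (j.app (pt B) y) := by
      rw [← comp_app_apply, ← comp_app_apply, cokernel.π_desc]
    have h2 := h1.symm.trans hy
    rw [cokernel_π_eq_zero_iff] at h2
    obtain ⟨x, hx⟩ := h2
    rw [cokernel_π_eq_zero_iff]
    exact ⟨x, (mono_iff j).1 hj B hx⟩
  have : Mono (c ≫ k) := mono_comp c k
  exact adequate_of_epi_mono hG (cokernel.π φ) (c ≫ k)

/-- the kernel of a map of adequate functors is adequate -/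
theorem adequate_kernel {F G : MVF A} (φ : F ⟶ G) (hF : adequate A F) (hG : adequate A G) :
    adequate A (kernel φ) := by
  obtain ⟨M, i, hi⟩ := exists_mono hF
  obtain ⟨N, j, hj⟩ := exists_mono hG
  let MN : ModuleCat.{u + 1} A := ModuleCat.of A (M × N)
  let i' : F ⟶ (underline A).obj MN :=
    i ≫ (underline A).map (ModuleCat.ofHom (LinearMap.inl A M N)) +
      φ ≫ j ≫ (underline A).map (ModuleCat.ofHom (LinearMap.inr A M N))
  have hf : i' ≫ (underline A).map (ModuleCat.ofHom (LinearMap.fst A M N)) = i := by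
    simp only [i', Preadditive.add_comp, Category.assoc, ← Functor.map_comp]
    have h1 : (ModuleCat.ofHom (LinearMap.inl A M N)) ≫ (ModuleCat.ofHom (LinearMap.fst A M N)) =
      𝟙 M := by ext x; rfl
    have h2 : (ModuleCat.ofHom (LinearMap.inr A M N)) ≫ (ModuleCat.ofHom (LinearMap.fst A M N)) =
      0 := by ext x; rfl
    rw [h1, h2, CategoryTheory.Functor.map_id, Functor.map_zero]
    simp
  have hs : i' ≫ (underline A).map (ModuleCat.ofHom (LinearMap.snd A M N)) = φ ≫ j := by
    simp only [i', Preadditive.add_comp, Category.assoc, ← Functor.map_comp]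
    have h1 : (ModuleCat.ofHom (LinearMap.inr A M N)) ≫ (ModuleCat.ofHom (LinearMap.snd A M N)) =
      𝟙 N := by ext x; rfl
    have h2 : (ModuleCat.ofHom (LinearMap.inl A M N)) ≫ (ModuleCat.ofHom (LinearMap.snd A M N)) =
      0 := by ext x; rfl
    rw [h1, h2, CategoryTheory.Functor.map_id, Functor.map_zero]
    simp
  have hm : Mono i' := mono_of_mono_fac hf
  obtain ⟨K, k, hk⟩ := exists_mono (adequate_cokernel_to_underline hF i')
  obtain ⟨g, hg⟩ := exists_underline_map (cokernel.π i' ≫ k)
  have hg0 : ∀ (B : Alg A) (x : (B : Type u) ⊗[A] MN),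
      g.hom.baseChange B x = 0 ↔ ∃ y, i'.app (pt B) y = x := by
    intro B x
    rw [← cokernel_π_eq_zero_iff]
    change ((underline A).map g).app (pt B) x = 0 ↔ _
    rw [hg, comp_app_apply]
    exact map_eq_zero_iff (k.app (pt B)).hom ((mono_iff k).1 hk B)
  let KN : ModuleCat.{u + 1} A := ModuleCat.of A (K × N)
  refine adequate_of_pointwise (M := MN) (N := KN)
    (ModuleCat.ofHom (LinearMap.prod g.hom (LinearMap.snd A M N)))
    (kernel.ι φ ≫ i') (fun B => (mono_iff _).1 (mono_comp _ _) B) (fun B x => ?_)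
  have hprod : ((LinearMap.prod g.hom (LinearMap.snd A M N)).baseChange B x = 0) ↔
      (g.hom.baseChange B x = 0 ∧ (LinearMap.snd A M N).baseChange B x = 0) := by
    constructor
    · intro h
      constructor
      · have := congrArg ((LinearMap.fst A K N).baseChange B) h
        rw [← LinearMap.comp_apply, ← LinearMap.baseChange_comp, map_zero] at this
        exact this
      · have := congrArg ((LinearMap.snd A K N).baseChange B) h
        rw [← LinearMap.comp_apply, ← LinearMap.baseChange_comp, map_zero] at this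
        exact this
    · rintro ⟨h1, h2⟩
      have h : LinearMap.prod g.hom (LinearMap.snd A M N) =
          LinearMap.inl A K N ∘ₗ g.hom + LinearMap.inr A K N ∘ₗ LinearMap.snd A M N := by
        refine LinearMap.ext fun z => ?_
        simp
      rw [h, LinearMap.baseChange_add, LinearMap.add_apply, LinearMap.baseChange_comp,
        LinearMap.baseChange_comp, LinearMap.comp_apply, LinearMap.comp_apply, h1, h2, map_zero,
        map_zero, add_zero]
  refine hprod.trans ?_
  have hs' : ∀ y : F.obj (pt B), (LinearMap.snd A M N).baseChange B (i'.app (pt B) y) =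
      j.app (pt B) (φ.app (pt B) y) := by
    intro y
    exact congrArg (fun (ψ : F ⟶ (underline A).obj N) => ψ.app (pt B) y) hs
  constructor
  · rintro ⟨h1, h2⟩
    obtain ⟨y, rfl⟩ := (hg0 B x).1 h1
    rw [hs'] at h2
    have h3 : φ.app (pt B) y = 0 := (mono_iff j).1 hj B (h2.trans (map_zero (j.app (pt B)).hom).symm)
    obtain ⟨z, rfl⟩ := exists_kernel φ y h3
    exact ⟨z, rfl⟩
  · rintro ⟨y, rfl⟩
    refine ⟨(hg0 B _).2 ⟨_, rfl⟩, ?_⟩
    refine (hs' _).trans ?_
    exact (congrArg (j.app (pt B)) (kernel_condition_apply φ B y)).trans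
      (map_zero (j.app (pt B)).hom)

end

end K569.Cok
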