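import Groth.Agent.Adeq.K569.Cok
import Mathlib.LinearAlgebra.DFinsupp
import Mathlib.CategoryTheory.Limits.Preserves.Basic
import Mathlib.CategoryTheory.Limits.Constructions.LimitsOfProductsAndEqualizers

/-!
# Coproducts and colimits of adequate functors
-/

universe u

open CategoryTheory Limits Opposite TensorProduct Adeq

namespace K569.Colim

open K569.Basic K569.Lin K569.Cok

noncomputable section

variable {A : Type u} [CommRing A]

attribute [local instance] AB.hasCoproduct AB.hasColims

theorem preserves_ev (C : Alg A) (J : Type (u + 1)) [SmallCategory J] :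
    PreservesColimitsOfShape J (PresheafOfModules.evaluation.{u + 1} (ringOf A) (pt C)) :=
  PresheafOfModules.evaluation_preservesColimitsOfShape.{u + 1, u, u + 1, u + 1, u + 1, u}
    (ringOf A) J (pt C)

/-- evaluation jointly epimorphic -/
theorem coprod_hom_ext {ι : Type (u + 1)} (F : ι → MVF A) (C : Alg A)
    {X : ModuleCat.{u + 1} ((ringOf A).obj (pt C))}
    {f g : (∐ F).obj (pt C) ⟶ X}
    (h : ∀ i, (Sigma.ι F i).app (pt C) ≫ f = (Sigma.ι F i).app (pt C) ≫ g) : f = g := by
  have := preserves_ev C (Discrete ι)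
  have hc := isColimitOfPreserves (PresheafOfModules.evaluation.{u + 1} (ringOf A) (pt C))
    (colimit.isColimit (Discrete.functor F))
  exact hc.hom_ext fun ⟨i⟩ => h i

theorem exists_sum {ι : Type (u + 1)} [DecidableEq ι] (F : ι → MVF A) (C : Alg A)
    (x : (∐ F).obj (pt C)) :
    ∃ (S : Finset ι) (z : ∀ i, (F i).obj (pt C)),
      x = ∑ i ∈ S, (Sigma.ι F i).app (pt C) (z i) := by
  classical
  let N : Submodule ((ringOf A).obj (pt C)) ((∐ F).obj (pt C)) :=
    ⨆ i, LinearMap.range ((Sigma.ι F i).app (pt C)).hom
  have hN : N = ⊤ := by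
    have h : ModuleCat.ofHom N.mkQ = 0 := by
      apply coprod_hom_ext F C
      intro i
      ext y
      change N.mkQ ((Sigma.ι F i).app (pt C) y) = 0
      rw [Submodule.mkQ_apply, Submodule.Quotient.mk_eq_zero]
      exact Submodule.mem_iSup_of_mem i ⟨y, rfl⟩
    rw [← Submodule.ker_mkQ N, LinearMap.ker_eq_top]
    exact congrArg ModuleCat.Hom.hom h
  have hx : x ∈ N := by rw [hN]; trivial
  induction hx using Submodule.iSup_induction' with
  | mem i y hy =>
    obtain ⟨z, rfl⟩ := hy
    refine ⟨{i}, fun j => if h : j = i then h ▸ z else 0, ?_⟩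
    rw [Finset.sum_singleton]
    have : (if h : i = i then h ▸ z else 0) = z := dif_pos rfl
    exact (congrArg _ this).symm
  | zero => exact ⟨∅, 0, by simp⟩
  | add x y _ _ hx hy =>
    obtain ⟨S, z, rfl⟩ := hx
    obtain ⟨S', z', rfl⟩ := hy
    refine ⟨S ∪ S', fun i => (if i ∈ S then z i else 0) + (if i ∈ S' then z' i else 0), ?_⟩
    simp only [map_add, Finset.sum_add_distrib]
    congr 1
    · simp only [apply_ite (ConcreteCategory.hom ((Sigma.ι F _).app (pt C))), map_zero]
      rw [Finset.sum_ite_mem, Finset.union_inter_cancel_left]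
    · simp only [apply_ite (ConcreteCategory.hom ((Sigma.ι F _).app (pt C))), map_zero]
      rw [Finset.sum_ite_mem, Finset.union_inter_cancel_right]

/-- a coproduct of adequate functors is adequate -/
theorem adequate_coproduct {ι : Type (u + 1)} (F : ι → MVF A) (hF : ∀ i, adequate A (F i)) :
    adequate A (∐ F) := by
  classical
  choose M N φ j hj hex using fun i => exists_of_adequate (hF i)
  let MM : ModuleCat.{u + 1} A := ModuleCat.of A (DirectSum ι fun i => M i)
  let NN : ModuleCat.{u + 1} A := ModuleCat.of A (DirectSum ι fun i => N i)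
  let Φ : MM ⟶ NN := ModuleCat.ofHom (DirectSum.lmap fun i => (φ i).hom)
  let inM : ∀ i, M i ⟶ MM := fun i => ModuleCat.ofHom (DirectSum.lof A ι (fun i => M i) i)
  let inN : ∀ i, N i ⟶ NN := fun i => ModuleCat.ofHom (DirectSum.lof A ι (fun i => N i) i)
  let prM : ∀ i, MM ⟶ M i := fun i => ModuleCat.ofHom (DirectSum.component A ι (fun i => M i) i)
  have h1 : ∀ i, inM i ≫ Φ = φ i ≫ inN i := by
    intro i
    apply ModuleCat.hom_ext
    refine LinearMap.ext fun z => ?_
    exact DirectSum.lmap_lof (R := A) (M := fun i => M i) (N := fun i => N i)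
      (fun i => (φ i).hom) i z
  have h2 : ∀ i, inM i ≫ prM i = 𝟙 _ := by
    intro i
    apply ModuleCat.hom_ext
    refine LinearMap.ext fun z => ?_
    exact DirectSum.component.lof_self (R := A) (M := fun i => M i) i z
  have h3 : ∀ i k, i ≠ k → inM i ≫ prM k = 0 := by
    intro i k hik
    apply ModuleCat.hom_ext
    refine LinearMap.ext fun z => ?_
    exact (DirectSum.component.of (R := A) (M := fun i => M i) k i z).trans (dif_neg hik)
  let i' : (∐ F) ⟶ (underline A).obj MM := Sigma.desc fun i => j i ≫ (underline A).map (inM i)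
  have hi' : ∀ (C : Alg A) (i : ι) (z : (F i).obj (pt C)),
      i'.app (pt C) ((Sigma.ι F i).app (pt C) z) =
        (DirectSum.lof A ι (fun i => M i) i).baseChange C ((j i).app (pt C) z) := by
    intro C i z
    rw [← comp_app_apply, Sigma.ι_desc]
    rfl
  have w : i' ≫ (underline A).map Φ = 0 := by
    apply Sigma.hom_ext
    intro i
    rw [Sigma.ι_desc_assoc, Category.assoc, ← Functor.map_comp, h1, Functor.map_comp, comp_zero,
      ← Category.assoc]
    have : j i ≫ (underline A).map (φ i) = 0 := hom_ext' fun B x => (hex i B _).2 ⟨x, rfl⟩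
    rw [this, zero_comp]
  refine adequate_of_pointwise (M := MM) (N := NN) Φ i' (fun C => ?_) (fun C z => ⟨fun hz => ?_, ?_⟩)
  · refine (injective_iff_map_eq_zero (i'.app (pt C)).hom).2 fun x hx => ?_
    obtain ⟨S, z, rfl⟩ := exists_sum F C x
    refine Finset.sum_eq_zero fun k hk => ?_
    have hk' : z k = 0 := by
      apply hj k C
      refine Eq.trans ?_ (map_zero ((j k).app (pt C)).hom).symm
      have hx0 : ∑ i ∈ S, (DirectSum.lof A ι (fun i => M i) i).baseChange C
          ((j i).app (pt C) (z i)) = (0 : (C : Type u) ⊗[A] (DirectSum ι fun i => M i)) := by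
        refine Eq.trans ?_ hx
        refine Eq.trans ?_ (map_sum (i'.app (pt C)).hom _ _).symm
        exact Finset.sum_congr rfl fun i _ => (hi' C i (z i)).symm
      have hx'' := congrArg ((prM k).hom.baseChange C) hx0
      rw [map_sum, map_zero] at hx''
      rw [Finset.sum_eq_single k] at hx''
      · rw [← LinearMap.comp_apply, ← LinearMap.baseChange_comp] at hx''
        have := congrArg ModuleCat.Hom.hom (h2 k)
        rw [ModuleCat.hom_comp] at this
        change (prM k).hom ∘ₗ (DirectSum.lof A ι (fun i => M i) k) = LinearMap.id at this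
        rw [this, LinearMap.baseChange_id] at hx''
        exact hx''
      · intro i _ hik
        rw [← LinearMap.comp_apply, ← LinearMap.baseChange_comp]
        have := congrArg ModuleCat.Hom.hom (h3 i k hik)
        rw [ModuleCat.hom_comp] at this
        change (prM k).hom ∘ₗ (DirectSum.lof A ι (fun i => M i) i) = 0 at this
        rw [this, LinearMap.baseChange_zero]
        rfl
      · intro h; exact (h hk).elim
    rw [hk']
    exact map_zero ((Sigma.ι F k).app (pt C)).hom
  · obtain ⟨S, y, hy, rfl⟩ := CokAlg.exists_decomp_of_eq_zero (C := (C : Type u))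
      (fun i => (φ i).hom) z hz
    choose! x hx using fun (i : ι) (hi : i ∈ S) => (hex i C (y i)).1 (hy i hi)
    refine ⟨∑ i ∈ S, (Sigma.ι F i).app (pt C) (x i), ?_⟩
    refine (map_sum (i'.app (pt C)).hom _ _).trans ?_
    refine Finset.sum_congr rfl fun i hi => ?_
    refine (hi' C i (x i)).trans ?_
    rw [hx i hi]
    rfl
  · rintro ⟨y, rfl⟩
    exact congrArg (fun (ψ : (∐ F) ⟶ (underline A).obj NN) => ψ.app (pt C) y) w

/-- a colimit of adequate functors is adequate -/
theorem adequate_colimit {J : Type (u + 1)} [SmallCategory J]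
    (D : J ⥤ MVF A) (hD : ∀ j, adequate A (D.obj j)) : adequate A (colimit D) := by
  let I := Σ (j k : J), (j ⟶ k)
  let δ : (∐ fun f : I => D.obj f.1) ⟶ ∐ D.obj :=
    Sigma.desc fun f => Sigma.ι D.obj f.1 - D.map f.2.2 ≫ Sigma.ι D.obj f.2.1
  let π : ∐ D.obj ⟶ colimit D := Sigma.desc (colimit.ι D)
  have w : δ ≫ π = 0 := by
    apply Sigma.hom_ext
    intro f
    simp [δ, π]
  have hc : IsColimit (CokernelCofork.ofπ π w) := by
    refine CokernelCofork.IsColimit.ofπ _ _ (fun {Z} h hh => colimit.desc D
      { pt := Z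
        ι := { app := fun j => Sigma.ι D.obj j ≫ h
               naturality := fun j k f => ?_ } }) (fun {Z} h hh => ?_) (fun {Z} h hh m hm => ?_)
    · have := Sigma.ι (fun f : I => D.obj f.1) ⟨j, k, f⟩ ≫= hh
      simp only [δ, Sigma.ι_desc_assoc, Preadditive.sub_comp, Category.assoc, comp_zero,
        sub_eq_zero] at this
      simpa using this.symm
    · apply Sigma.hom_ext
      intro j
      simp [π]
    · apply colimit.hom_ext
      intro j
      rw [colimit.ι_desc]
      change _ = Sigma.ι D.obj j ≫ h
      rw [← hm]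
      simp [π]
  have e : cokernel δ ≅ colimit D :=
    IsColimit.coconePointUniqueUpToIso (colimit.isColimit _) hc
  exact (adequate A).prop_of_iso e (adequate_cokernel δ
    (adequate_coproduct _ fun f => hD _) (adequate_coproduct _ hD))

end

end K569.Colim
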