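import Groth.Agent.Adeq.K569.Basic
import Mathlib.LinearAlgebra.TensorProduct.Tower

/-!
# Restriction of adequate functors along a ring map
-/

universe u

open CategoryTheory Limits Opposite TensorProduct Adeq

namespace K569.Restr

open K569.Basic

noncomputable section

section Alg

variable {A A' : Type*} [CommRing A] [CommRing A'] [Algebra A A']
  (B : Type*) [CommRing B] [Algebra A' B] [Algebra A B] [IsScalarTower A A' B]
  (M : Type*) [AddCommGroup M] [Module A M]

/-- `B ⊗[A] M = B ⊗[A'] (A' ⊗[A] M)` -/
abbrev cbc : B ⊗[A'] (A' ⊗[A] M) ≃ₗ[B] B ⊗[A] M :=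
  TensorProduct.AlgebraTensorModule.cancelBaseChange A A' B B M

theorem cbc_map {N : Type*} [AddCommGroup N] [Module A N] (φ : M →ₗ[A] N)
    (x : B ⊗[A'] (A' ⊗[A] M)) :
    φ.baseChange B (cbc B M x) = cbc B N ((φ.baseChange A').baseChange B x) := by
  induction x using TensorProduct.induction_on with
  | zero => simp
  | add x y hx hy => simp only [map_add, hx, hy]
  | tmul b y =>
    induction y using TensorProduct.induction_on with
    | zero => simp
    | add x y hx hy => simp only [map_add, TensorProduct.tmul_add, hx, hy]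
    | tmul a m =>
      simp only [LinearMap.baseChange_tmul,
        TensorProduct.AlgebraTensorModule.cancelBaseChange_tmul]

theorem cbc_alg {B₂ : Type*} [CommRing B₂] [Algebra A' B₂] [Algebra A B₂] [IsScalarTower A A' B₂]
    (f : B →ₐ[A'] B₂) (g : B →ₐ[A] B₂) (hfg : ∀ b, f b = g b) (x : B ⊗[A] M) :
    (cbc B₂ M).symm (g.toLinearMap.rTensor M x) =
      f.toLinearMap.rTensor (A' ⊗[A] M) ((cbc B M).symm x) := by
  induction x using TensorProduct.induction_on with
  | zero => simp
  | add x y hx hy => simp only [map_add, hx, hy]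
  | tmul b m =>
    rw [LinearMap.rTensor_tmul, TensorProduct.AlgebraTensorModule.cancelBaseChange_symm_tmul,
      TensorProduct.AlgebraTensorModule.cancelBaseChange_symm_tmul, LinearMap.rTensor_tmul,
      AlgHom.toLinearMap_apply, AlgHom.toLinearMap_apply, hfg]

end Alg

variable {A : Type u} [CommRing A] (A' : Type u) [CommRing A'] [Algebra A A']

/-- restricted algebra -/
abbrev rB (B : Alg A') : Alg A := (Alg.restr A A').obj B

theorem restr_app {F G : MVF A} (f : F ⟶ G) (B : Alg A') (x : F.obj (pt (rB A' B))) :
    ((restr A A').map f).app (pt B) x = f.app (pt (rB A' B)) x := rfl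

theorem restr_tr (F : MVF A) {B B₂ : Alg A'} (g : B ⟶ B₂) (x : F.obj (pt (rB A' B))) :
    tr ((restr A A').obj F) g x = tr F ((Alg.restr A A').map g) x := rfl

theorem restr_smul (F : MVF A) (B : Alg A') (b : B) (x : F.obj (pt (rB A' B))) :
    (b • (show ((restr A A').obj F).obj (pt B) from x) : ((restr A A').obj F).obj (pt B)) =
      ((show rB (A := A) A' B from b) • x : F.obj (pt (rB A' B))) := rfl

theorem adequate_restr {F : MVF A} (hF : adequate A F) :
    adequate A' ((restr A A').obj F) := by
  obtain ⟨M, N, φ, i, hi, hex⟩ := exists_of_adequate hF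
  let M' : ModuleCat.{u + 1} A' := ModuleCat.of A' (A' ⊗[A] M)
  let N' : ModuleCat.{u + 1} A' := ModuleCat.of A' (A' ⊗[A] N)
  let φ' : M' ⟶ N' := ModuleCat.ofHom (φ.hom.baseChange A')
  let al : ∀ B : Alg A', Algebra A B := fun B => (rB A' B).algebra
  have st : ∀ B : Alg A', IsScalarTower A A' B := fun B =>
    IsScalarTower.of_algebraMap_eq fun a => rfl
  let e : ∀ (B : Alg A') (M : ModuleCat.{u + 1} A), (B : Type u) ⊗[A'] (A' ⊗[A] M) ≃ₗ[B]
    (B : Type u) ⊗[A] M := fun B M => cbc B M
  let i' : (restr A A').obj F ⟶ (underline A').obj M' :=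
    mkHom (fun B x => (e B M).symm (i.app (pt (rB A' B)) x))
      (fun B x y => by
        have : i.app (pt (rB A' B)) (x + y) =
          i.app (pt (rB A' B)) x + i.app (pt (rB A' B)) y := map_add (i.app (pt (rB A' B))).hom x y
        refine (congrArg (e B M).symm this).trans ?_
        exact map_add (e B M).symm _ _)
      (fun B b x => by
        have := app_smul i (B := rB A' B) b x
        refine (congrArg (e B M).symm this).trans ?_
        exact map_smul (e B M).symm _ _)
      (fun B B₂ g x => by
        have := naturality i ((Alg.restr A A').map g) x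
        refine (congrArg (e B₂ M).symm this).trans ?_
        exact cbc_alg B M g.hom ((Alg.restr A A').map g).hom (fun b => rfl) _)
  refine adequate_of_pointwise φ' i' (fun B => ?_) (fun B x => ?_)
  · exact (e B M).symm.injective.comp (hi (rB A' B))
  · have h1 : ((φ.hom.baseChange A').baseChange B) x = 0 ↔
        (φ.hom.baseChange (rB (A := A) A' B)) (e B M x) = 0 := by
      have := cbc_map B M φ.hom x
      refine Iff.trans ?_ (iff_of_eq (congrArg (fun z => z = (0 : (B : Type u) ⊗[A] N)) this.symm))
      exact (map_eq_zero_iff (e B N) (e B N).injective).symm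
    refine h1.trans ((hex (rB A' B) (e B M x)).trans ?_)
    constructor
    · rintro ⟨y, hy⟩
      refine ⟨y, ?_⟩
      change (e B M).symm (i.app (pt (rB A' B)) y) = x
      rw [LinearEquiv.symm_apply_eq]
      exact hy
    · rintro ⟨y, hy⟩
      refine ⟨y, ?_⟩
      change (e B M).symm (i.app (pt (rB A' B)) y) = x at hy
      rw [LinearEquiv.symm_apply_eq] at hy
      exact hy

end

end K569.Restr
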