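import Groth.Agent.Adeq.K569.Push
import Groth.Agent.Adeq.K569.Restr
import Groth.Agent.Adeq.K569.Cok

/-!
# Descent of adequacy along a ring map
-/

universe u

open CategoryTheory Limits Opposite TensorProduct Adeq

namespace K569.Desc

open K569.Basic

noncomputable section

variable {A : Type u} [CommRing A] (A' : Type u) [CommRing A'] [Algebra A A']

/-- `A' ⊗ B` as an `A`-algebra -/
abbrev rb (B : Alg A) : Alg A := (Alg.restr A A').obj ((Alg.baseChange A A').obj B)

theorem unit_nat {B B' : Alg A} (f : B ⟶ B') :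
    f ≫ Alg.unit A A' B' =
      Alg.unit A A' B ≫ (Alg.restr A A').map ((Alg.baseChange A A').map f) := by
  refine ConcreteCategory.hom_ext _ _ fun b => ?_
  change (1 : A') ⊗ₜ[A] (f.hom b) =
    Algebra.TensorProduct.map (AlgHom.id A' A') f.hom ((1 : A') ⊗ₜ[A] b)
  rw [Algebra.TensorProduct.map_tmul]
  rfl

/-- the functor `B ↦ F(A' ⊗ B)` -/
abbrev PR (F : MVF A) : MVF A := (push A A').obj ((restr A A').obj F)

/-- the map `F(B) → F(A' ⊗ B)` -/
def η (F : MVF A) : F ⟶ PR A' F :=
  mkHom (G := PR A' F) (fun B x => (tr F (Alg.unit A A' B) x : F.obj (pt (rb A' B))))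
    (fun B x y => map_add (tr F (Alg.unit A A' B)) x y)
    (fun B b x => tr_smul F (Alg.unit A A' B) b x)
    (fun B B' f x => by
      have := tr_comp F f (Alg.unit A A' B') x
      rw [unit_nat, tr_comp] at this
      exact this.symm)

theorem η_app (F : MVF A) (B : Alg A) (x : F.obj (pt B)) :
    (η A' F).app (pt B) x = (tr F (Alg.unit A A' B) x : F.obj (pt (rb A' B))) := rfl

/-- the first coface map -/
def d0 (F : MVF A) : PR A' F ⟶ PR A' (PR A' F) := η A' (PR A' F)

/-- the second coface map -/
def d1 (F : MVF A) : PR A' F ⟶ PR A' (PR A' F) := (push A A').map ((restr A A').map (η A' F))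

theorem d0_app (F : MVF A) (B : Alg A) (x : F.obj (pt (rb A' B))) :
    (d0 A' F).app (pt B) x =
      (tr F ((Alg.restr A A').map ((Alg.baseChange A A').map (Alg.unit A A' B))) x :
        F.obj (pt (rb A' (rb A' B)))) := rfl

theorem d1_app (F : MVF A) (B : Alg A) (x : F.obj (pt (rb A' B))) :
    (d1 A' F).app (pt B) x =
      (tr F (Alg.unit A A' (rb A' B)) x : F.obj (pt (rb A' (rb A' B)))) := rfl

theorem η_d (F : MVF A) : η A' F ≫ (d0 A' F - d1 A' F) = 0 := by
  rw [Preadditive.comp_sub, sub_eq_zero]
  apply hom_ext'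
  intro B x
  rw [comp_app_apply, comp_app_apply]
  change tr F _ (tr F _ x) = tr F _ (tr F _ x)
  rw [← tr_comp, ← tr_comp]
  exact congrArg (fun g => tr F g x) (unit_nat A' (Alg.unit A A' B)).symm

theorem adequate_of_restr {F : MVF A} (h₁ : adequate A' ((restr A A').obj F))
    (h₂ : ∀ B : Alg A, Function.Injective (tr F (Alg.unit A A' B)) ∧
      ∀ y : F.obj (pt (rb A' B)),
        tr F (Alg.unit A A' (rb A' B)) y =
          tr F ((Alg.restr A A').map ((Alg.baseChange A A').map (Alg.unit A A' B))) y →
        ∃ x, tr F (Alg.unit A A' B) x = y) :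
    adequate A F := by
  have a1 : adequate A (PR A' F) := Push.adequate_push h₁
  have a2 : adequate A (PR A' (PR A' F)) := Push.adequate_push (Restr.adequate_restr A' a1)
  have hk := Cok.adequate_kernel (d0 A' F - d1 A' F) a1 a2
  let e : F ⟶ kernel (d0 A' F - d1 A' F) := kernel.lift _ (η A' F) (η_d A' F)
  have he : ∀ (B : Alg A) (x : F.obj (pt B)),
      (kernel.ι (d0 A' F - d1 A' F)).app (pt B) (e.app (pt B) x) =
        (tr F (Alg.unit A A' B) x : F.obj (pt (rb A' B))) := by
    intro B x
    rw [← comp_app_apply, kernel.lift_ι]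
    rfl
  have : IsIso e := by
    rw [isIso_iff]
    intro B
    constructor
    · intro x y hxy
      apply (h₂ B).1
      have := congrArg ((kernel.ι (d0 A' F - d1 A' F)).app (pt B)) hxy
      rw [he, he] at this
      exact this
    · intro y
      obtain ⟨x, hx⟩ := (h₂ B).2 ((kernel.ι (d0 A' F - d1 A' F)).app (pt B) y) (by
        have h := kernel_condition_apply (d0 A' F - d1 A' F) B y
        have h' : (d0 A' F).app (pt B) ((kernel.ι (d0 A' F - d1 A' F)).app (pt B) y) -
            (d1 A' F).app (pt B) ((kernel.ι (d0 A' F - d1 A' F)).app (pt B) y) = 0 := h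
        rw [sub_eq_zero] at h'
        exact h'.symm)
      refine ⟨x, ?_⟩
      apply kernel_ι_injective
      rw [he]
      exact hx
  exact (adequate A).prop_of_iso (asIso e).symm hk

end

end K569.Desc
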