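import Groth.Agent.Adeq.K569.Homog
import Mathlib.Algebra.Polynomial.AlgebraMap
import Mathlib.Algebra.Polynomial.Monomial

/-!
# Cocycle identities in polynomial algebras (for splitting extensions of linearly adequate functors)
-/

universe u w

open TensorProduct Polynomial

namespace K569.ExtAlg

open K569.Homog

noncomputable section

variable {A : Type u} [CommRing A] (R : Type u) [CommRing R] [Algebra A R]

variable (A) in
/-- inclusion of constants -/
def gam : R →ₐ[A] R[X] := Polynomial.CAlgHom

variable (A) in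
/-- the map `X ↦ X * Y` -/
def bet : R[X] →ₐ[A] R[X][X] :=
  (Polynomial.aeval (R := R) (C X * X : R[X][X])).restrictScalars A

variable {R} in
/-- apply `s` to the coefficients -/
def alp {D : Type u} [CommRing D] [Algebra A D] (s : R →ₐ[A] D) : R[X] →ₐ[A] D[X] :=
  Polynomial.mapAlgHom s

theorem bet_C (r : R) : bet A R (C r) = C (C r) := by
  change Polynomial.aeval (R := R) (C X * X : R[X][X]) (C r) = _
  rw [Polynomial.aeval_C]
  rfl

theorem bet_X : bet A R X = C X * X := by
  change Polynomial.aeval (R := R) (C X * X : R[X][X]) X = _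
  rw [Polynomial.aeval_X]

theorem bet_coeff_one (p : R[X]) : (bet A R p).coeff 1 = X * C (p.coeff 1) := by
  induction p using Polynomial.induction_on' with
  | add p q hp hq => rw [map_add, coeff_add, hp, hq, coeff_add, map_add, mul_add]
  | monomial n a =>
    rw [← C_mul_X_pow_eq_monomial, map_mul, map_pow, bet_C, bet_X, mul_pow, ← mul_assoc,
      ← C_pow, ← C_mul, coeff_C_mul_X_pow, coeff_C_mul_X_pow]
    by_cases h : 1 = n
    · subst h
      rw [if_pos rfl, if_pos rfl, pow_one, mul_comm]
    · simp [h]

variable {M : Type w} [AddCommGroup M] [Module A M]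

theorem cf_bet (σ : R[X] ⊗[A] M) :
    (cf (A := A) R[X] 1).rTensor M ((bet A R).toLinearMap.rTensor M σ) =
      (X : R[X]) • (gam A R).toLinearMap.rTensor M ((cf (A := A) R 1).rTensor M σ) := by
  induction σ using TensorProduct.induction_on with
  | zero => simp
  | tmul p x =>
    simp only [LinearMap.rTensor_tmul, TensorProduct.smul_tmul']
    congr 1
    exact bet_coeff_one (A := A) R p
  | add x y hx hy => simp only [map_add, smul_add, hx, hy]

variable {R} in
theorem cf_alp {D : Type u} [CommRing D] [Algebra A D] (s : R →ₐ[A] D) (σ : R[X] ⊗[A] M) :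
    (cf (A := A) D 1).rTensor M ((alp s).toLinearMap.rTensor M σ) =
      s.toLinearMap.rTensor M ((cf (A := A) R 1).rTensor M σ) := by
  induction σ using TensorProduct.induction_on with
  | zero => simp
  | tmul p x =>
    simp only [LinearMap.rTensor_tmul]
    congr 1
    change (p.map (s : R →+* D)).coeff 1 = s (p.coeff 1)
    rw [coeff_map]
    rfl
  | add x y hx hy => simp only [map_add, hx, hy]

/-- a cocycle is a coboundary -/
theorem cocycle (s : R →ₐ[A] R[X]) (σ : R[X] ⊗[A] M)
    (h : (bet A R).toLinearMap.rTensor M σ = (alp s).toLinearMap.rTensor M σ +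
      (X : R[X][X]) • (gam A R[X]).toLinearMap.rTensor M σ) :
    (X : R[X]) • (gam A R).toLinearMap.rTensor M ((cf (A := A) R 1).rTensor M σ) =
      s.toLinearMap.rTensor M ((cf (A := A) R 1).rTensor M σ) + σ := by
  have := congrArg ((cf (A := A) R[X] 1).rTensor M) h
  rw [cf_bet, map_add, cf_alp] at this
  rw [this]
  congr 1
  exact cf_smul_C R[X] σ

variable {n m : ℕ} (a : Fin m → Fin n → A)

theorem alp_scl : (alp (scl a)).comp (scl a) = (bet A (Ua a)).comp (scl a) := by
  apply ua_ext
  intro i
  rw [AlgHom.comp_apply, AlgHom.comp_apply, scl_ux, map_mul, map_mul, bet_X, bet_C]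
  change Polynomial.map (scl a : Ua a →+* (Ua a)[X]) X *
    Polynomial.map (scl a : Ua a →+* (Ua a)[X]) (C (ux a i)) = _
  rw [Polynomial.map_X, Polynomial.map_C]
  change X * C (scl a (ux a i)) = _
  rw [scl_ux, C_mul]
  ring

theorem alp_cst : (alp (scl a)).comp (cst a) = (gam A (Ua a)[X]).comp (scl a) := by
  apply ua_ext
  intro i
  rw [AlgHom.comp_apply, AlgHom.comp_apply]
  change Polynomial.map (scl a : Ua a →+* (Ua a)[X]) (C (ux a i)) = C (scl a (ux a i))
  rw [Polynomial.map_C]
  rfl

theorem bet_cst : (bet A (Ua a)).comp (cst a) = (gam A (Ua a)[X]).comp (cst a) := by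
  apply ua_ext
  intro i
  rw [AlgHom.comp_apply, AlgHom.comp_apply]
  change bet A (Ua a) (C (ux a i)) = C (C (ux a i))
  rw [bet_C]

section Prod

variable (C : Type u) [CommRing C] [Algebra A C] {M N M' N' : Type w}
  [AddCommGroup M] [Module A M] [AddCommGroup N] [Module A N]
  [AddCommGroup M'] [Module A M'] [AddCommGroup N'] [Module A N']

/-- the sum map -/
def su (y : C ⊗[A] M) (y' : C ⊗[A] N) : C ⊗[A] (M × N) :=
  (LinearMap.inl A M N).baseChange C y + (LinearMap.inr A M N).baseChange C y'

theorem fst_su (y : C ⊗[A] M) (y' : C ⊗[A] N) :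
    (LinearMap.fst A M N).baseChange C (su C y y') = y := by
  rw [su, map_add, ← LinearMap.comp_apply, ← LinearMap.comp_apply, ← LinearMap.baseChange_comp,
    ← LinearMap.baseChange_comp, LinearMap.fst_comp_inl, LinearMap.fst_comp_inr,
    LinearMap.baseChange_id, LinearMap.baseChange_zero, LinearMap.id_apply, LinearMap.zero_apply,
    add_zero]

theorem snd_su (y : C ⊗[A] M) (y' : C ⊗[A] N) :
    (LinearMap.snd A M N).baseChange C (su C y y') = y' := by
  rw [su, map_add, ← LinearMap.comp_apply, ← LinearMap.comp_apply, ← LinearMap.baseChange_comp,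
    ← LinearMap.baseChange_comp, LinearMap.snd_comp_inl, LinearMap.snd_comp_inr,
    LinearMap.baseChange_id, LinearMap.baseChange_zero, LinearMap.id_apply, LinearMap.zero_apply,
    zero_add]

theorem su_fst_snd (z : C ⊗[A] (M × N)) :
    su C ((LinearMap.fst A M N).baseChange C z) ((LinearMap.snd A M N).baseChange C z) = z := by
  rw [su, ← LinearMap.comp_apply, ← LinearMap.comp_apply, ← LinearMap.baseChange_comp,
    ← LinearMap.baseChange_comp, ← LinearMap.add_apply, ← LinearMap.baseChange_add]
  have e3 : LinearMap.inl A M N ∘ₗ LinearMap.fst A M N +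
      LinearMap.inr A M N ∘ₗ LinearMap.snd A M N = LinearMap.id := by
    refine LinearMap.ext fun x => ?_
    change (x.1, (0 : N)) + ((0 : M), x.2) = x
    rw [Prod.mk_add_mk, add_zero, zero_add]
  rw [e3, LinearMap.baseChange_id, LinearMap.id_apply]

theorem prodMap_eq_zero_iff (φ : M →ₗ[A] M') (ψ : N →ₗ[A] N') (z : C ⊗[A] (M × N)) :
    (LinearMap.prodMap φ ψ).baseChange C z = 0 ↔
      φ.baseChange C ((LinearMap.fst A M N).baseChange C z) = 0 ∧
        ψ.baseChange C ((LinearMap.snd A M N).baseChange C z) = 0 := by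
  rw [← LinearMap.comp_apply, ← LinearMap.comp_apply, ← LinearMap.baseChange_comp,
    ← LinearMap.baseChange_comp]
  have e1 : φ ∘ₗ LinearMap.fst A M N = LinearMap.fst A M' N' ∘ₗ LinearMap.prodMap φ ψ :=
    LinearMap.ext fun x => rfl
  have e2 : ψ ∘ₗ LinearMap.snd A M N = LinearMap.snd A M' N' ∘ₗ LinearMap.prodMap φ ψ :=
    LinearMap.ext fun x => rfl
  rw [e1, e2, LinearMap.baseChange_comp, LinearMap.baseChange_comp, LinearMap.comp_apply,
    LinearMap.comp_apply]
  constructor
  · intro h
    rw [h]
    exact ⟨map_zero _, map_zero _⟩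
  · rintro ⟨h, h'⟩
    rw [← su_fst_snd C ((LinearMap.prodMap φ ψ).baseChange C z), h, h', su, map_zero, map_zero,
      add_zero]

end Prod

end

end K569.ExtAlg
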