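import Groth.Agent.Adeq.K569.Repr
import Groth.Agent.Adeq.K569.Cok
import Groth.Agent.Adeq.K569.ExtAlg
import Mathlib.Algebra.Homology.ShortComplex.ShortExact
import Mathlib.RingTheory.Finiteness.Prod
import Mathlib.LinearAlgebra.FreeModule.Basic
import Mathlib.LinearAlgebra.Basis.Prod

/-!
# Extensions of linearly adequate functors by `underline M` split
-/

universe u

open CategoryTheory Limits Opposite TensorProduct Adeq

namespace K569.Ext1

open K569.Basic K569.Homog K569.Repr K569.ExtAlg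

noncomputable section

variable {A : Type u} [CommRing A] {P P' : ModuleCat.{u + 1} A} (φ₀ : P ⟶ P') {n m : ℕ}
  (b : Module.Basis (Fin n) A P) (b' : Module.Basis (Fin m) A P')

/-- the second polynomial algebra -/
abbrev poly2 (C : Alg A) : Alg A := algOf A (Polynomial (Polynomial (C : Type u)))

/-- the map `α` -/
abbrev alpH : polyAlg (UA φ₀ b b') ⟶ poly2 (UA φ₀ b b') :=
  CommAlgCat.ofHom (alp (scl (mat φ₀ b b')))

/-- the map `β` -/
abbrev betH : polyAlg (UA φ₀ b b') ⟶ poly2 (UA φ₀ b b') :=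
  CommAlgCat.ofHom (bet A (Ua (mat φ₀ b b')))

/-- the map `γ` -/
abbrev gamH : polyAlg (UA φ₀ b b') ⟶ poly2 (UA φ₀ b b') :=
  CommAlgCat.ofHom (gam A (Polynomial (Ua (mat φ₀ b b'))))

theorem scl_alp : sclH φ₀ b b' ≫ alpH φ₀ b b' = sclH φ₀ b b' ≫ betH φ₀ b b' :=
  CommAlgCat.hom_ext (alp_scl (mat φ₀ b b'))

theorem cst_alp : cstH φ₀ b b' ≫ alpH φ₀ b b' = sclH φ₀ b b' ≫ gamH φ₀ b b' :=
  CommAlgCat.hom_ext (alp_cst (mat φ₀ b b'))

theorem cst_bet : cstH φ₀ b b' ≫ betH φ₀ b b' = cstH φ₀ b b' ≫ gamH φ₀ b b' :=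
  CommAlgCat.hom_ext (bet_cst (mat φ₀ b b'))

variable {M : ModuleCat.{u + 1} A} {G : MVF A} (f : (underline A).obj M ⟶ G) (g : G ⟶ L φ₀)

theorem exists_theta (hf : ∀ B : Alg A, Function.Injective (f.app (pt B)))
    (hg : ∀ B : Alg A, Function.Surjective (g.app (pt B)))
    (hfg : ∀ B : Alg A, Function.Exact (f.app (pt B)) (g.app (pt B))) :
    ∃ θ : G.obj (pt (UA φ₀ b b')), g.app (pt (UA φ₀ b b')) θ = ξ φ₀ b b' ∧
      tr G (sclH φ₀ b b') θ =
        (Polynomial.X : Polynomial (Ua (mat φ₀ b b'))) • tr G (cstH φ₀ b b') θ := by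
  obtain ⟨θ', hθ'⟩ := hg _ (ξ φ₀ b b')
  obtain ⟨σ, hσ⟩ := (hfg (polyAlg (UA φ₀ b b')) (tr G (sclH φ₀ b b') θ' -
    (Polynomial.X : Polynomial (Ua (mat φ₀ b b'))) • tr G (cstH φ₀ b b') θ')).1 (by
    refine (map_sub (g.app (pt (polyAlg (UA φ₀ b b')))).hom _ _).trans ?_
    rw [sub_eq_zero]
    refine (naturality g _ _).trans ?_
    refine Eq.trans ?_ (app_smul g (B := polyAlg (UA φ₀ b b')) _ _).symm
    rw [naturality, hθ']
    exact map_sclH φ₀ b b')
  have key : (bet A (Ua (mat φ₀ b b'))).toLinearMap.rTensor M σ =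
      (alp (scl (mat φ₀ b b'))).toLinearMap.rTensor M σ +
      (Polynomial.X : Polynomial (Polynomial (Ua (mat φ₀ b b')))) •
        (gam A (Polynomial (Ua (mat φ₀ b b')))).toLinearMap.rTensor M σ := by
    apply hf (poly2 (UA φ₀ b b'))
    refine Eq.trans ?_ (map_add (f.app (pt (poly2 (UA φ₀ b b')))).hom _ _).symm
    refine (naturality f (betH φ₀ b b') σ).trans ?_
    refine Eq.trans ?_ (congrArg₂ (· + ·) (naturality f (alpH φ₀ b b') σ).symm
      ((app_smul f (B := poly2 (UA φ₀ b b')) _ _).trans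
        (congrArg (fun z => (Polynomial.X : Polynomial (Polynomial (Ua (mat φ₀ b b')))) • z)
          (naturality f (gamH φ₀ b b') σ))).symm)
    rw [hσ]
    have e1 : tr G (betH φ₀ b b') (tr G (sclH φ₀ b b') θ' -
        (Polynomial.X : Polynomial (Ua (mat φ₀ b b'))) • tr G (cstH φ₀ b b') θ') =
        tr G (betH φ₀ b b') (tr G (sclH φ₀ b b') θ') -
          (Polynomial.C Polynomial.X * Polynomial.X : Polynomial (Polynomial (Ua (mat φ₀ b b')))) •
            tr G (betH φ₀ b b') (tr G (cstH φ₀ b b') θ') := by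
      refine (map_sub (tr G (betH φ₀ b b')) _ _).trans ?_
      congr 1
      refine (tr_smul G (betH φ₀ b b') (B := polyAlg (UA φ₀ b b')) _ _).trans ?_
      congr 1
      exact bet_X (A := A) (Ua (mat φ₀ b b'))
    have e2 : tr G (alpH φ₀ b b') (tr G (sclH φ₀ b b') θ' -
        (Polynomial.X : Polynomial (Ua (mat φ₀ b b'))) • tr G (cstH φ₀ b b') θ') =
        tr G (alpH φ₀ b b') (tr G (sclH φ₀ b b') θ') -
          (Polynomial.X : Polynomial (Polynomial (Ua (mat φ₀ b b')))) •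
            tr G (alpH φ₀ b b') (tr G (cstH φ₀ b b') θ') := by
      refine (map_sub (tr G (alpH φ₀ b b')) _ _).trans ?_
      congr 1
      refine (tr_smul G (alpH φ₀ b b') (B := polyAlg (UA φ₀ b b')) _ _).trans ?_
      congr 1
      exact Polynomial.map_X _
    have e3 : tr G (gamH φ₀ b b') (tr G (sclH φ₀ b b') θ' -
        (Polynomial.X : Polynomial (Ua (mat φ₀ b b'))) • tr G (cstH φ₀ b b') θ') =
        tr G (gamH φ₀ b b') (tr G (sclH φ₀ b b') θ') -
          (Polynomial.C Polynomial.X : Polynomial (Polynomial (Ua (mat φ₀ b b')))) •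
            tr G (gamH φ₀ b b') (tr G (cstH φ₀ b b') θ') := by
      refine (map_sub (tr G (gamH φ₀ b b')) _ _).trans ?_
      congr 1
      exact tr_smul G (gamH φ₀ b b') (B := polyAlg (UA φ₀ b b')) _ _
    rw [e1, e2, e3, ← tr_comp, ← tr_comp, ← tr_comp, ← tr_comp, ← tr_comp, ← tr_comp,
      scl_alp, cst_alp, cst_bet, smul_sub, smul_smul, sub_add_sub_cancel, mul_comm]
  have key2 := cocycle (Ua (mat φ₀ b b')) (scl (mat φ₀ b b')) σ key
  let σ₁ : (UA φ₀ b b' : Type u) ⊗[A] M := (cf (A := A) (Ua (mat φ₀ b b')) 1).rTensor M σ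
  have h1 : tr G (sclH φ₀ b b') (f.app (pt (UA φ₀ b b')) σ₁) =
      f.app (pt (polyAlg (UA φ₀ b b'))) ((scl (mat φ₀ b b')).toLinearMap.rTensor M σ₁) :=
    (naturality f (sclH φ₀ b b') σ₁).symm
  have h2 : tr G (cstH φ₀ b b') (f.app (pt (UA φ₀ b b')) σ₁) =
      f.app (pt (polyAlg (UA φ₀ b b')))
        ((gam A (Ua (mat φ₀ b b'))).toLinearMap.rTensor M σ₁) :=
    (naturality f (cstH φ₀ b b') σ₁).symm
  refine ⟨θ' + f.app (pt (UA φ₀ b b')) σ₁, ?_, ?_⟩
  · refine (map_add (g.app (pt (UA φ₀ b b'))).hom _ _).trans ?_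
    refine (congrArg₂ (· + ·) hθ' ((hfg _ _).2 ⟨σ₁, rfl⟩)).trans (add_zero _)
  · rw [map_add, map_add, h1, h2, smul_add]
    have h3 : (Polynomial.X : Polynomial (Ua (mat φ₀ b b'))) •
        (f.app (pt (polyAlg (UA φ₀ b b')))
          ((gam A (Ua (mat φ₀ b b'))).toLinearMap.rTensor M σ₁) :
            G.obj (pt (polyAlg (UA φ₀ b b')))) =
        f.app (pt (polyAlg (UA φ₀ b b'))) ((scl (mat φ₀ b b')).toLinearMap.rTensor M σ₁) +
          f.app (pt (polyAlg (UA φ₀ b b'))) σ := by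
      refine (app_smul f (B := polyAlg (UA φ₀ b b')) _ _).symm.trans ?_
      refine Eq.trans ?_ (map_add (f.app (pt (polyAlg (UA φ₀ b b')))).hom _ _)
      exact congrArg _ key2
    rw [h3, hσ]
    abel

/-- evaluation of a polynomial at `t`, with coefficients mapped along `h` -/
def evH {U C : Alg A} (h : U ⟶ C) (t : C) : polyAlg U ⟶ C :=
  CommAlgCat.ofHom (Polynomial.eval₂AlgHom h.hom t fun _ => Commute.all _ _)

theorem cst_evH {C : Alg A} (h : UA φ₀ b b' ⟶ C) (t : C) : cstH φ₀ b b' ≫ evH h t = h := by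
  apply CommAlgCat.hom_ext
  refine AlgHom.ext fun x => ?_
  exact Polynomial.eval₂_C _ _

theorem evH_X {U C : Alg A} (h : U ⟶ C) (t : C) :
    (evH h t).hom (Polynomial.X : Polynomial (U : Type u)) = t :=
  Polynomial.eval₂_X _ _

theorem clsf_smul (C : Alg A) (t : C) (l : (L φ₀).obj (pt C)) :
    clsf φ₀ b b' C (t • l) = sclH φ₀ b b' ≫ evH (clsf φ₀ b b' C l) t := by
  apply clsf_unique
  rw [map_clsf, tr_comp, map_sclH]
  refine Eq.trans ?_ (tr_smul (L φ₀) (evH (clsf φ₀ b b' C l) t) (B := polyAlg (UA φ₀ b b'))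
    _ _).symm
  rw [evH_X, ← tr_comp, cst_evH, map_clsf]

theorem clsf_tr {C C' : Alg A} (h : C ⟶ C') (l : (L φ₀).obj (pt C)) :
    clsf φ₀ b b' C' (tr (L φ₀) h l) = clsf φ₀ b b' C l ≫ h := by
  apply clsf_unique
  rw [map_clsf, tr_comp, map_clsf]

include b b' in
/-- A homogeneous lift of the universal element gives a natural homogeneous set-theoretic
section. -/
theorem exists_homog_section (hf : ∀ B : Alg A, Function.Injective (f.app (pt B)))
    (hg : ∀ B : Alg A, Function.Surjective (g.app (pt B)))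
    (hfg : ∀ B : Alg A, Function.Exact (f.app (pt B)) (g.app (pt B))) :
    ∃ ψ : ∀ C : Alg A, (L φ₀).obj (pt C) → G.obj (pt C),
      (∀ (C : Alg A) (l : (L φ₀).obj (pt C)), g.app (pt C) (ψ C l) = l) ∧
      (∀ ⦃C C' : Alg A⦄ (h : C ⟶ C') (l : (L φ₀).obj (pt C)),
        ψ C' (tr (L φ₀) h l) = tr G h (ψ C l)) ∧
      (∀ (C : Alg A) (t : C) (l : (L φ₀).obj (pt C)), ψ C (t • l) = t • ψ C l) := by
  obtain ⟨θ, h1, h2⟩ := exists_theta φ₀ b b' f g hf hg hfg
  refine ⟨fun C l => tr G (clsf φ₀ b b' C l) θ, fun C l => ?_, fun C C' h l => ?_,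
    fun C t l => ?_⟩
  · rw [naturality, h1, map_clsf]
  · beta_reduce
    rw [clsf_tr, tr_comp]
  · beta_reduce
    rw [clsf_smul, tr_comp, h2]
    refine (tr_smul G (evH (clsf φ₀ b b' C l) t) (B := polyAlg (UA φ₀ b b')) _ _).trans ?_
    rw [evH_X, ← tr_comp, cst_evH]

section Add

/-- the doubled map -/
abbrev dbl : ModuleCat.of A (P × P) ⟶ ModuleCat.of A (P' × P') :=
  ModuleCat.ofHom (LinearMap.prodMap φ₀.hom φ₀.hom)

theorem exists_dbl_maps : ∃ (p₁ p₂ : L (dbl φ₀) ⟶ L φ₀) (i₁ i₂ : L φ₀ ⟶ L (dbl φ₀)),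
    i₁ ≫ p₁ = 𝟙 _ ∧ i₁ ≫ p₂ = 0 ∧ i₂ ≫ p₁ = 0 ∧ i₂ ≫ p₂ = 𝟙 _ := by
  let f1 : ModuleCat.of A (P × P) ⟶ P := ModuleCat.ofHom (LinearMap.fst A P P)
  let f2 : ModuleCat.of A (P × P) ⟶ P := ModuleCat.ofHom (LinearMap.snd A P P)
  let j1 : P ⟶ ModuleCat.of A (P × P) := ModuleCat.ofHom (LinearMap.inl A P P)
  let j2 : P ⟶ ModuleCat.of A (P × P) := ModuleCat.ofHom (LinearMap.inr A P P)
  let f1' : ModuleCat.of A (P' × P') ⟶ P' := ModuleCat.ofHom (LinearMap.fst A P' P')
  let f2' : ModuleCat.of A (P' × P') ⟶ P' := ModuleCat.ofHom (LinearMap.snd A P' P')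
  let j1' : P' ⟶ ModuleCat.of A (P' × P') := ModuleCat.ofHom (LinearMap.inl A P' P')
  let j2' : P' ⟶ ModuleCat.of A (P' × P') := ModuleCat.ofHom (LinearMap.inr A P' P')
  have a1 : dbl φ₀ ≫ f1' = f1 ≫ φ₀ := ModuleCat.hom_ext (LinearMap.ext fun x => rfl)
  have a2 : dbl φ₀ ≫ f2' = f2 ≫ φ₀ := ModuleCat.hom_ext (LinearMap.ext fun x => rfl)
  have a3 : φ₀ ≫ j1' = j1 ≫ dbl φ₀ := by
    refine ModuleCat.hom_ext (LinearMap.ext fun x => ?_)
    change (φ₀.hom x, (0 : P')) = (φ₀.hom x, φ₀.hom 0)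
    rw [map_zero]
  have a4 : φ₀ ≫ j2' = j2 ≫ dbl φ₀ := by
    refine ModuleCat.hom_ext (LinearMap.ext fun x => ?_)
    change ((0 : P'), φ₀.hom x) = (φ₀.hom 0, φ₀.hom x)
    rw [map_zero]
  have b1 : j1 ≫ f1 = 𝟙 P := ModuleCat.hom_ext (LinearMap.ext fun x => rfl)
  have b2 : j1 ≫ f2 = 0 := ModuleCat.hom_ext (LinearMap.ext fun x => rfl)
  have b3 : j2 ≫ f1 = 0 := ModuleCat.hom_ext (LinearMap.ext fun x => rfl)
  have b4 : j2 ≫ f2 = 𝟙 P := ModuleCat.hom_ext (LinearMap.ext fun x => rfl)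
  let p1 : L (dbl φ₀) ⟶ L φ₀ := kernel.map _ _ ((underline A).map f1) ((underline A).map f1')
    (by rw [← Functor.map_comp, ← Functor.map_comp, a1])
  let p2 : L (dbl φ₀) ⟶ L φ₀ := kernel.map _ _ ((underline A).map f2) ((underline A).map f2')
    (by rw [← Functor.map_comp, ← Functor.map_comp, a2])
  let i1 : L φ₀ ⟶ L (dbl φ₀) := kernel.map _ _ ((underline A).map j1) ((underline A).map j1')
    (by rw [← Functor.map_comp, ← Functor.map_comp, a3])
  let i2 : L φ₀ ⟶ L (dbl φ₀) := kernel.map _ _ ((underline A).map j2) ((underline A).map j2')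
    (by rw [← Functor.map_comp, ← Functor.map_comp, a4])
  have c1 : p1 ≫ ι φ₀ = ι (dbl φ₀) ≫ (underline A).map f1 := kernel.lift_ι _ _ _
  have c2 : p2 ≫ ι φ₀ = ι (dbl φ₀) ≫ (underline A).map f2 := kernel.lift_ι _ _ _
  have c3 : i1 ≫ ι (dbl φ₀) = ι φ₀ ≫ (underline A).map j1 := kernel.lift_ι _ _ _
  have c4 : i2 ≫ ι (dbl φ₀) = ι φ₀ ≫ (underline A).map j2 := kernel.lift_ι _ _ _
  refine ⟨p1, p2, i1, i2, ?_, ?_, ?_, ?_⟩
  · rw [← cancel_mono (ι φ₀), Category.assoc, c1, reassoc_of% c3, ← Functor.map_comp, b1,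
      CategoryTheory.Functor.map_id, Category.comp_id, Category.id_comp]
  · rw [← cancel_mono (ι φ₀), Category.assoc, c2, reassoc_of% c3, ← Functor.map_comp, b2,
      Functor.map_zero, comp_zero, zero_comp]
  · rw [← cancel_mono (ι φ₀), Category.assoc, c1, reassoc_of% c4, ← Functor.map_comp, b3,
      Functor.map_zero, comp_zero, zero_comp]
  · rw [← cancel_mono (ι φ₀), Category.assoc, c2, reassoc_of% c4, ← Functor.map_comp, b4,
      CategoryTheory.Functor.map_id, Category.comp_id, Category.id_comp]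

variable [Module.Finite A P] [Module.Free A P] [Module.Finite A P'] [Module.Free A P']

/-- existence of a section -/
theorem exists_section (hf : ∀ B : Alg A, Function.Injective (f.app (pt B)))
    (hg : ∀ B : Alg A, Function.Surjective (g.app (pt B)))
    (hfg : ∀ B : Alg A, Function.Exact (f.app (pt B)) (g.app (pt B))) :
    ∃ s : L φ₀ ⟶ G, s ≫ g = 𝟙 _ := by
  obtain ⟨n, ⟨b⟩⟩ := exists_basis A P
  obtain ⟨m, ⟨b'⟩⟩ := exists_basis A P'
  obtain ⟨ψ, h1, h2, h3⟩ := exists_homog_section φ₀ b b' f g hf hg hfg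
  obtain ⟨p₁, p₂, i₁, i₂, h11, h12, h21, h22⟩ := exists_dbl_maps φ₀
  have hτ : ∀ (C : Alg A) (z : (L (dbl φ₀)).obj (pt C)), ∃ y : (C : Type u) ⊗[A] M,
      f.app (pt C) y = ψ C (p₁.app (pt C) z + p₂.app (pt C) z) - ψ C (p₁.app (pt C) z) -
        ψ C (p₂.app (pt C) z) := by
    intro C z
    refine (hfg C _).1 ?_
    refine (map_sub (g.app (pt C)).hom _ _).trans ?_
    refine (congrArg (· - _) (map_sub (g.app (pt C)).hom _ _)).trans ?_
    refine (congrArg₂ (· - ·) (congrArg₂ (· - ·) (h1 _ _) (h1 _ _)) (h1 _ _)).trans ?_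
    abel
  choose τ hτ using hτ
  have hψ0 : ∀ C : Alg A, ψ C 0 = 0 := fun C => by
    have := h3 C 0 0
    rwa [zero_smul, zero_smul] at this
  have : Module.Finite A (ModuleCat.of A (P × P)) := inferInstanceAs (Module.Finite A (P × P))
  have : Module.Finite A (ModuleCat.of A (P' × P')) :=
    inferInstanceAs (Module.Finite A (P' × P'))
  have : Module.Free A (ModuleCat.of A (P × P)) := inferInstanceAs (Module.Free A (P × P))
  have : Module.Free A (ModuleCat.of A (P' × P')) := inferInstanceAs (Module.Free A (P' × P'))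
  obtain ⟨k, hk⟩ := exists_of_homog' (dbl φ₀) (M := M) τ (fun C C' h l => by
    apply hf C'
    rw [hτ]
    refine Eq.trans ?_ (naturality f h _).symm
    rw [hτ, naturality, naturality, ← map_add, h2, h2, h2, map_sub, map_sub]) (fun C t l => by
    apply hf C
    rw [hτ]
    refine Eq.trans ?_ (app_smul f t _).symm
    rw [hτ, app_smul, app_smul, ← smul_add, h3, h3, h3, smul_sub, smul_sub])
  have hadd : ∀ (C : Alg A) (x y : (L φ₀).obj (pt C)), ψ C (x + y) = ψ C x + ψ C y := by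
    intro C x y
    have e1 : τ C (i₁.app (pt C) x) = 0 := by
      apply hf C
      rw [hτ, ← comp_app_apply, ← comp_app_apply, h11, h12]
      refine Eq.trans ?_ (map_zero (f.app (pt C)).hom).symm
      change ψ C (x + 0) - ψ C x - ψ C 0 = 0
      rw [add_zero, hψ0]
      abel
    have e2 : τ C (i₂.app (pt C) y) = 0 := by
      apply hf C
      rw [hτ, ← comp_app_apply, ← comp_app_apply, h21, h22]
      refine Eq.trans ?_ (map_zero (f.app (pt C)).hom).symm
      change ψ C (0 + y) - ψ C 0 - ψ C y = 0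
      rw [zero_add, hψ0]
      abel
    have e3 : τ C (i₁.app (pt C) x + i₂.app (pt C) y) = 0 := by
      rw [hk] at e1 e2 ⊢
      refine (congrArg (k.hom.baseChange C)
        (map_add ((ι (dbl φ₀)).app (pt C)).hom _ _)).trans ?_
      refine (map_add (k.hom.baseChange C) _ _).trans ?_
      exact (congrArg₂ (· + ·) e1 e2).trans (add_zero _)
    have e4 : p₁.app (pt C) (i₁.app (pt C) x + i₂.app (pt C) y) = x := by
      refine (map_add (p₁.app (pt C)).hom _ _).trans ?_
      have q1 : (p₁.app (pt C)).hom (i₁.app (pt C) x) = x :=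
        congrArg (fun (h : L φ₀ ⟶ L φ₀) => h.app (pt C) x) h11
      have q2 : (p₁.app (pt C)).hom (i₂.app (pt C) y) = 0 :=
        congrArg (fun (h : L φ₀ ⟶ L φ₀) => h.app (pt C) y) h21
      exact (congrArg₂ (· + ·) q1 q2).trans (add_zero _)
    have e5 : p₂.app (pt C) (i₁.app (pt C) x + i₂.app (pt C) y) = y := by
      refine (map_add (p₂.app (pt C)).hom _ _).trans ?_
      have q1 : (p₂.app (pt C)).hom (i₁.app (pt C) x) = 0 :=
        congrArg (fun (h : L φ₀ ⟶ L φ₀) => h.app (pt C) x) h12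
      have q2 : (p₂.app (pt C)).hom (i₂.app (pt C) y) = y :=
        congrArg (fun (h : L φ₀ ⟶ L φ₀) => h.app (pt C) y) h22
      exact (congrArg₂ (· + ·) q1 q2).trans (zero_add _)
    have e6 := hτ C (i₁.app (pt C) x + i₂.app (pt C) y)
    rw [e3, e4, e5] at e6
    have e7 := e6.symm.trans (map_zero (f.app (pt C)).hom)
    rw [sub_sub, sub_eq_zero] at e7
    exact e7
  exact ⟨mkHom ψ hadd h3 h2, hom_ext' fun C l => h1 C l⟩

end Add

/-- a direct sum of adequate functors is adequate, pointwise form -/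
theorem adequate_of_bijective {X F G : MVF A} (hF : adequate A F) (hG : adequate A G)
    (r : X ⟶ F) (g : X ⟶ G)
    (h : ∀ B : Alg A, Function.Bijective fun x : X.obj (pt B) => (r.app (pt B) x, g.app (pt B) x)) :
    adequate A X := by
  obtain ⟨M, M', φ, i, hi, hφ⟩ := exists_of_adequate hF
  obtain ⟨N, N', ψ, j, hj, hψ⟩ := exists_of_adequate hG
  let MN : ModuleCat.{u + 1} A := ModuleCat.of A (M × N)
  let MN' : ModuleCat.{u + 1} A := ModuleCat.of A (M' × N')
  let Φ : MN ⟶ MN' := ModuleCat.ofHom (LinearMap.prodMap φ.hom ψ.hom)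
  let k : X ⟶ (underline A).obj MN :=
    r ≫ i ≫ (underline A).map (ModuleCat.ofHom (LinearMap.inl A M N)) +
      g ≫ j ≫ (underline A).map (ModuleCat.ofHom (LinearMap.inr A M N))
  have hk : ∀ (B : Alg A) (x : X.obj (pt B)), k.app (pt B) x =
      su (B : Type u) (i.app (pt B) (r.app (pt B) x)) (j.app (pt B) (g.app (pt B) x)) :=
    fun B x => rfl
  refine adequate_of_pointwise (M := MN) (N := MN') Φ k (fun B x y hxy => ?_) (fun B z => ?_)
  · apply (h B).1
    have hxy' := (hk B x).symm.trans (hxy.trans (hk B y))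
    have e1 := (fst_su (B : Type u) _ _).symm.trans
      ((congrArg _ hxy').trans (fst_su (B : Type u) _ _))
    have e2 := (snd_su (B : Type u) _ _).symm.trans
      ((congrArg _ hxy').trans (snd_su (B : Type u) _ _))
    exact Prod.ext (hi B e1) (hj B e2)
  · refine (prodMap_eq_zero_iff (B : Type u) φ.hom ψ.hom z).trans ⟨?_, ?_⟩
    · rintro ⟨h3, h4⟩
      obtain ⟨y, hy⟩ := (hφ B _).1 h3
      obtain ⟨y', hy'⟩ := (hψ B _).1 h4
      obtain ⟨x, hx⟩ := (h B).2 (y, y')
      refine ⟨x, ?_⟩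
      have hx1 : r.app (pt B) x = y := congrArg Prod.fst hx
      have hx2 : g.app (pt B) x = y' := congrArg Prod.snd hx
      rw [hk, hx1, hx2, hy, hy']
      exact su_fst_snd (B : Type u) z
    · rintro ⟨x, rfl⟩
      rw [hk]
      exact ⟨(congrArg _ (fst_su (B : Type u) _ _)).trans ((hφ B _).2 ⟨_, rfl⟩),
        (congrArg _ (snd_su (B : Type u) _ _)).trans ((hψ B _).2 ⟨_, rfl⟩)⟩

/-- a split extension of adequate functors is adequate -/
theorem adequate_of_splitting {S : ShortComplex (MVF A)} (s : S.Splitting)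
    (h₁ : adequate A S.X₁) (h₃ : adequate A S.X₃) : adequate A S.X₂ := by
  refine adequate_of_bijective h₁ h₃ s.r S.g fun B => ⟨fun x y hxy => ?_, ?_⟩
  · have h1 : ∀ x : S.X₂.obj (pt B), x = S.f.app (pt B) (s.r.app (pt B) x) +
        s.s.app (pt B) (S.g.app (pt B) x) := by
      intro x
      have := congrArg (fun (h : S.X₂ ⟶ S.X₂) => h.app (pt B) x) s.id
      exact this.symm
    have hx1 : s.r.app (pt B) x = s.r.app (pt B) y := congrArg Prod.fst hxy
    have hx2 : S.g.app (pt B) x = S.g.app (pt B) y := congrArg Prod.snd hxy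
    rw [h1 x, h1 y, hx1, hx2]
  · rintro ⟨y, z⟩
    refine ⟨S.f.app (pt B) y + s.s.app (pt B) z, Prod.ext ?_ ?_⟩
    · refine (map_add (s.r.app (pt B)).hom _ _).trans ?_
      have q1 : (s.r.app (pt B)).hom (S.f.app (pt B) y) = y :=
        congrArg (fun (h : S.X₁ ⟶ S.X₁) => h.app (pt B) y) s.f_r
      have q2 : (s.r.app (pt B)).hom (s.s.app (pt B) z) = 0 :=
        congrArg (fun (h : S.X₃ ⟶ S.X₁) => h.app (pt B) z) s.s_r
      exact (congrArg₂ (· + ·) q1 q2).trans (add_zero _)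
    · refine (map_add (S.g.app (pt B)).hom _ _).trans ?_
      have q1 : (S.g.app (pt B)).hom (S.f.app (pt B) y) = 0 :=
        congrArg (fun (h : S.X₁ ⟶ S.X₃) => h.app (pt B) y) S.zero
      have q2 : (S.g.app (pt B)).hom (s.s.app (pt B) z) = z :=
        congrArg (fun (h : S.X₃ ⟶ S.X₃) => h.app (pt B) z) s.s_g
      exact (congrArg₂ (· + ·) q1 q2).trans (zero_add _)

/-- `underline M` is adequate -/
theorem adequate_underline (M : ModuleCat.{u + 1} A) : adequate A ((underline A).obj M) := by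
  refine adequate_of_pointwise (M := M) (N := M) 0 (𝟙 _) (fun B => Function.injective_id)
    (fun B x => ⟨fun _ => ⟨x, rfl⟩, fun _ => ?_⟩)
  rw [ModuleCat.hom_zero, LinearMap.baseChange_zero]
  rfl

theorem adequate_of_linAdequate {F : MVF A} (h : linAdequate A F) : adequate A F := by
  obtain ⟨M, N, φ, -, -, -, -, e⟩ := h
  exact ⟨M, N, φ, e⟩

/-- a short exact sequence `0 → underline M → G → L → 0` with `L` linearly adequate splits -/
theorem exists_splitting (S : ShortComplex (MVF A)) (hS : S.ShortExact) (M : ModuleCat.{u + 1} A)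
    (e : S.X₁ ≅ (underline A).obj M) (hL : linAdequate A S.X₃) : Nonempty S.Splitting := by
  obtain ⟨P, P', φ₀, hP, hP', hP'', hP''', ⟨e'⟩⟩ := hL
  have hf := hS.mono_f
  have hg := hS.epi_g
  have hex := (exact_iff' S).1 hS.exact
  obtain ⟨s, hs⟩ := exists_section φ₀ (e.inv ≫ S.f) (S.g ≫ e'.hom)
    (fun B => (mono_iff _).1 inferInstance B) (fun B => (epi_iff _).1 inferInstance B)
    (fun B x => by
      constructor
      · intro hx
        have h1 : S.g.app (pt B) x = 0 := by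
          apply (mono_iff e'.hom).1 inferInstance B
          exact hx.trans (map_zero (e'.hom.app (pt B)).hom).symm
        obtain ⟨y, rfl⟩ := (hex B x).1 h1
        refine ⟨e.hom.app (pt B) y, ?_⟩
        have h2 : e.inv.app (pt B) (e.hom.app (pt B) y) = y :=
          congrArg (fun (h : S.X₁ ⟶ S.X₁) => h.app (pt B) y) e.hom_inv_id
        exact congrArg (S.f.app (pt B)) h2
      · rintro ⟨y, rfl⟩
        have h3 := (hex B (S.f.app (pt B) (e.inv.app (pt B) y))).2 ⟨_, rfl⟩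
        exact (congrArg (e'.hom.app (pt B)) h3).trans (map_zero (e'.hom.app (pt B)).hom))
  refine ⟨ShortComplex.Splitting.ofExactOfSection S hS.exact (e'.hom ≫ s) ?_ hf⟩
  rw [← cancel_mono e'.hom, Category.assoc, Category.assoc, hs, Category.comp_id,
    Category.id_comp]

end

end K569.Ext1
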