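import Groth.Agent.Adeq.K569.Ext1
import Groth.Agent.Adeq.K569.Colim

/-!
# Extensions of adequate functors are adequate
-/

universe u

open CategoryTheory Limits Opposite TensorProduct Adeq

namespace K569.Ext2

open K569.Basic K569.Lin K569.Cok K569.Colim K569.Ext1

noncomputable section

variable {A : Type u} [CommRing A]

section Biprod

variable {F G : MVF A} (B : Alg A)

theorem fst_inl (x : F.obj (pt B)) :
    (biprod.fst : F ⊞ G ⟶ F).app (pt B) ((biprod.inl : F ⟶ F ⊞ G).app (pt B) x) = x :=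
  congrArg (fun (h : F ⟶ F) => h.app (pt B) x) (biprod.inl_fst (X := F) (Y := G))

theorem snd_inl (x : F.obj (pt B)) :
    (biprod.snd : F ⊞ G ⟶ G).app (pt B) ((biprod.inl : F ⟶ F ⊞ G).app (pt B) x) = 0 :=
  congrArg (fun (h : F ⟶ G) => h.app (pt B) x) (biprod.inl_snd (X := F) (Y := G))

theorem fst_inr (x : G.obj (pt B)) :
    (biprod.fst : F ⊞ G ⟶ F).app (pt B) ((biprod.inr : G ⟶ F ⊞ G).app (pt B) x) = 0 :=
  congrArg (fun (h : G ⟶ F) => h.app (pt B) x) (biprod.inr_fst (X := F) (Y := G))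

theorem snd_inr (x : G.obj (pt B)) :
    (biprod.snd : F ⊞ G ⟶ G).app (pt B) ((biprod.inr : G ⟶ F ⊞ G).app (pt B) x) = x :=
  congrArg (fun (h : G ⟶ G) => h.app (pt B) x) (biprod.inr_snd (X := F) (Y := G))

theorem decomp (z : (F ⊞ G).obj (pt B)) :
    (biprod.inl : F ⟶ F ⊞ G).app (pt B) ((biprod.fst : F ⊞ G ⟶ F).app (pt B) z) +
      (biprod.inr : G ⟶ F ⊞ G).app (pt B) ((biprod.snd : F ⊞ G ⟶ G).app (pt B) z) = z :=
  congrArg (fun (h : F ⊞ G ⟶ F ⊞ G) => h.app (pt B) z) (biprod.total (X := F) (Y := G))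

theorem app_add {F G : MVF A} (h : F ⟶ G) (B : Alg A) (x y : F.obj (pt B)) :
    h.app (pt B) (x + y) = h.app (pt B) x + h.app (pt B) y :=
  map_add (h.app (pt B)).hom x y

theorem app_sub {F G : MVF A} (h : F ⟶ G) (B : Alg A) (x y : F.obj (pt B)) :
    h.app (pt B) (x - y) = h.app (pt B) x - h.app (pt B) y :=
  map_sub (h.app (pt B)).hom x y

theorem app_neg {F G : MVF A} (h : F ⟶ G) (B : Alg A) (x : F.obj (pt B)) :
    h.app (pt B) (-x) = -h.app (pt B) x :=
  map_neg (h.app (pt B)).hom x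

theorem app_zero {F G : MVF A} (h : F ⟶ G) (B : Alg A) :
    h.app (pt B) (0 : F.obj (pt B)) = 0 :=
  map_zero (h.app (pt B)).hom

theorem desc_apply {H : MVF A} (f : F ⟶ H) (g : G ⟶ H) (z : (F ⊞ G).obj (pt B)) :
    (biprod.desc f g).app (pt B) z =
      f.app (pt B) ((biprod.fst : F ⊞ G ⟶ F).app (pt B) z) +
        g.app (pt B) ((biprod.snd : F ⊞ G ⟶ G).app (pt B) z) := by
  conv_lhs => rw [← decomp B z]
  rw [app_add]
  exact congrArg₂ (· + ·)
    (congrArg (fun (h : F ⟶ H) => h.app (pt B) ((biprod.fst : F ⊞ G ⟶ F).app (pt B) z))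
      (biprod.inl_desc f g))
    (congrArg (fun (h : G ⟶ H) => h.app (pt B) ((biprod.snd : F ⊞ G ⟶ G).app (pt B) z))
      (biprod.inr_desc f g))

theorem fst_add (x : F.obj (pt B)) (y : G.obj (pt B)) :
    (biprod.fst : F ⊞ G ⟶ F).app (pt B) ((biprod.inl : F ⟶ F ⊞ G).app (pt B) x +
      (biprod.inr : G ⟶ F ⊞ G).app (pt B) y) = x := by
  rw [app_add, fst_inl, fst_inr, add_zero]

theorem snd_add (x : F.obj (pt B)) (y : G.obj (pt B)) :
    (biprod.snd : F ⊞ G ⟶ G).app (pt B) ((biprod.inl : F ⟶ F ⊞ G).app (pt B) x +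
      (biprod.inr : G ⟶ F ⊞ G).app (pt B) y) = y := by
  rw [app_add, snd_inl, snd_inr, zero_add]

theorem fst_lift {H : MVF A} (f : H ⟶ F) (g : H ⟶ G) (z : H.obj (pt B)) :
    (biprod.fst : F ⊞ G ⟶ F).app (pt B) ((biprod.lift f g).app (pt B) z) = f.app (pt B) z :=
  congrArg (fun (h : H ⟶ F) => h.app (pt B) z) (biprod.lift_fst f g)

theorem snd_lift {H : MVF A} (f : H ⟶ F) (g : H ⟶ G) (z : H.obj (pt B)) :
    (biprod.snd : F ⊞ G ⟶ G).app (pt B) ((biprod.lift f g).app (pt B) z) = g.app (pt B) z :=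
  congrArg (fun (h : H ⟶ G) => h.app (pt B) z) (biprod.lift_snd f g)

theorem biprod_ext {x y : (F ⊞ G).obj (pt B)}
    (h1 : (biprod.fst : F ⊞ G ⟶ F).app (pt B) x = (biprod.fst : F ⊞ G ⟶ F).app (pt B) y)
    (h2 : (biprod.snd : F ⊞ G ⟶ G).app (pt B) x = (biprod.snd : F ⊞ G ⟶ G).app (pt B) y) :
    x = y := by
  rw [← decomp B x, ← decomp B y, h1, h2]

variable {B}

theorem adequate_biprod (hF : adequate A F) (hG : adequate A G) : adequate A (F ⊞ G) := by
  refine adequate_of_bijective hF hG biprod.fst biprod.snd fun B => ⟨fun x y hxy => ?_, ?_⟩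
  · exact biprod_ext B (congrArg Prod.fst hxy) (congrArg Prod.snd hxy)
  · rintro ⟨x, y⟩
    refine ⟨(biprod.inl : F ⟶ F ⊞ G).app (pt B) x + (biprod.inr : G ⟶ F ⊞ G).app (pt B) y,
      Prod.ext ?_ ?_⟩
    · refine (app_add _ _ _ _).trans ?_
      rw [fst_inl, fst_inr, add_zero]
    · refine (app_add _ _ _ _).trans ?_
      rw [snd_inl, snd_inr, zero_add]

end Biprod

attribute [local instance] AB.hasCoproduct

/-- lifting of maps from linearly adequate functors along extensions by `underline M` -/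
theorem exists_lift_lin {M : ModuleCat.{u + 1} A} {G H : MVF A} (f : (underline A).obj M ⟶ G)
    (g : G ⟶ H) (hf : ∀ B : Alg A, Function.Injective (f.app (pt B)))
    (hg : ∀ B : Alg A, Function.Surjective (g.app (pt B)))
    (hfg : ∀ B : Alg A, Function.Exact (f.app (pt B)) (g.app (pt B)))
    {P P' : ModuleCat.{u + 1} A} (φ₀ : P ⟶ P') [Module.Finite A P] [Module.Free A P]
    [Module.Finite A P'] [Module.Free A P'] (p : Repr.L φ₀ ⟶ H) :
    ∃ s : Repr.L φ₀ ⟶ G, s ≫ g = p := by
  -- the pullback, as a kernel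
  let d : G ⊞ Repr.L φ₀ ⟶ H := biprod.desc g (-p)
  have hfp : ∀ (B : Alg A) (x : (underline A).obj M |>.obj (pt B)),
      d.app (pt B) ((biprod.inl : G ⟶ G ⊞ Repr.L φ₀).app (pt B) (f.app (pt B) x)) = 0 := by
    intro B x
    rw [← comp_app_apply, biprod.inl_desc]
    exact (hfg B _).2 ⟨x, rfl⟩
  let f' : (underline A).obj M ⟶ kernel d := kernel.lift d (f ≫ biprod.inl)
    (hom_ext' fun B x => hfp B x)
  let g' : kernel d ⟶ Repr.L φ₀ := kernel.ι d ≫ biprod.snd
  have hf' : ∀ (B : Alg A) (x : (underline A).obj M |>.obj (pt B)),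
      (kernel.ι d).app (pt B) (f'.app (pt B) x) =
        (biprod.inl : G ⟶ G ⊞ Repr.L φ₀).app (pt B) (f.app (pt B) x) := by
    intro B x
    rw [← comp_app_apply, kernel.lift_ι]
    rfl
  have hd : ∀ (B : Alg A) (z : (G ⊞ Repr.L φ₀).obj (pt B)), d.app (pt B) z = 0 ↔
      g.app (pt B) ((biprod.fst : G ⊞ Repr.L φ₀ ⟶ G).app (pt B) z) =
        p.app (pt B) ((biprod.snd : G ⊞ Repr.L φ₀ ⟶ _).app (pt B) z) := by
    intro B z
    have h1 : d.app (pt B) z =
        g.app (pt B) ((biprod.fst : G ⊞ Repr.L φ₀ ⟶ G).app (pt B) z) -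
          p.app (pt B) ((biprod.snd : G ⊞ Repr.L φ₀ ⟶ _).app (pt B) z) := by
      refine (desc_apply B g (-p) z).trans ?_
      rw [sub_eq_add_neg]
      rfl
    rw [h1, sub_eq_zero]
  obtain ⟨s, hs⟩ := exists_section φ₀ f' g' (fun B x y hxy => by
      apply hf B
      have h1 := congrArg (fun z => (biprod.fst : G ⊞ Repr.L φ₀ ⟶ G).app (pt B)
        ((kernel.ι d).app (pt B) z)) hxy
      beta_reduce at h1
      rw [hf', hf', fst_inl, fst_inl] at h1
      exact h1) (fun B l => by
      obtain ⟨y, hy⟩ := hg B (p.app (pt B) l)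
      obtain ⟨z, hz⟩ := exists_kernel d (B := B)
        ((biprod.inl : G ⟶ G ⊞ Repr.L φ₀).app (pt B) y +
          (biprod.inr : _ ⟶ G ⊞ Repr.L φ₀).app (pt B) l) (by
        rw [hd, fst_add, snd_add, hy])
      refine ⟨z, ?_⟩
      rw [comp_app_apply, hz, snd_add]) (fun B z => by
      constructor
      · intro hz
        have h0 : (biprod.snd : G ⊞ Repr.L φ₀ ⟶ _).app (pt B) ((kernel.ι d).app (pt B) z) = 0 :=
          hz
        have h1 := (hd B _).1 (kernel_condition_apply d B z)
        rw [h0, app_zero] at h1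
        obtain ⟨x, hx⟩ := (hfg B _).1 h1
        refine ⟨x, ?_⟩
        apply kernel_ι_injective
        rw [hf']
        apply biprod_ext
        · rw [fst_inl, hx]
        · rw [snd_inl, h0]
      · rintro ⟨x, rfl⟩
        rw [comp_app_apply, hf', snd_inl])
  refine ⟨s ≫ kernel.ι d ≫ biprod.fst, hom_ext' fun B l => ?_⟩
  have h1 := (hd B _).1 (kernel_condition_apply d B (s.app (pt B) l))
  rw [comp_app_apply, comp_app_apply, comp_app_apply, h1]
  congr 1
  exact congrArg (fun (h : Repr.L φ₀ ⟶ Repr.L φ₀) => h.app (pt B) l) hs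

/-- extension of an adequate functor by `underline M` -/
theorem adequate_ext_underline {M : ModuleCat.{u + 1} A} {G H : MVF A}
    (f : (underline A).obj M ⟶ G)
    (g : G ⟶ H) (hf : ∀ B : Alg A, Function.Injective (f.app (pt B)))
    (hg : ∀ B : Alg A, Function.Surjective (g.app (pt B)))
    (hfg : ∀ B : Alg A, Function.Exact (f.app (pt B)) (g.app (pt B)))
    (hH : adequate A H) : adequate A G := by
  have hs : ∀ i : Idx H, ∃ s : linF i.2.2.1 ⟶ G, s ≫ g = i.2.2.2 := fun i =>
    exists_lift_lin f g hf hg hfg (matHom i.2.2.1) i.2.2.2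
  choose s hs using hs
  let σ : (∐ idxF H) ⟶ G := Sigma.desc s
  have hσ : σ ≫ g = canon H := by
    apply Sigma.hom_ext
    intro i
    rw [Sigma.ι_desc_assoc, Sigma.ι_desc, hs]
  have hadS : adequate A (∐ idxF H) := adequate_coproduct _ fun i =>
    adequate_of_linAdequate (linAdequate_linF _)
  let q : (underline A).obj M ⊞ (∐ idxF H) ⟶ G := biprod.desc f σ
  have hq : ∀ (B : Alg A) z, q.app (pt B) z = f.app (pt B) ((biprod.fst :
      (underline A).obj M ⊞ (∐ idxF H) ⟶ _).app (pt B) z) + σ.app (pt B) ((biprod.snd :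
      (underline A).obj M ⊞ (∐ idxF H) ⟶ _).app (pt B) z) := fun B z => desc_apply B f σ z
  have hσ' : ∀ (B : Alg A) y, g.app (pt B) (σ.app (pt B) y) = (canon H).app (pt B) y := by
    intro B y
    rw [← comp_app_apply, hσ]
  have hgf : ∀ (B : Alg A) y, g.app (pt B) (f.app (pt B) y) = 0 := fun B y =>
    (hfg B _).2 ⟨y, rfl⟩
  have hcan := (epi_iff (canon H)).1 (epi_canon hH)
  have hepi : Epi q := by
    rw [epi_iff]
    intro B y
    obtain ⟨t, ht⟩ := hcan B (g.app (pt B) y)
    obtain ⟨x, hx⟩ := (hfg B (y - σ.app (pt B) t)).1 (by rw [app_sub, hσ', ht, sub_self])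
    refine ⟨(biprod.inl : _ ⟶ (underline A).obj M ⊞ (∐ idxF H)).app (pt B) x +
      (biprod.inr : _ ⟶ (underline A).obj M ⊞ (∐ idxF H)).app (pt B) t, ?_⟩
    rw [hq, fst_add, snd_add, hx]
    abel
  let c : kernel q ⟶ kernel (canon H) := kernel.lift _ (kernel.ι q ≫ biprod.snd)
    (hom_ext' fun B z => by
      have h1 := kernel_condition_apply q B z
      rw [hq] at h1
      have h2 := congrArg (g.app (pt B)) h1
      rw [app_add, hgf, zero_add, app_zero, hσ'] at h2
      exact h2)
  have hc : ∀ (B : Alg A) z, (kernel.ι (canon H)).app (pt B) (c.app (pt B) z) =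
      (biprod.snd : (underline A).obj M ⊞ (∐ idxF H) ⟶ _).app (pt B)
        ((kernel.ι q).app (pt B) z) := by
    intro B z
    rw [← comp_app_apply, kernel.lift_ι]
    rfl
  have hciso : IsIso c := by
    rw [isIso_iff]
    intro B
    constructor
    · refine (injective_iff_map_eq_zero (c.app (pt B)).hom).2 fun z hz => ?_
      have h0 : c.app (pt B) z = 0 := hz
      have h1 := hc B z
      rw [h0, app_zero] at h1
      have h2 := kernel_condition_apply q B z
      rw [hq, ← h1, app_zero, add_zero] at h2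
      have h3 := hf B (h2.trans (app_zero f B).symm)
      apply kernel_ι_injective
      rw [app_zero]
      apply biprod_ext
      · rw [h3, app_zero]
      · rw [← h1, app_zero]
    · intro y
      have h1 := kernel_condition_apply (canon H) B y
      rw [← hσ'] at h1
      obtain ⟨x, hx⟩ := (hfg B _).1 h1
      obtain ⟨z, hz⟩ := exists_kernel q (B := B)
        ((biprod.inl : _ ⟶ (underline A).obj M ⊞ (∐ idxF H)).app (pt B) (-x) +
        (biprod.inr : _ ⟶ (underline A).obj M ⊞ (∐ idxF H)).app (pt B)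
          ((kernel.ι (canon H)).app (pt B) y)) (by
        rw [hq, fst_add, snd_add, app_neg, hx, neg_add_cancel])
      refine ⟨z, ?_⟩
      apply kernel_ι_injective
      rw [hc, hz, snd_add]
  have hadK : adequate A (kernel q) :=
    (adequate A).prop_of_iso (asIso c).symm (adequate_kernel _ hadS hH)
  have e : cokernel (kernel.ι q) ≅ G :=
    IsColimit.coconePointUniqueUpToIso (colimit.isColimit _)
      (Abelian.epiIsCokernelOfKernel _ (kernelIsKernel q))
  exact (adequate A).prop_of_iso e (adequate_cokernel _ hadK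
    (adequate_biprod (adequate_underline M) hadS))

/-- extensions of adequate functors are adequate -/
theorem adequate_ext {F G H : MVF A} (f : F ⟶ G) (g : G ⟶ H)
    (hf : ∀ B : Alg A, Function.Injective (f.app (pt B)))
    (hg : ∀ B : Alg A, Function.Surjective (g.app (pt B)))
    (hfg : ∀ B : Alg A, Function.Exact (f.app (pt B)) (g.app (pt B)))
    (hF : adequate A F) (hH : adequate A H) : adequate A G := by
  obtain ⟨M, i, hi⟩ := exists_mono hF
  have hi' := (mono_iff i).1 hi
  let E : MVF A := (underline A).obj M ⊞ G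
  let fs : E ⟶ (underline A).obj M := biprod.fst
  let sn : E ⟶ G := biprod.snd
  let il : (underline A).obj M ⟶ E := biprod.inl
  let ir : G ⟶ E := biprod.inr
  let δ : F ⟶ E := biprod.lift i (-f)
  have hδ1 : ∀ (B : Alg A) x, fs.app (pt B) (δ.app (pt B) x) = i.app (pt B) x :=
    fun B x => fst_lift B i (-f) x
  have hδ2 : ∀ (B : Alg A) x, sn.app (pt B) (δ.app (pt B) x) = - f.app (pt B) x :=
    fun B x => snd_lift B i (-f) x
  have hgf : ∀ (B : Alg A) y, g.app (pt B) (f.app (pt B) y) = 0 := fun B y =>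
    (hfg B _).2 ⟨y, rfl⟩
  let G' : MVF A := cokernel δ
  let π : E ⟶ G' := cokernel.π δ
  have hπ0 : ∀ (B : Alg A) z, π.app (pt B) z = 0 ↔ ∃ x, δ.app (pt B) x = z :=
    fun B z => cokernel_π_eq_zero_iff δ B z
  let f' : (underline A).obj M ⟶ G' := il ≫ π
  let g' : G' ⟶ H := cokernel.desc δ (sn ≫ g) (hom_ext' fun B x => by
    rw [comp_app_apply, comp_app_apply, hδ2, app_neg, hgf, neg_zero]
    rfl)
  have hg' : ∀ (B : Alg A) z, g'.app (pt B) (π.app (pt B) z) =
      g.app (pt B) (sn.app (pt B) z) := by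
    intro B z
    rw [← comp_app_apply, cokernel.π_desc]
    rfl
  let j : G ⟶ G' := ir ≫ π
  let k : G' ⟶ cokernel i := cokernel.desc δ (fs ≫ cokernel.π i) (hom_ext' fun B x => by
    rw [comp_app_apply, comp_app_apply, hδ1]
    exact (cokernel_π_eq_zero_iff i B _).2 ⟨x, rfl⟩)
  have hk : ∀ (B : Alg A) z, k.app (pt B) (π.app (pt B) z) =
      (cokernel.π i).app (pt B) (fs.app (pt B) z) := by
    intro B z
    rw [← comp_app_apply, cokernel.π_desc]
    rfl
  have hf' : ∀ B : Alg A, Function.Injective (f'.app (pt B)) := by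
    intro B
    refine (injective_iff_map_eq_zero (f'.app (pt B)).hom).2 fun m hm => ?_
    obtain ⟨x, hx⟩ := (hπ0 B (il.app (pt B) m)).1 hm
    have h1 := congrArg (sn.app (pt B)) hx
    rw [hδ2, snd_inl, neg_eq_zero] at h1
    have h2 := hf B (h1.trans (app_zero f B).symm)
    have h3 := congrArg (fs.app (pt B)) hx
    rw [hδ1, fst_inl, h2, app_zero] at h3
    exact h3.symm
  have hg'' : ∀ B : Alg A, Function.Surjective (g'.app (pt B)) := by
    intro B y
    obtain ⟨z, rfl⟩ := hg B y
    refine ⟨π.app (pt B) (ir.app (pt B) z), ?_⟩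
    rw [hg', snd_inr]
  have hfg' : ∀ B : Alg A, Function.Exact (f'.app (pt B)) (g'.app (pt B)) := by
    intro B z
    constructor
    · intro hz
      obtain ⟨z, rfl⟩ := cokernel_π_surjective δ B z
      rw [hg'] at hz
      obtain ⟨x, hx⟩ := (hfg B _).1 hz
      refine ⟨fs.app (pt B) z + i.app (pt B) x, ?_⟩
      rw [comp_app_apply]
      refine sub_eq_zero.1 ((app_sub π B _ _).symm.trans ((hπ0 B _).2 ⟨x, ?_⟩))
      apply biprod_ext
      · refine (hδ1 B x).trans (Eq.trans ?_ (app_sub fs B _ _).symm)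
        rw [fst_inl]
        abel
      · refine (hδ2 B x).trans (Eq.trans ?_ (app_sub sn B _ _).symm)
        rw [snd_inl, hx]
        abel
    · rintro ⟨x, rfl⟩
      rw [comp_app_apply]
      refine (hg' B _).trans ?_
      rw [snd_inl, app_zero]
  have hG' : adequate A G' := adequate_ext_underline f' g' hf' hg'' hfg' hH
  have hcok : adequate A (cokernel i) := adequate_cokernel i hF (adequate_underline M)
  let c : G ⟶ kernel k := kernel.lift k j (hom_ext' fun B x => by
    rw [comp_app_apply, comp_app_apply]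
    refine (hk B _).trans ?_
    rw [fst_inr, app_zero]
    rfl)
  have hc : ∀ (B : Alg A) z, (kernel.ι k).app (pt B) (c.app (pt B) z) =
      π.app (pt B) (ir.app (pt B) z) := by
    intro B z
    rw [← comp_app_apply, kernel.lift_ι]
    rfl
  have hciso : IsIso c := by
    rw [isIso_iff]
    intro B
    constructor
    · refine (injective_iff_map_eq_zero (c.app (pt B)).hom).2 fun z hz => ?_
      have h0 : c.app (pt B) z = 0 := hz
      have h1 := hc B z
      rw [h0, app_zero] at h1
      obtain ⟨x, hx⟩ := (hπ0 B _).1 h1.symm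
      have h2 := congrArg (fs.app (pt B)) hx
      rw [hδ1, fst_inr] at h2
      have h3 := hi' B (h2.trans (app_zero i B).symm)
      have h4 := congrArg (sn.app (pt B)) hx
      rw [hδ2, snd_inr, h3, app_zero, neg_zero] at h4
      exact h4.symm
    · intro y
      obtain ⟨z, hz⟩ := cokernel_π_surjective δ B ((kernel.ι k).app (pt B) y)
      have h1 := kernel_condition_apply k B y
      rw [← hz] at h1
      rw [hk] at h1
      obtain ⟨x, hx⟩ := (cokernel_π_eq_zero_iff i B _).1 h1
      refine ⟨sn.app (pt B) z + f.app (pt B) x, ?_⟩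
      apply kernel_ι_injective
      rw [hc, ← hz]
      refine (sub_eq_zero.1 ((app_sub π B _ _).symm.trans ((hπ0 B _).2 ⟨x, ?_⟩))).symm
      apply biprod_ext
      · refine (hδ1 B x).trans (Eq.trans ?_ (app_sub fs B _ _).symm)
        rw [fst_inr, hx]
        abel
      · refine (hδ2 B x).trans (Eq.trans ?_ (app_sub sn B _ _).symm)
        rw [snd_inr]
        abel
  exact (adequate A).prop_of_iso (asIso c).symm (adequate_kernel _ hG' hcok)

end

end K569.Ext2
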