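import Groth.Agent.Adeq.K569.Basic
import Groth.Agent.Adeq.K569.Tens
import Mathlib.Algebra.Category.Ring.FilteredColimits
import Mathlib.Algebra.Category.Grp.FilteredColimits
import Mathlib.Algebra.Category.Grp.Colimits
import Mathlib.CategoryTheory.Limits.Preserves.Over
import Mathlib.CategoryTheory.Limits.Types.Filtered
import Mathlib.CategoryTheory.Limits.Preserves.Filtered

/-!
# Adequate functors commute with filtered colimits
-/

universe u

open CategoryTheory Limits Opposite TensorProduct Adeq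

namespace K569.Filt

open K569.Basic

noncomputable section

variable {A : Type u} [CommRing A] {J : Type u} [SmallCategory J] [IsFiltered J]
  {D : J ⥤ Alg A} (c : Cocone D)

variable (A) in
/-- the forgetful functor to types, preserving filtered colimits -/
def toTypes : Alg A ⥤ Type u :=
  (commAlgCatEquivUnder (CommRingCat.of A)).functor ⋙ Under.forget _ ⋙ forget CommRingCat.{u}

theorem preserves_toTypes : PreservesColimitsOfShape J (toTypes A) := by
  unfold toTypes
  infer_instance

variable {c} (hc : IsColimit c)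

include hc in
theorem exists_rep (b : c.pt) : ∃ (j : J) (b' : D.obj j), (c.ι.app j).hom b' = b := by
  have := preserves_toTypes (A := A) (J := J)
  have h := isColimitOfPreserves (toTypes A) hc
  exact Types.jointly_surjective_of_isColimit h b

include hc in
theorem exists_eq_zero (j : J) (b : D.obj j) (hb : (c.ι.app j).hom b = 0) :
    ∃ (k : J) (f : j ⟶ k), (D.map f).hom b = 0 := by
  have := preserves_toTypes (A := A) (J := J)
  have h := isColimitOfPreserves (toTypes A) hc
  have h2 : ((toTypes A).mapCocone c).ι.app j b = ((toTypes A).mapCocone c).ι.app j (0 : D.obj j) :=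
    hb.trans (map_zero (c.ι.app j).hom).symm
  obtain ⟨k, f, hf⟩ := (Types.FilteredColimit.isColimit_eq_iff' h b (0 : D.obj j)).1 h2
  exact ⟨k, f, hf.trans (map_zero (D.map f).hom)⟩

/-- elementwise continuity -/
def Cont (F : MVF A) (c : Cocone D) : Prop :=
  (∀ x : F.obj (pt c.pt), ∃ (j : J) (x' : F.obj (pt (D.obj j))), tr F (c.ι.app j) x' = x) ∧
  (∀ (j : J) (x : F.obj (pt (D.obj j))), tr F (c.ι.app j) x = 0 →
    ∃ (k : J) (f : j ⟶ k), tr F (D.map f) x = 0)

omit [IsFiltered J] in
theorem tr_w (F : MVF A) {j k : J} (f : j ⟶ k) (x : F.obj (pt (D.obj j))) :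
    tr F (c.ι.app k) (tr F (D.map f) x) = tr F (c.ι.app j) x := by
  rw [← tr_comp, c.w]

/-- pass to a common index -/
theorem exists_common (F : MVF A) {j k : J} (x : F.obj (pt (D.obj j)))
    (y : F.obj (pt (D.obj k))) :
    ∃ (l : J) (x' y' : F.obj (pt (D.obj l))), tr F (c.ι.app l) x' = tr F (c.ι.app j) x ∧
      tr F (c.ι.app l) y' = tr F (c.ι.app k) y :=
  ⟨IsFiltered.max j k, tr F (D.map (IsFiltered.leftToMax j k)) x,
    tr F (D.map (IsFiltered.rightToMax j k)) y, tr_w F _ _, tr_w F _ _⟩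

include hc in
theorem surj_underline (M : ModuleCat.{u + 1} A) (x : ((underline A).obj M).obj (pt c.pt)) :
    ∃ (j : J) (x' : ((underline A).obj M).obj (pt (D.obj j))),
      tr ((underline A).obj M) (c.ι.app j) x' = x := by
  induction x using TensorProduct.induction_on with
  | zero => exact ⟨IsFiltered.nonempty.some, 0, map_zero _⟩
  | tmul b m =>
    obtain ⟨j, b', rfl⟩ := exists_rep hc b
    exact ⟨j, (b' ⊗ₜ[A] m : (D.obj j : Type u) ⊗[A] M), rfl⟩
  | add x y hx hy =>
    obtain ⟨j, x', rfl⟩ := hx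
    obtain ⟨k, y', rfl⟩ := hy
    obtain ⟨l, x'', y'', h1, h2⟩ := exists_common (c := c) ((underline A).obj M) x' y'
    exact ⟨l, x'' + y'', (map_add _ _ _).trans (congrArg₂ (· + ·) h1 h2)⟩

theorem coord_rTensor {N : Type (u + 1)} [DecidableEq N] {B B' : Type u} [CommRing B] [Algebra A B] [CommRing B']
    [Algebra A B'] (f : B →ₐ[A] B') (x : B ⊗[A] (N →₀ A)) (n : N) :
    TensorProduct.finsuppScalarRight A A B' N (f.toLinearMap.rTensor (N →₀ A) x) n =
      f (TensorProduct.finsuppScalarRight A A B N x n) := by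
  induction x using TensorProduct.induction_on with
  | zero => simp
  | tmul b w =>
    rw [LinearMap.rTensor_tmul, TensorProduct.finsuppScalarRight_apply_tmul_apply,
      TensorProduct.finsuppScalarRight_apply_tmul_apply, AlgHom.toLinearMap_apply, map_smul]
  | add x y hx hy =>
    rw [map_add, map_add, map_add, Finsupp.add_apply, Finsupp.add_apply, hx, hy, map_add]

include hc in
theorem exists_zero_finsupp {N : Type (u + 1)} {j : J} (w : N →₀ (D.obj j : Type u))
    (hw : ∀ n, (c.ι.app j).hom (w n) = 0) :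
    ∃ (k : J) (f : j ⟶ k), ∀ n, (D.map f).hom (w n) = 0 := by
  classical
  induction w using Finsupp.induction with
  | zero => exact ⟨j, 𝟙 j, fun n => by simp⟩
  | single_add m b w hm hb ih =>
    have h1 : (c.ι.app j).hom b = 0 := by
      have := hw m
      rw [Finsupp.add_apply, Finsupp.single_eq_same, Finsupp.notMem_support_iff.1 hm,
        add_zero] at this
      exact this
    have h2 : ∀ n, (c.ι.app j).hom (w n) = 0 := by
      intro n
      by_cases hn : n = m
      · subst hn
        rw [Finsupp.notMem_support_iff.1 hm, map_zero]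
      · have := hw n
        rw [Finsupp.add_apply, Finsupp.single_eq_of_ne hn, zero_add] at this
        exact this
    obtain ⟨k₁, f₁, hf₁⟩ := exists_eq_zero hc j b h1
    obtain ⟨k₂, f₂, hf₂⟩ := ih h2
    obtain ⟨l, g₁, g₂, hg⟩ := IsFiltered.span f₁ f₂
    refine ⟨l, f₁ ≫ g₁, fun n => ?_⟩
    have e1 : (D.map (f₁ ≫ g₁)).hom b = 0 := by
      rw [D.map_comp]
      exact (congrArg (D.map g₁).hom hf₁).trans (map_zero _)
    have e2 : (D.map (f₁ ≫ g₁)).hom (w n) = 0 := by
      rw [hg, D.map_comp]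
      exact (congrArg (D.map g₂).hom (hf₂ n)).trans (map_zero _)
    rw [Finsupp.add_apply, map_add, e2, add_zero]
    by_cases hn : n = m
    · subst hn
      rw [Finsupp.single_eq_same, e1]
    · rw [Finsupp.single_eq_of_ne hn, map_zero]

include hc in
theorem inj_free (N : Type (u + 1)) (j : J) (x : (D.obj j : Type u) ⊗[A] (N →₀ A))
    (hx : (c.ι.app j).hom.toLinearMap.rTensor (N →₀ A) x = 0) :
    ∃ (k : J) (f : j ⟶ k), (D.map f).hom.toLinearMap.rTensor (N →₀ A) x = 0 := by
  classical
  obtain ⟨k, f, hf⟩ := exists_zero_finsupp hc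
    (TensorProduct.finsuppScalarRight A A (D.obj j) N x) (fun n => by
      rw [← coord_rTensor, hx]; simp)
  refine ⟨k, f, ?_⟩
  apply (TensorProduct.finsuppScalarRight A A (D.obj k) N).injective
  ext n
  rw [coord_rTensor, hf]
  simp

include hc in
theorem exists_rep_fin {l : ℕ} (d : Fin l → c.pt) :
    ∃ (j : J) (d' : Fin l → D.obj j), ∀ i, (c.ι.app j).hom (d' i) = d i := by
  classical
  choose j d' hd' using fun i => exists_rep hc (d i)
  obtain ⟨k, hk⟩ := IsFiltered.sup_objs_exists (Finset.univ.image j)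
  have f : ∀ i, Nonempty (j i ⟶ k) := fun i => hk (Finset.mem_image_of_mem _ (Finset.mem_univ i))
  refine ⟨k, fun i => (D.map (f i).some).hom (d' i), fun i => ?_⟩
  rw [← hd' i, ← c.w (f i).some]
  rfl

theorem rTensor_comm {B B' : Type u} [CommRing B] [Algebra A B] [CommRing B'] [Algebra A B']
    (f : B →ₐ[A] B') {M N : Type (u + 1)} [AddCommGroup M] [Module A M] [AddCommGroup N]
    [Module A N] (q : M →ₗ[A] N) (x : B ⊗[A] M) :
    f.toLinearMap.rTensor N (q.lTensor B x) = q.lTensor B' (f.toLinearMap.rTensor M x) := by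
  rw [← LinearMap.comp_apply, ← LinearMap.comp_apply, LinearMap.rTensor_comp_lTensor,
    LinearMap.lTensor_comp_rTensor]

include hc in
theorem inj_underline (M : ModuleCat.{u + 1} A) (j : J) (x : (D.obj j : Type u) ⊗[A] M)
    (hx : (c.ι.app j).hom.toLinearMap.rTensor M x = 0) :
    ∃ (k : J) (f : j ⟶ k), (D.map f).hom.toLinearMap.rTensor M x = 0 := by
  let q : (M →₀ A) →ₗ[A] M := Finsupp.linearCombination A (id : M → M)
  have hq : Function.Surjective q := fun m => ⟨Finsupp.single m 1, by simp [q]⟩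
  obtain ⟨z, rfl⟩ := LinearMap.lTensor_surjective (D.obj j) hq x
  rw [rTensor_comm] at hx
  obtain ⟨l, d, κ, hκ, hz⟩ := Tens.exists_ker_sum q hq _ hx
  obtain ⟨k₀, d', hd'⟩ := exists_rep_fin hc d
  obtain ⟨k, f, g⟩ : ∃ k : J, ∃ f : j ⟶ k, Nonempty (k₀ ⟶ k) :=
    ⟨IsFiltered.max j k₀, IsFiltered.leftToMax _ _, ⟨IsFiltered.rightToMax _ _⟩⟩
  obtain ⟨g⟩ := g
  let d'' : Fin l → D.obj k := fun i => (D.map g).hom (d' i)
  have hd'' : ∀ i, (c.ι.app k).hom (d'' i) = d i := by
    intro i
    rw [← hd' i, ← c.w g]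
    rfl
  let z' : (D.obj k : Type u) ⊗[A] (M →₀ A) :=
    (D.map f).hom.toLinearMap.rTensor (M →₀ A) z - ∑ i, d'' i ⊗ₜ[A] κ i
  have hz' : (c.ι.app k).hom.toLinearMap.rTensor (M →₀ A) z' = 0 := by
    rw [map_sub, ← LinearMap.comp_apply, ← LinearMap.rTensor_comp]
    have : (c.ι.app k).hom.toLinearMap ∘ₗ (D.map f).hom.toLinearMap =
        (c.ι.app j).hom.toLinearMap := by
      rw [← c.w f]
      rfl
    rw [this, hz, map_sum, sub_eq_zero]
    refine Finset.sum_congr rfl fun i _ => ?_
    rw [LinearMap.rTensor_tmul, AlgHom.toLinearMap_apply, hd'']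
  obtain ⟨k', f', hf'⟩ := inj_free hc M k z' hz'
  refine ⟨k', f ≫ f', ?_⟩
  have e1 : (D.map (f ≫ f')).hom.toLinearMap =
      (D.map f').hom.toLinearMap ∘ₗ (D.map f).hom.toLinearMap := by
    rw [D.map_comp]; rfl
  rw [rTensor_comm, e1, LinearMap.rTensor_comp, LinearMap.comp_apply]
  have e2 : (D.map f').hom.toLinearMap.rTensor (M →₀ A)
      ((D.map f).hom.toLinearMap.rTensor (M →₀ A) z) =
        (D.map f').hom.toLinearMap.rTensor (M →₀ A) (∑ i, d'' i ⊗ₜ[A] κ i) := by
    rw [← sub_eq_zero, ← map_sub]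
    exact hf'
  rw [e2, ← rTensor_comm, map_sum]
  simp [hκ]

include hc in
theorem cont_underline (M : ModuleCat.{u + 1} A) : Cont ((underline A).obj M) c :=
  ⟨surj_underline hc M, inj_underline hc M⟩

omit [IsFiltered J] in
theorem cont_of_kernel {F G H : MVF A} (i : F ⟶ G) (p : G ⟶ H)
    (hi : ∀ B : Alg A, Function.Injective (i.app (pt B)))
    (hex : ∀ B : Alg A, Function.Exact (i.app (pt B)) (p.app (pt B)))
    (hG : Cont G c) (hH : Cont H c) : Cont F c := by
  constructor
  · intro x
    obtain ⟨j, y, hy⟩ := hG.1 (i.app (pt c.pt) x)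
    have h1 : tr H (c.ι.app j) (p.app (pt (D.obj j)) y) = 0 := by
      rw [← naturality, hy]
      exact (hex c.pt _).2 ⟨x, rfl⟩
    obtain ⟨k, f, hf⟩ := hH.2 j _ h1
    rw [← naturality] at hf
    obtain ⟨z, hz⟩ := (hex (D.obj k) _).1 hf
    refine ⟨k, z, hi c.pt ?_⟩
    rw [naturality, hz, tr_w, hy]
  · intro j x hx
    obtain ⟨k, f, hf⟩ := hG.2 j (i.app (pt (D.obj j)) x) (by
      rw [← naturality, hx]
      exact map_zero (i.app (pt c.pt)).hom)
    refine ⟨k, f, hi (D.obj k) ?_⟩
    rw [naturality, hf]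
    exact (map_zero (i.app (pt (D.obj k))).hom).symm

include hc in
theorem cont_adequate {F : MVF A} (hF : adequate A F) : Cont F c := by
  obtain ⟨M, N, φ, i, hi, hex⟩ := exists_of_adequate hF
  exact cont_of_kernel i ((underline A).map φ) hi hex (cont_underline hc M) (cont_underline hc N)

theorem isColimit_of_cont {F : MVF A} (h : Cont F c) :
    Nonempty (IsColimit (F.toAb.mapCocone c)) := by
  have h1 : PreservesFilteredColimitsOfSize.{u, u} (forget AddCommGrpCat.{u + 1}) :=
    preservesFilteredColimitsOfSize_of_univLE.{u + 1, u + 1} _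
  have h2 : PreservesColimitsOfShape J (forget AddCommGrpCat.{u + 1}) := inferInstance
  have h3 : HasColimitsOfShape J AddCommGrpCat.{u + 1} := inferInstance
  have h4 : ReflectsColimitsOfShape J (forget AddCommGrpCat.{u + 1}) :=
    reflectsColimitsOfShape_of_reflectsIsomorphisms
  refine ⟨isColimitOfReflects (forget AddCommGrpCat.{u + 1}) ?_⟩
  refine Types.FilteredColimit.isColimitOf' _ _ (fun x => ?_) (fun j x y hxy => ?_)
  · obtain ⟨j, x', hx'⟩ := h.1 x
    exact ⟨j, x', hx'.symm⟩
  · have key : ∀ (x y : F.obj (pt (D.obj j))), tr F (c.ι.app j) x = tr F (c.ι.app j) y →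
        ∃ (k : J) (f : j ⟶ k), tr F (D.map f) x = tr F (D.map f) y := by
      intro x y hxy'
      rw [← sub_eq_zero, ← map_sub] at hxy'
      obtain ⟨k, f, hf⟩ := h.2 j (x - y) hxy'
      rw [map_sub, sub_eq_zero] at hf
      exact ⟨k, f, hf⟩
    exact key x y hxy

end

end K569.Filt
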