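import Groth.Agent.Adeq.K569.Basic
import Mathlib.LinearAlgebra.TensorProduct.Tower

/-!
# `B ↦ F'(A' ⊗ B)` is adequate for `F'` adequate
-/

universe u

open CategoryTheory Limits Opposite TensorProduct Adeq

namespace K569.Push

open K569.Basic

noncomputable section

section Alg

variable {A A' : Type*} [CommRing A] [CommRing A'] [Algebra A A']
  (B : Type*) [CommRing B] [Algebra A B]
  (M : Type*) [AddCommGroup M] [Module A' M] [Module A M] [IsScalarTower A A' M]

/-- `B ⊗[A] M = (A' ⊗[A] B) ⊗[A'] M` -/
def eqv : B ⊗[A] M ≃+ (A' ⊗[A] B) ⊗[A'] M :=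
  (TensorProduct.comm A B M).toAddEquiv.trans
    ((TensorProduct.AlgebraTensorModule.cancelBaseChange A A' A' M B).symm.toAddEquiv.trans
      (TensorProduct.comm A' M (A' ⊗[A] B)).toAddEquiv)

@[simp] theorem eqv_tmul (b : B) (m : M) :
    eqv (A' := A') B M (b ⊗ₜ[A] m) = ((1 : A') ⊗ₜ[A] b) ⊗ₜ[A'] m := rfl

theorem eqv_smul (b : B) (x : B ⊗[A] M) :
    eqv (A' := A') B M (b • x) = ((1 : A') ⊗ₜ[A] b : A' ⊗[A] B) • eqv (A' := A') B M x := by
  induction x using TensorProduct.induction_on with
  | zero => simp
  | add x y hx hy => rw [smul_add, map_add, map_add, smul_add, hx, hy]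
  | tmul c m =>
    rw [TensorProduct.smul_tmul', eqv_tmul, eqv_tmul, TensorProduct.smul_tmul', smul_eq_mul,
      smul_eq_mul, Algebra.TensorProduct.tmul_mul_tmul, one_mul]

theorem eqv_map {N : Type*} [AddCommGroup N] [Module A' N] [Module A N] [IsScalarTower A A' N]
    (φ : M →ₗ[A'] N) (x : B ⊗[A] M) :
    eqv (A' := A') B N ((φ.restrictScalars A).baseChange B x) =
      φ.baseChange (A' ⊗[A] B) (eqv (A' := A') B M x) := by
  induction x using TensorProduct.induction_on with
  | zero => simp
  | add x y hx hy => simp only [map_add, hx, hy]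
  | tmul c m => rfl

theorem eqv_alg {B₂ : Type*} [CommRing B₂] [Algebra A B₂]
    (f : B →ₐ[A] B₂) (x : B ⊗[A] M) :
    eqv (A' := A') B₂ M (f.toLinearMap.rTensor M x) =
      (Algebra.TensorProduct.map (AlgHom.id A' A') f).toLinearMap.rTensor M
        (eqv (A' := A') B M x) := by
  induction x using TensorProduct.induction_on with
  | zero => simp
  | add x y hx hy => simp only [map_add, hx, hy]
  | tmul c m =>
    rw [LinearMap.rTensor_tmul, eqv_tmul, eqv_tmul, LinearMap.rTensor_tmul]
    simp

end Alg

variable {A : Type u} [CommRing A] {A' : Type u} [CommRing A'] [Algebra A A']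

theorem push_smul (F : MVF A') (B : Alg A) (b : B)
    (x : F.obj (pt ((Alg.baseChange A A').obj B))) :
    (b • (show ((push A A').obj F).obj (pt B) from x) : ((push A A').obj F).obj (pt B)) =
      ((show (Alg.baseChange A A').obj B from (1 : A') ⊗ₜ[A] b) • x :
        F.obj (pt ((Alg.baseChange A A').obj B))) := rfl

theorem push_tr (F : MVF A') {B B₂ : Alg A} (g : B ⟶ B₂)
    (x : F.obj (pt ((Alg.baseChange A A').obj B))) :
    tr ((push A A').obj F) g x = tr F ((Alg.baseChange A A').map g) x := rfl

theorem adequate_push {F : MVF A'} (hF : adequate A' F) :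
    adequate A ((push A A').obj F) := by
  obtain ⟨M', N', φ', i, hi, hex⟩ := exists_of_adequate hF
  let _ : Module A M' := Module.compHom M' (algebraMap A A')
  let _ : Module A N' := Module.compHom N' (algebraMap A A')
  have : IsScalarTower A A' M' := IsScalarTower.of_algebraMap_smul fun a m => rfl
  have : IsScalarTower A A' N' := IsScalarTower.of_algebraMap_smul fun a m => rfl
  let M : ModuleCat.{u + 1} A := ModuleCat.of A M'
  let N : ModuleCat.{u + 1} A := ModuleCat.of A N'
  let φ : M ⟶ N := ModuleCat.ofHom (φ'.hom.restrictScalars A)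
  let e : ∀ (B : Alg A), (B : Type u) ⊗[A] M ≃+ (A' ⊗[A] (B : Type u)) ⊗[A'] M' :=
    fun B => eqv (A' := A') B M'
  let bB : Alg A → Alg A' := fun B => (Alg.baseChange A A').obj B
  have esymm : ∀ (B : Alg A) (x y), (e B).symm x = y ↔ x = e B y := fun B x y =>
    (e B).symm_apply_eq
  let i' : (push A A').obj F ⟶ (underline A).obj M :=
    mkHom (fun B x => (e B).symm (i.app (pt (bB B)) x))
      (fun B x y => by
        have : i.app (pt (bB B)) (x + y) =
          i.app (pt (bB B)) x + i.app (pt (bB B)) y := map_add (i.app (pt (bB B))).hom x y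
        refine (congrArg (e B).symm this).trans ?_
        exact map_add (e B).symm _ _)
      (fun B b x => by
        have := app_smul i (B := bB B) ((1 : A') ⊗ₜ[A] b) x
        refine (congrArg (e B).symm this).trans ?_
        refine (esymm B _ _).2 ?_
        refine Eq.trans ?_ (eqv_smul (A' := A') B M' b _).symm
        refine congrArg _ ?_
        exact ((e B).apply_symm_apply _).symm)
      (fun B B₂ g x => by
        have := naturality i ((Alg.baseChange A A').map g) x
        refine (congrArg (e B₂).symm this).trans ?_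
        refine (esymm B₂ _ _).2 ?_
        refine Eq.trans ?_ (eqv_alg (A' := A') B M' g.hom _).symm
        refine congrArg _ ?_
        exact ((e B).apply_symm_apply _).symm)
  refine adequate_of_pointwise φ i' (fun B => ?_) (fun B x => ?_)
  · exact (e B).symm.injective.comp (hi (bB B))
  · have h1 : ((φ'.hom.restrictScalars A).baseChange B) x = 0 ↔
        (φ'.hom.baseChange (A' ⊗[A] B)) (e B x) = 0 := by
      have := eqv_map (A' := A') B M' φ'.hom x
      refine Iff.trans ?_ (iff_of_eq (congrArg (fun z => z = 0) this))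
      exact (map_eq_zero_iff (eqv (A' := A') B N') (eqv (A' := A') B N').injective).symm
    refine h1.trans ((hex (bB B) (e B x)).trans ?_)
    constructor
    · rintro ⟨y, hy⟩
      refine ⟨y, ?_⟩
      change (e B).symm (i.app (pt (bB B)) y) = x
      exact (esymm B _ _).2 hy
    · rintro ⟨y, hy⟩
      refine ⟨y, ?_⟩
      change (e B).symm (i.app (pt (bB B)) y) = x at hy
      exact (esymm B _ _).1 hy

end

end K569.Push
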