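import Groth.Agent.Adeq.K569.FpqcSh
import Groth.Agent.Adeq.K569.BC
import Groth.Agent.Adeq.K570.Local

/-!
# Adequate modules are fpqc sheaves
-/

set_option autoImplicit false
universe w u

open CategoryTheory Limits Opposite AlgebraicGeometry

namespace K569.FpqcAd

open K569.FpqcSh K570.CechM K570.CA K570.Local

variable {Q : MorphismProperty Scheme.{u}} [Good Q] [BigSite.OSh (Scheme.precoverage Q)]
  {T : Scheme.{u}} {M : BigSite.Mod (Scheme.precoverage Q) T}

theorem fbc (hM : Adeq.adequateMod (Scheme.precoverage Q) T M) : FBC M.val :=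
  fun _ a _ _ f hf => K569.BC.isIso_bc (adqAt_of_adequateMod hM a) f hf

theorem ca (hM : Adeq.adequateMod (Scheme.precoverage Q) T M) : CA M.val.presheaf :=
  ca_of_flatBC (fbc hM)

theorem sepA (hM : Adeq.adequateMod (Scheme.precoverage Q) T M) : SepA M.val.presheaf :=
  sepA_of_flatBC (fbc hM)

theorem isSheaf_zariski (M : BigSite.Mod (Scheme.precoverage Q) T) :
    Presheaf.IsSheaf (Scheme.zariskiTopology.over T) M.val.presheaf := by
  have h : Scheme.zariskiPrecoverage ≤ Scheme.precoverage Q :=
    Scheme.precoverage_mono fun _ _ f hf => Good.hz f hf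
  exact fun E => Presieve.isSheaf_of_le _ (BigSite.J_mono h T) (M.isSheaf E)

/-- Adequate modules are fpqc sheaves. -/
theorem isSheaf_fpqc (hM : Adeq.adequateMod (Scheme.precoverage Q) T M) :
    Presheaf.IsSheaf (Scheme.fpqcTopology.over T) M.val.presheaf :=
  isSheaf_fpqc_of_ca (isSheaf_zariski M) (ca hM) (sepA hM)

end K569.FpqcAd
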