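import Groth.Agent.Adeq.K569.Tot
import Groth.Agent.Adeq.K570.CA
import Mathlib.AlgebraicGeometry.Sites.SheafQuasiCompact
import Mathlib.AlgebraicGeometry.Sites.Fpqc

/-!
# The fpqc sheaf property on `Over S` from the Zariski one and faithfully flat maps of affines
-/

set_option autoImplicit false
universe w u

open CategoryTheory Limits Opposite AlgebraicGeometry

namespace K569.FpqcSh

open K569.Tot K570.CechM K570.CA

theorem isSheaf_yoneda (Z : Scheme.{u}) :
    Presieve.IsSheaf Scheme.fpqcTopology.{u} (yoneda.obj Z) :=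
  GrothendieckTopology.Subcanonical.isSheaf_of_isRepresentable (J := Scheme.fpqcTopology) _

section Single

variable {C : Type*} [Category* C] {S : C} (F : (Over S)ᵒᵖ ⥤ Type w)

/-- the sheaf condition for a single morphism, elementwise -/
def Glues {V U : Over S} (g : V ⟶ U) : Prop :=
  Function.Injective (F.map g.op) ∧ ∀ s : F.obj (op V),
    (∀ (Z : Over S) (p q : Z ⟶ V), p ≫ g = q ≫ g → F.map p.op s = F.map q.op s) →
      ∃ t, F.map g.op t = s

variable {F}

theorem isSheafFor_of_glues {T T' : C} (f : T' ⟶ T) (a : T ⟶ S)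
    (h : Glues F (Over.homMk f : Over.mk (f ≫ a) ⟶ Over.mk a)) :
    Presieve.IsSheafFor F ((Sieve.overEquiv (Over.mk a)).symm
      (Sieve.generate (Presieve.singleton f))).arrows := by
  intro fam hfam
  rw [Presieve.compatible_iff_sieveCompatible] at hfam
  let g₀ : Over.mk (f ≫ a) ⟶ Over.mk a := Over.homMk f
  have hg₀ : ((Sieve.overEquiv (Over.mk a)).symm (Sieve.generate (Presieve.singleton f))) g₀ :=
    mem_of a f (Sieve.le_generate (Presieve.singleton f) _ _ (Presieve.singleton.mk))
  have hfac : ∀ {Y : Over S} (h : Y ⟶ Over.mk a),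
      ((Sieve.overEquiv (Over.mk a)).symm (Sieve.generate (Presieve.singleton f))) h →
        ∃ k : Y ⟶ Over.mk (f ≫ a), h = k ≫ g₀ := by
    intro Y h hh
    have hh' : (Sieve.generate (Presieve.singleton f)) h.left :=
      (Sieve.overEquiv_symm_iff (Y := Over.mk a) (Sieve.generate (Presieve.singleton f)) h).1 hh
    obtain ⟨Z, k, f', hf', hk⟩ := hh'
    have hw : k ≫ f' ≫ a = Y.hom := by
      rw [← Category.assoc, hk]
      exact Over.w h
    cases hf'
    refine ⟨Over.homMk k hw, ?_⟩
    exact Over.OverMorphism.ext hk.symm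
  obtain ⟨t, ht⟩ := h.2 (fam g₀ hg₀) (by
    intro Z p q hpq
    have h1 := hfam g₀ p hg₀
    have h2 := hfam g₀ q hg₀
    rw [← h1, ← h2]
    congr 1)
  refine ⟨t, fun Y k hk => ?_, fun t' ht' => ?_⟩
  · obtain ⟨k, rfl⟩ := hfac k hk
    rw [op_comp, Functor.map_comp_apply]
    exact (congrArg _ ht).trans (hfam g₀ k hg₀).symm
  · apply h.1
    exact (ht' g₀ hg₀).trans ht.symm

end Single

variable {S : Scheme.{u}} {F : (Over S)ᵒᵖ ⥤ Type w}

/-- fpqc sheaves from Zariski sheaves -/
theorem isSheaf_fpqc (hz : Presieve.IsSheaf (Scheme.zariskiTopology.over S) F)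
    (h : ∀ {R R' : CommRingCat.{u}} (f : R ⟶ R') (a : Spec R ⟶ S), Flat (Spec.map f) →
      Surjective (Spec.map f) → Glues F (Over.homMk (Spec.map f) :
        Over.mk (Spec.map f ≫ a) ⟶ Over.mk a)) :
    Presieve.IsSheaf (Scheme.fpqcTopology.over S) F := by
  apply isSheaf_of_tot
  · exact (isSheaf_yoneda S).isSeparated
  · rw [Scheme.fpqcTopology_eq_propQCTopology, isSheaf_type_propQCTopology_iff]
    constructor
    · apply isSheaf_tot
      · exact Presieve.isSheaf_of_le _ Scheme.zariskiTopology_le_fpqcTopology (isSheaf_yoneda S)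
      · exact hz
    · intro R R' f hf hs
      rw [Presieve.isSheafFor_iff_generate]
      apply isSheafFor_tot
      · apply isSheaf_yoneda S
        exact Precoverage.generate_mem_toGrothendieck
          (Spec.map f).singleton_mem_fpqcPrecoverage
      · intro a
        exact isSheafFor_of_glues _ _ (h f a hf hs)

/-- the gluing condition from exactness of the augmented Cech complex -/
theorem glues_of_ex {P : (Over S)ᵒᵖ ⥤ AddCommGrpCat.{w}} {V U : Over S} (g : V ⟶ U)
    (hinj : Function.Injective (res P g)) (m : Model g) (hm : m.Ex P 0) :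
    Glues (P ⋙ forget AddCommGrpCat.{w}) g := by
  refine ⟨hinj, fun s hs => ?_⟩
  have hs' : ∀ (Z : Over S) (p q : Z ⟶ V), p ≫ g = q ≫ g → res P p s = res P q s := hs
  let x := res P (m.π 1 0) s
  obtain ⟨y, hy⟩ := hm x (by
    rw [m.d_one, res_res, res_res, sub_eq_zero]
    apply hs'
    rw [Category.assoc, Category.assoc, m.w, m.face_b, m.face_b])
  rw [m.d_zero] at hy
  let c : U ⟶ m.W 0 := m.lift 0 (𝟙 U) (fun i => i.elim0) (fun i => i.elim0)
  let e : V ⟶ m.W 1 := m.lift 1 g (fun _ => 𝟙 V) (fun _ => Category.id_comp _)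
  have he : e ≫ m.face 0 0 = g ≫ c := by
    apply m.hom_ext
    · rw [Category.assoc, m.face_b, Category.assoc]
      have h1 : c ≫ m.b 0 = 𝟙 U := m.lift_b _ _ _ _
      rw [h1, Category.comp_id]
      exact m.lift_b _ _ _ _
    · exact fun i => i.elim0
  refine ⟨res P c y, ?_⟩
  change res P g (res P c y) = s
  have heπ : e ≫ m.π 1 0 = 𝟙 V := m.lift_π _ _ _ _ _
  rw [res_res, ← he, ← res_res, hy, res_res, heπ, res_id]

/-- fpqc sheaves from Zariski sheaves with Cech exactness on affines -/
theorem isSheaf_fpqc_of_ca {P : (Over S)ᵒᵖ ⥤ AddCommGrpCat.{u + 1}}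
    (hz : Presheaf.IsSheaf (Scheme.zariskiTopology.over S) P) (h1 : CA P) (h2 : SepA P) :
    Presheaf.IsSheaf (Scheme.fpqcTopology.over S) P := by
  rw [Presheaf.isSheaf_iff_isSheaf_forget _ P (forget AddCommGrpCat.{u + 1}),
    isSheaf_iff_isSheaf_of_type] at hz ⊢
  refine isSheaf_fpqc hz fun {R R'} f a hf hs => ?_
  have hU : IsAffine (Over.mk a).left := inferInstanceAs (IsAffine (Spec R))
  have hV : IsAffine (Over.mk (Spec.map f ≫ a)).left := inferInstanceAs (IsAffine (Spec R'))
  exact glues_of_ex _ (h2 _ hU hV hf hs) (ofPullbacks _) (h1 _ hU hV hf hs _ 0)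

end K569.FpqcSh
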