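import Groth.Agent.Adeq.K569.Basic
import Groth.Agent.Adeq.K569.AB
import Mathlib.CategoryTheory.Abelian.GrothendieckCategory.Basic
import Mathlib.CategoryTheory.Abelian.GrothendieckCategory.EnoughInjectives
import Mathlib.CategoryTheory.Generator.Basic
import Mathlib.CategoryTheory.Generator.Abelian

/-!
# The category of module-valued functors is a Grothendieck abelian category
-/

universe u

open CategoryTheory Limits Opposite TensorProduct Adeq

namespace K569.Groth1

open K569.Basic

noncomputable section

variable {A : Type u} [CommRing A]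

/-- the transition map of the free functor on `Hom(B, -)` -/
def frMap (B : Alg A) {C D : Alg A} (f : C ⟶ D) :
    (ULift.{u + 1} (B ⟶ C) →₀ (C : Type u)) →+ (ULift.{u + 1} (B ⟶ D) →₀ (D : Type u)) :=
  (Finsupp.mapDomain.addMonoidHom (fun g : ULift.{u + 1} (B ⟶ C) =>
        ULift.up.{u + 1} (g.down ≫ f))).comp
      (Finsupp.mapRange.addMonoidHom (f.hom.toRingHom : (C : Type u) →+* D).toAddMonoidHom)

theorem frMap_single (B : Alg A) {C D : Alg A} (f : C ⟶ D) (g : ULift.{u + 1} (B ⟶ C)) (c : C) :
    frMap B f (Finsupp.single g c) = Finsupp.single (ULift.up.{u + 1} (g.down ≫ f)) (f.hom c) := by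
  have h1 : Finsupp.mapRange.addMonoidHom (f.hom.toRingHom : (C : Type u) →+* D).toAddMonoidHom
      (Finsupp.single g c) = Finsupp.single g (f.hom c) :=
    Finsupp.mapRange_single (hf := map_zero _)
  rw [frMap, AddMonoidHom.comp_apply, h1]
  exact Finsupp.mapDomain_single

theorem frMap_smul (B : Alg A) {C D : Alg A} (f : C ⟶ D) (c : C)
    (x : ULift.{u + 1} (B ⟶ C) →₀ (C : Type u)) :
    frMap B f (c • x) = f.hom c • frMap B f x := by
  induction x using Finsupp.induction_linear with
  | zero => rw [smul_zero, map_zero, smul_zero]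
  | add x y hx hy => rw [smul_add, map_add, map_add, smul_add, hx, hy]
  | single g d =>
    rw [Finsupp.smul_single, frMap_single, frMap_single, Finsupp.smul_single, smul_eq_mul,
      smul_eq_mul, map_mul]

/-- the free functor on `Hom(B, -)`, underlying group valued functor -/
abbrev freeAb (B : Alg A) : (Alg A)ᵒᵖᵒᵖ ⥤ Ab.{u + 1} where
  obj X := AddCommGrpCat.of (ULift.{u + 1} (B ⟶ X.unop.unop) →₀ (X.unop.unop : Type u))
  map {X Y} f := AddCommGrpCat.ofHom (frMap B f.unop.unop)
  map_id X := by
    refine AddCommGrpCat.hom_ext (AddMonoidHom.ext fun x => ?_)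
    change frMap B (𝟙 X.unop.unop) x = x
    induction x using Finsupp.induction_linear with
    | zero => rw [map_zero]
    | add x y hx hy => rw [map_add, hx, hy]
    | single g d =>
      rw [frMap_single, Category.comp_id]
      rfl
  map_comp {X Y Z} f g := by
    refine AddCommGrpCat.hom_ext (AddMonoidHom.ext fun x => ?_)
    change frMap B (f.unop.unop ≫ g.unop.unop) x = frMap B g.unop.unop (frMap B f.unop.unop x)
    induction x using Finsupp.induction_linear with
    | zero => rw [map_zero, map_zero, map_zero]
    | add x y hx hy => rw [map_add, map_add, map_add, hx, hy]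
    | single h d =>
      rw [frMap_single, frMap_single, frMap_single, Category.assoc]
      rfl

/-- the free functor on `Hom(B, -)` -/
def fr (B : Alg A) : MVF A :=
  PresheafOfModules.ofPresheaf (freeAb B) (fun _ _ f r m => frMap_smul B f.unop.unop r m)

theorem tr_fr (B : Alg A) {C D : Alg A} (f : C ⟶ D)
    (x : ULift.{u + 1} (B ⟶ C) →₀ (C : Type u)) : tr (fr B) f x = frMap B f x := rfl

/-- the value at `C` of the map out of `fr B` attached to `x` -/
def frl {B : Alg A} (F : MVF A) (x : F.obj (pt B)) (C : Alg A) :
    (ULift.{u + 1} (B ⟶ C) →₀ (C : Type u)) →ₗ[C] F.obj (pt C) :=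
  Finsupp.linearCombination C fun g : ULift.{u + 1} (B ⟶ C) => tr F g.down x

theorem frl_single {B : Alg A} (F : MVF A) (x : F.obj (pt B)) (C : Alg A)
    (g : ULift.{u + 1} (B ⟶ C)) (c : C) :
    frl F x C (Finsupp.single g c) = c • tr F g.down x :=
  Finsupp.linearCombination_single _ _ _

/-- the map out of `fr B` attached to an element -/
def frd {B : Alg A} (F : MVF A) (x : F.obj (pt B)) : fr B ⟶ F :=
  mkHom (fun C z => frl F x C z) (fun C z w => map_add (frl F x C) z w)
    (fun C c z => (frl F x C).map_smul c z) (fun C D f z => by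
      change frl F x D (frMap B f z) = tr F f (frl F x C z)
      induction z using Finsupp.induction_linear with
      | zero => rw [map_zero, map_zero, map_zero, map_zero]
      | add z w hz hw => rw [map_add, map_add, map_add, map_add, hz, hw]
      | single g c => rw [frMap_single, frl_single, frl_single, tr_smul, tr_comp])

theorem frd_gen {B : Alg A} (F : MVF A) (x : F.obj (pt B)) :
    (frd F x).app (pt B) (Finsupp.single (ULift.up.{u + 1} (𝟙 B)) (1 : B) :
      ULift.{u + 1} (B ⟶ B) →₀ (B : Type u)) = x := by
  change frl F x B _ = x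
  rw [frl_single, one_smul]
  exact tr_id F x

variable (A) in
theorem isSeparating_fr : (ObjectProperty.ofObj (fr (A := A))).IsSeparating := by
  intro F G f g h
  apply hom_ext'
  intro B x
  have h1 := h (fr B) (ObjectProperty.ofObj_apply _ B) (frd F x)
  have h2 := congrArg (fun (k : fr B ⟶ G) => k.app (pt B)
    (Finsupp.single (ULift.up.{u + 1} (𝟙 B)) (1 : B) : ULift.{u + 1} (B ⟶ B) →₀ (B : Type u))) h1
  beta_reduce at h2
  rw [comp_app_apply, comp_app_apply, frd_gen] at h2
  exact h2

variable (A) in
theorem hasSeparator : HasSeparator (MVF A) := by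
  have := AB.hasCoproducts A
  exact ⟨_, (isSeparator_sigma (fr (A := A))).2 (isSeparating_fr A)⟩

variable (A) in
theorem isGrothendieckAbelian : IsGrothendieckAbelian.{u + 1} (MVF A) := by
  have h1 := AB.hasColims A
  have : HasFilteredColimitsOfSize.{u + 1, u + 1} (MVF A) := ⟨fun _ _ _ => inferInstance⟩
  have := AB.ab5 A
  have := hasSeparator A
  exact {}

variable (A) in
theorem enoughInjectives : EnoughInjectives (MVF A) := by
  have := isGrothendieckAbelian A
  infer_instance

end

end K569.Groth1
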