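import Groth.Agent.Adeq.K569.Groth1
import Groth.Agent.Adeq.K569.Ext2
import Mathlib.CategoryTheory.Abelian.Subcategory
import Mathlib.CategoryTheory.Adjunction.AdjointFunctorTheorems
import Mathlib.CategoryTheory.Subobject.WellPowered
import Mathlib.CategoryTheory.Abelian.Subobject

/-!
# The category of adequate functors: abelian, cocomplete, the inclusion is a left adjoint
-/

universe u

open CategoryTheory Limits Opposite TensorProduct Adeq

namespace K569.Groth2

open K569.Basic K569.Cok K569.Colim K569.Ext1 K569.Ext2 K569.Lin

noncomputable section

variable (A : Type u) [CommRing A]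

theorem containsZero : (adequate A).ContainsZero := by
  exact ⟨⟨(underline A).obj (ModuleCat.of A PUnit),
    Functor.map_isZero (underline A) (ModuleCat.isZero_of_subsingleton _), adequate_underline _⟩⟩

theorem closedKernels : (adequate A).IsClosedUnderKernels := by
  refine ⟨?_⟩
  rintro _ ⟨f, k, hk, hf⟩
  exact (adequate A).prop_of_iso (IsLimit.conePointUniqueUpToIso (kernelIsKernel f) hk)
    (adequate_kernel f hf.1 hf.2)

theorem closedCokernels : (adequate A).IsClosedUnderCokernels := by
  refine ⟨?_⟩
  rintro _ ⟨f, k, hk, hf⟩
  exact (adequate A).prop_of_iso (IsColimit.coconePointUniqueUpToIso (cokernelIsCokernel f) hk)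
    (adequate_cokernel f hf.1 hf.2)

theorem closedColimits (J : Type (u + 1)) [SmallCategory J] :
    (adequate A).IsClosedUnderColimitsOfShape J := by
  refine ⟨?_⟩
  rintro X ⟨p⟩
  have := AB.hasColims A
  exact (adequate A).prop_of_iso
    (IsColimit.coconePointUniqueUpToIso (colimit.isColimit p.diag) p.isColimit)
    (adequate_colimit p.diag p.prop_diag_obj)

theorem closedFiniteProducts : (adequate A).IsClosedUnderFiniteProducts := by
  have := containsZero A
  have : (adequate A).IsClosedUnderBinaryProducts := by
    refine ⟨?_⟩
    rintro X ⟨p⟩
    refine (adequate A).prop_of_iso (IsLimit.conePointsIsoOfNatIso p.isLimit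
      (BinaryBiproduct.isLimit (p.diag.obj ⟨WalkingPair.left⟩) (p.diag.obj ⟨WalkingPair.right⟩))
      (diagramIsoPair p.diag)).symm ?_
    exact adequate_biprod (p.prop_diag_obj _) (p.prop_diag_obj _)
  exact ObjectProperty.IsClosedUnderFiniteProducts.mk'

/-- the abelian structure on adequate functors -/
abbrev abelian : Abelian (Adequate A) := by
  have := containsZero A
  have := closedKernels A
  have := closedCokernels A
  have := closedFiniteProducts A
  infer_instance

theorem hasColimits : HasColimitsOfSize.{u + 1, u + 1} (Adequate A) := by
  have := AB.hasColims A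
  refine ⟨fun J _ => ?_⟩
  have := closedColimits A J
  infer_instance

theorem preservesColimits : PreservesColimitsOfSize.{u + 1, u + 1} (adequate A).ι := by
  have := AB.hasColims A
  refine ⟨fun {J} _ => ?_⟩
  have := closedColimits A J
  infer_instance

/-- index set of linearly adequate functors -/
abbrev LI : Type u := Σ (n m : ℕ), Fin m → Fin n → A

/-- the linearly adequate functor of a matrix, as an adequate functor -/
abbrev linA (i : LI A) : Adequate A :=
  ⟨linF i.2.2, adequate_of_linAdequate (linAdequate_linF _)⟩

theorem isSeparating_linA : (ObjectProperty.ofObj (linA A)).IsSeparating := by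
  intro F G f g h
  apply (adequate A).hom_ext
  apply hom_ext'
  intro B x
  obtain ⟨n, m, a, p, l, rfl⟩ := exists_lin F.property B x
  have h1 := h (linA A ⟨n, m, a⟩) (ObjectProperty.ofObj_apply _ _)
    ((adequate A).homMk p)
  have h2 := congrArg (fun (k : linA A ⟨n, m, a⟩ ⟶ G) => k.hom.app (pt B) l) h1
  exact h2

theorem wellPowered_op_of_isSeparating.{v, u₁} {C : Type u₁} [Category.{v} C] [Abelian C]
    {P : ObjectProperty C} [ObjectProperty.Small.{v} P] (h : P.IsSeparating) :
    WellPowered.{v} Cᵒᵖ := by
  have : WellPowered.{v} C := wellPowered_of_isDetecting h.isDetecting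
  infer_instance

theorem wellPowered_op : WellPowered.{u + 1} (Adequate A)ᵒᵖ :=
  @wellPowered_op_of_isSeparating.{u + 1, u + 2} _ _ (abelian A) _ _ (isSeparating_linA A)

theorem isLeftAdjoint : (adequate A).ι.IsLeftAdjoint := by
  have := hasColimits A
  have := wellPowered_op A
  have := preservesColimits A
  exact isLeftAdjoint_of_preservesColimits_of_isSeparating (isSeparating_linA A) (adequate A).ι

theorem preservesMono : (adequate A).ι.PreservesMonomorphisms := by
  have := containsZero A
  have := closedKernels A
  have := closedCokernels A
  have := closedFiniteProducts A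
  exact (adequate A).preservesMonomorphisms_ι_of_isNormalEpiCategory

theorem enoughInjectives : EnoughInjectives (Adequate A) := by
  have := isLeftAdjoint A
  have := preservesMono A
  have := Groth1.enoughInjectives A
  exact EnoughInjectives.of_adjunction (Adjunction.ofIsLeftAdjoint (adequate A).ι)

end

end K569.Groth2
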