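import Groth.Agent.AlgSp.K644.CohAff
import Groth.Agent.Adeq.K569.FpqcAd

/-!
# The big sites are `QCSite`s; adequate modules are sheaves on affine objects and acyclic
-/

set_option autoImplicit false
set_option linter.unusedSectionVars false
universe w u

open CategoryTheory Limits Opposite AlgebraicGeometry TensorProduct Simplicial

noncomputable section

namespace K569.QCS

open K644.Site K644.Psh K644.Cartan K570.Local K570.CechM K570.Cov K570.CA K569.Basic K570.FFCech K570.SpecModel
open Groth.Agent.Etbase.FFExact Groth.Agent.Etbase.CechCartan K644.Cech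

section Site

variable {Q : MorphismProperty Scheme.{u}} [Good Q] {S : Scheme.{u}}

instance qcSite : QCSite (QuotSh.J (Scheme.precoverage Q) S) (Over.forget S) where
  exists_cover U hU R hR := by
    have hU' : IsAffine U.left := hU
    obtain ⟨n, Y, g, h1, h2, h3, h4⟩ := exists_finite_affine Good.hz Good.ho U hR
    let f₀ : (∐ fun i => (Y i).left) ⟶ U.left := Sigma.desc fun i => (g i).left
    have hfl : Flat f₀ := IsZariskiLocalAtSource.sigmaDesc (P := @Flat) (fun i => Good.hf _ (h3 i))
    let V : Over S := Over.mk (f₀ ≫ U.hom)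
    let f : V ⟶ U := Over.homMk f₀ rfl
    let s : ∀ i, Y i ⟶ V := fun i => Over.homMk (Sigma.ι (fun i => (Y i).left) i) (by
      change Sigma.ι (fun i => (Y i).left) i ≫ f₀ ≫ U.hom = _
      rw [← Category.assoc, Sigma.ι_desc, Over.w])
    have hs : ∀ i, s i ≫ f = g i := fun i => by
      ext : 1
      exact Sigma.ι_desc _ _
    have hsurj : Function.Surjective f₀ := by
      intro x
      obtain ⟨i, z, hz⟩ := h4 x
      refine ⟨Sigma.ι (fun i => (Y i).left) i z, ?_⟩
      rw [← Scheme.Hom.comp_apply, Sigma.ι_desc]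
      exact hz
    have hVaff : IsAffine (∐ fun i => (Y i).left) := by
      have : ∀ i, IsAffine (Y i).left := h2
      infer_instance
    refine ⟨V, f, Fin n, Y, s, ⟨hVaff, hU, hfl, ⟨hsurj⟩, ?_⟩,
      ⟨inferInstance, hVaff, h2, K644.EtSite.sections_sigma_bijective _, ?_⟩, fun i => ?_⟩
    · refine GrothendieckTopology.superset_covering _ ?_ (ofArrows_mem g fun x => ?_)
      · rintro Z a ⟨_, b, _, ⟨i⟩, rfl⟩
        exact ⟨b ≫ s i, by rw [Category.assoc, hs]⟩
      · obtain ⟨i, hi⟩ := h4 x
        exact ⟨i, h3 i, hi⟩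
    · refine ofArrows_mem s fun z => ?_
      obtain ⟨i, z', hz⟩ := (sigmaOpenCover (fun i => (Y i).left)).exists_eq z
      exact ⟨i, Good.hz _ (inferInstanceAs (IsOpenImmersion (Sigma.ι (fun i => (Y i).left) i))), z', hz⟩
    · rw [hs]
      exact h1 _
  exists_aff U R hR := by
    rw [mem_J_iff]
    intro x
    obtain ⟨Y, g, -, h1, h2, h3⟩ := exists_affine Good.hz (R := (⊤ : Sieve U))
      (GrothendieckTopology.top_mem (QuotSh.J (Scheme.precoverage Q) S) _) x
    exact ⟨Y, g, hR Y g h2, h1, h3⟩

instance decSite : DecSite (QuotSh.J (Scheme.precoverage Q) S) (Over.forget S) where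
  mono hs i := by
    have := mono_map_of_decomp hs i
    exact (Over.forget S).mono_of_mono_map this
  empty Z hZ := by
    rw [mem_J_iff]
    intro z
    exact (hZ.false z).elim

end Site

section Flat

/-- The factors of a finite product decomposition of a ring are flat. -/
theorem flat_of_pi {B : Type*} [CommRing B] {ι : Type*} {C : ι → Type*}
    [∀ i, CommRing (C i)] (φ : ∀ i, B →+* C i)
    (hφ : Function.Bijective (fun (b : B) (i : ι) => φ i b)) (i : ι) : (φ i).Flat := by
  classical
  algebraize [φ i]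
  let e : B ≃+* ∀ i, C i := RingEquiv.ofBijective (RingHom.pi φ) hφ
  have he : ∀ b j, e b j = φ j b := fun _ _ => rfl
  let s : C i →ₗ[B] B :=
    { toFun := fun c => e.symm (Pi.single i c)
      map_add' := fun a b => by rw [Pi.single_add, map_add]
      map_smul' := fun b c => by
        apply e.injective
        rw [RingHom.id_apply, smul_eq_mul, map_mul, RingEquiv.apply_symm_apply, RingEquiv.apply_symm_apply]
        funext j
        rw [Pi.mul_apply]
        by_cases h : j = i
        · subst h
          rw [Pi.single_eq_same, Pi.single_eq_same, he]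
          rfl
        · rw [Pi.single_eq_of_ne h, Pi.single_eq_of_ne h, mul_zero] }
  have : Module.Flat B (C i) := Module.Flat.of_retract s (Algebra.linearMap B (C i)) (by
    ext c
    change φ i (e.symm (Pi.single i c)) = c
    rw [← he, RingEquiv.apply_symm_apply, Pi.single_eq_same])
  exact this

variable {R : Type u} [CommRing R]

theorem isBC_of_flatBC {F : Adeq.MVF R} (hF : FlatBC F) {B B' : Adeq.Alg R} (f : B ⟶ B')
    (hf : f.hom.toRingHom.Flat) : IsBC f.hom.toRingHom (tr F f) := by
  refine ⟨tr_smul F f, ?_⟩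
  have h := (K569.BC.isIso_bc_iff F f).1 (hF f hf)
  let _ : Algebra B B' := f.hom.toRingHom.toAlgebra
  let _ : Module B (F.obj (Adeq.pt B')) := Module.compHom _ f.hom.toRingHom
  have : IsScalarTower B B' (F.obj (Adeq.pt B')) := ⟨fun a b m => by
      change (f.hom.toRingHom a * b) • m = f.hom.toRingHom a • b • m
      rw [mul_smul]⟩
  exact h

theorem pi_of_flatBC {F : Adeq.MVF R} (hF : FlatBC F) {B : Adeq.Alg R} {ι : Type} [Finite ι] {C : ι → Adeq.Alg R}
    (f : ∀ i, B ⟶ C i) (hb : Function.Bijective (fun (b : B) (i : ι) => (f i).hom.toRingHom b)) :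
    Function.Bijective (fun (x : F.obj (Adeq.pt B)) (i : ι) => tr F (f i) x) :=
  pi_bijective (fun i => (f i).hom.toRingHom) hb (fun i => tr F (f i))
    (fun i => isBC_of_flatBC hF (f i) (flat_of_pi (fun i => (f i).hom.toRingHom) hb i))

end Flat

section Dec

variable {K : Precoverage Scheme.{u}} [BigSite.OSh K] {S : Scheme.{u}}
  {N : PresheafOfModules.{u + 1} (BigSite.ORing K S).obj}

/-- Finite decompositions of affine objects. -/
theorem dec_of_fbc (hN : FBC N) {V : Over S} (hV : IsAffine V.left) {ι : Type} [Finite ι] (Y : ι → Over S)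
    (hY : ∀ i, IsAffine (Y i).left) (s : ∀ i, Y i ⟶ V)
    (hb : Function.Bijective (fun (a : Γ(V.left, ⊤)) (i : ι) => (s i).left.appTop.hom a)) :
    Function.Bijective (fun (x : N.presheaf.obj (op V)) (i : ι) => res N.presheaf (s i) x) := by
  let F : Adeq.MVF Γ(V.left, ⊤) := (Adeq.toMVFPre K (chart V)).obj N
  let B : Adeq.Alg Γ(V.left, ⊤) := Adeq.algOf Γ(V.left, ⊤) Γ(V.left, ⊤)
  let C : ι → Adeq.Alg Γ(V.left, ⊤) := fun i => letI := alg (s i); Adeq.algOf Γ(V.left, ⊤) Γ((Y i).left, ⊤)
  let f : ∀ i, B ⟶ C i := fun i => letI := alg (s i); (γ (R := Γ(V.left, ⊤)) Γ((Y i).left, ⊤)).unop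
  have h1 : Function.Bijective (fun (x : F.obj (Adeq.pt B)) (i : ι) => tr F (f i) x) :=
    pi_of_flatBC (hN _ (chart V)) f hb
  let E : ∀ i, (Adeq.specOver (chart V)).obj (op (C i)) ≅ Y i := fun i => eV (s i)
  let t : ∀ i, N.presheaf.obj (op ((Adeq.specOver (chart V)).obj (op B))) →+
      N.presheaf.obj (op ((Adeq.specOver (chart V)).obj (op (C i)))) := fun i => tr F (f i)
  have h1' : Function.Bijective (fun (x : N.presheaf.obj (op ((Adeq.specOver (chart V)).obj (op B)))) (i : ι) =>
    t i x) := h1
  have key' : ∀ (i : ι) (x : N.presheaf.obj (op V)),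
      t i (res N.presheaf (eU (U := V)).hom x) = res N.presheaf (E i).hom (res N.presheaf (s i) x) := by
    intro i x
    change res N.presheaf _ _ = _
    rw [res_res, res_res]
    exact res_congr N.presheaf (eV_comp (s i)).symm x
  have key : ∀ (i : ι) (x : N.presheaf.obj (op V)),
      res N.presheaf (s i) x = res N.presheaf (E i).inv (t i (res N.presheaf (eU (U := V)).hom x)) := by
    intro i x
    rw [key', res_iso_inv_hom]
  constructor
  · intro x y hxy
    have h3 : res N.presheaf (eU (U := V)).hom x = res N.presheaf (eU (U := V)).hom y := by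
      apply h1'.1
      funext i
      have h4 := congrFun hxy i
      change res N.presheaf (s i) x = res N.presheaf (s i) y at h4
      rw [key, key] at h4
      have h5 := congrArg (res N.presheaf (E i).hom) h4
      rwa [res_iso_hom_inv, res_iso_hom_inv] at h5
    have h4 := congrArg (res N.presheaf (eU (U := V)).inv) h3
    rwa [res_iso_inv_hom, res_iso_inv_hom] at h4
  · intro z
    obtain ⟨x, hx⟩ := h1'.2 (fun i => res N.presheaf (E i).hom (z i))
    refine ⟨res N.presheaf (eU (U := V)).inv x, ?_⟩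
    funext i
    change res N.presheaf (s i) (res N.presheaf (eU (U := V)).inv x) = z i
    rw [key, res_iso_hom_inv]
    have h2 : t i x = res N.presheaf (E i).hom (z i) := congrFun hx i
    rw [h2, res_iso_inv_hom]

/-- Presheaves with flat base change are sheaves on affine objects. -/
theorem affSheaf_of_fbc {J : GrothendieckTopology (Over S)} (hN : FBC N) :
    AffSheaf J (Over.forget S) N.presheaf where
  inj f hf := sepA_of_flatBC hN f hf.tgt hf.src hf.flat hf.surj
  glue {V U W} f a b hf sq x hx := by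
    let m : Model f := ofPullbacks f
    have hex := ca_of_flatBC hN f hf.tgt hf.src hf.flat hf.surj m 0
    let e : V ⟶ m.W 1 := m.lift 1 f (fun _ => 𝟙 V) (fun _ => Category.id_comp _)
    have heπ : e ≫ m.π 1 0 = 𝟙 V := m.lift_π _ _ _ _ _
    have he : e ≫ m.b 1 = f := m.lift_b _ _ _ _
    let l : m.W 2 ⟶ W := sq.lift (m.π 2 0) (m.π 2 1) (by rw [m.w, m.w])
    have hla : l ≫ a = m.π 2 0 := sq.lift_fst _ _ _
    have hlb : l ≫ b = m.π 2 1 := sq.lift_snd _ _ _
    have hx' : m.d N.presheaf 1 (res N.presheaf (m.π 1 0) x) = 0 := by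
      rw [Model.d_one, res_res, res_res, m.face_π, m.face_π]
      have h0 : (0 : Fin 2).succAbove (0 : Fin 1) = 1 := rfl
      have h1 : (1 : Fin 2).succAbove (0 : Fin 1) = 0 := rfl
      rw [h0, h1, ← hla, ← hlb, ← res_res, ← res_res, sub_eq_zero]
      exact congrArg (res N.presheaf l) hx.symm
    obtain ⟨y, hy⟩ := hex _ hx'
    let c : U ⟶ m.W 0 := m.lift 0 (𝟙 U) (fun i => i.elim0) (fun i => i.elim0)
    have hc : e ≫ m.face 0 0 = f ≫ c := by
      apply m.hom_ext
      · rw [Category.assoc, m.face_b, he, Category.assoc]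
        exact ((congrArg (f ≫ ·) (m.lift_b _ _ _ _)).trans (Category.comp_id _)).symm
      · exact fun i => i.elim0
    refine ⟨res N.presheaf c y, ?_⟩
    change res N.presheaf f (res N.presheaf c y) = x
    rw [res_res, ← hc, ← res_res, ← Model.d_zero, hy, res_res, heπ, res_id]
  dec {V} ι Y s hs := by
    have := hs.fin
    exact dec_of_fbc hN hs.tgt Y hs.aff s hs.bij

end Dec

section Acyc

variable {S : Scheme.{u}} {V U : Over S} (f : V ⟶ U)

/-- The Čech nerve as a model of the fibre powers. -/
def nerveModel : Model f where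
  W
    | 0 => U
    | n + 1 => (Arrow.mk f).cechNerve _⦋n⦌
  b
    | 0 => 𝟙 U
    | n + 1 => bs f n
  π
    | 0 => fun i => i.elim0
    | n + 1 => fun i => pr f n i
  w
    | 0 => fun i => i.elim0
    | n + 1 => fun i => pr_comp f n i
  lift
    | 0 => fun c _ _ => c
    | n + 1 => fun c v h => mkE f n c v h
  lift_b
    | 0 => fun _ _ _ => Category.comp_id _
    | _ + 1 => fun _ _ _ => mkE_bs _ _ _ _ _
  lift_π
    | 0 => fun _ _ _ i => i.elim0
    | _ + 1 => fun _ _ _ _ => mkE_pr _ _ _ _ _ _
  hom_ext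
    | 0 => fun a a' h _ => by
        have h' : a ≫ 𝟙 U = a' ≫ 𝟙 U := h
        rwa [Category.comp_id, Category.comp_id] at h'
    | _ + 1 => fun _ _ _ h => E_hom_ext f _ h

theorem exact'_iff (P : (Over S)ᵒᵖ ⥤ AddCommGrpCat.{w}) :
    Exact' P (Arrow.mk f).cechNerve ↔ ∀ n, (nerveModel f).Ex P (n + 1) := by
  have hd : ∀ (n : ℕ) (x : P.obj (op ((Arrow.mk f).cechNerve _⦋n⦌))),
      dC P (Arrow.mk f).cechNerve n x = (nerveModel f).d P (n + 1) x := by
    intro n x
    rw [dC_apply, Model.d_apply]
    refine Finset.sum_congr rfl fun i _ => ?_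
    have h : (Arrow.mk f).cechNerve.δ i = (nerveModel f).face (n + 1) i := by
      apply E_hom_ext
      intro k
      refine (δ_pr f n i k).trans ?_
      exact ((nerveModel f).face_π (n + 1) i k).symm
    rw [h]
    rfl
  constructor
  · intro h n x hx
    obtain ⟨y, hy⟩ := h n x ((hd _ _).trans hx)
    exact ⟨y, (hd _ _).symm.trans hy⟩
  · intro h n x hx
    obtain ⟨y, hy⟩ := h n x ((hd _ _).symm.trans hx)
    exact ⟨y, (hd _ _).trans hy⟩

theorem affAcyc_of_ca {J : GrothendieckTopology (Over S)} (F : Sheaf J AddCommGrpCat.{u + 1}) (h : CA F.obj) :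
    AffAcyc.{u + 1} (Over.forget S) F := fun _ _ f hf =>
  (exact'_iff f F.obj).2 fun n => h f hf.tgt hf.src hf.flat hf.surj _ _

end Acyc

end K569.QCS
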