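import Groth.Agent.Adeq.K569.QCS
import Groth.Agent.Adeq.K569.Ext2
import Groth.Agent.Adeq.K569.Groth2
import Groth.Agent.Adeq.K570.ExF
import Groth.Agent.AlgSp.K644.Ses
import Groth.Agent.Adeq.K570.Stab

/-!
# Sheafification of adequate presheaves; extensions, cokernels and colimits of adequate modules
-/

set_option autoImplicit false
set_option linter.unusedSectionVars false
universe w v' u' u

open CategoryTheory Limits Opposite AlgebraicGeometry TensorProduct Simplicial

noncomputable section

namespace K569.QCS2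

open K644.Site K644.Psh K644.Cartan K570.Local K570.CechM K570.Cov K570.CA K569.Basic K570.FFCech K570.SpecModel
  K569.QCS K644.Colim K644.Ses K644.Exact

variable {Q : MorphismProperty Scheme.{u}} [Good Q] [BigSite.OSh (Scheme.precoverage Q)] {S : Scheme.{u}}

variable {P : PresheafOfModules.{u + 1} (BigSite.ORing (Scheme.precoverage Q) S).obj}

/-- Adequacy of a presheaf on affine objects. -/
def PreAdq (P : PresheafOfModules.{u + 1} (BigSite.ORing (Scheme.precoverage Q) S).obj) : Prop :=
  ∀ (R : CommRingCat.{u}) (a : Spec R ⟶ S), Adeq.adequate R ((Adeq.toMVFPre (Scheme.precoverage Q) a).obj P)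

theorem PreAdq.fbc (h : PreAdq P) : FBC P := fun R a _ _ f hf => K569.BC.isIso_bc (h R a) f hf

theorem preAdq_iff {M : BigSite.Mod (Scheme.precoverage Q) S} :
    PreAdq M.val ↔ Adeq.adequateMod (Scheme.precoverage Q) S M := by
  rw [adequateMod_iff]
  constructor
  · intro h R a
    rw [Category.comp_id]
    exact h R a
  · intro h R a
    have := h R a
    rw [Category.comp_id] at this
    exact this

/-- A locally bijective morphism from a presheaf with flat base change to a sheaf is bijective on affine objects. -/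
theorem bijective_of_loc (h : FBC P) {M : BigSite.Mod (Scheme.precoverage Q) S} (φ : P ⟶ M.val)
    (h1 : PresheafOfModules.IsLocallyInjective (QuotSh.J (Scheme.precoverage Q) S) φ)
    (h2 : PresheafOfModules.IsLocallySurjective (QuotSh.J (Scheme.precoverage Q) S) φ)
    {U : Over S} (hU : IsAffine U.left) :
    Function.Bijective (((PresheafOfModules.toPresheaf _).map φ).app (op U)) :=
  bijective_app (J := QuotSh.J (Scheme.precoverage Q) S) (T := Over.forget S) (affSheaf_of_fbc h) M.isSheaf _ h1 h2 U hU

theorem isIso_of_loc (h : FBC P) {M : BigSite.Mod (Scheme.precoverage Q) S} (φ : P ⟶ M.val)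
    (h1 : PresheafOfModules.IsLocallyInjective (QuotSh.J (Scheme.precoverage Q) S) φ)
    (h2 : PresheafOfModules.IsLocallySurjective (QuotSh.J (Scheme.precoverage Q) S) φ)
    {R : CommRingCat.{u}} (a : Spec R ⟶ S) : IsIso ((Adeq.toMVFPre (Scheme.precoverage Q) a).map φ) := by
  rw [isIso_iff]
  intro B
  exact bijective_of_loc h φ h1 h2 (inferInstanceAs (IsAffine (Spec (CommRingCat.of B))))

theorem adequate_of_loc (h : PreAdq P) {M : BigSite.Mod (Scheme.precoverage Q) S} (φ : P ⟶ M.val)
    (h1 : PresheafOfModules.IsLocallyInjective (QuotSh.J (Scheme.precoverage Q) S) φ)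
    (h2 : PresheafOfModules.IsLocallySurjective (QuotSh.J (Scheme.precoverage Q) S) φ) :
    Adeq.adequateMod (Scheme.precoverage Q) S M := by
  rw [← preAdq_iff]
  intro R a
  have := isIso_of_loc h.fbc φ h1 h2 a
  exact (Adeq.adequate R).prop_of_iso (asIso ((Adeq.toMVFPre (Scheme.precoverage Q) a).map φ)) (h R a)

/-- The sheafification of an adequate presheaf is adequate. -/
theorem adequate_sheafification (h : PreAdq P) : Adeq.adequateMod (Scheme.precoverage Q) S
    ((PresheafOfModules.sheafification (𝟙 (BigSite.ORing (Scheme.precoverage Q) S).obj)).obj P) :=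
  adequate_of_loc h (toSh P) inferInstance inferInstance

instance str {K : Precoverage Scheme.{u}} [BigSite.OSh K] {S : Scheme.{u}} :
    Str (Over.forget S) (BigSite.ORing K S).obj where
  ρ _ := ULift.ringEquiv.symm
  nat _ _ := rfl

/-- Surjectivity on affine objects for extensions by adequate modules. -/
theorem surjective_of_shortExact {C : ShortComplex (BigSite.Mod (Scheme.precoverage Q) S)} (hC : C.ShortExact)
    (h₁ : Adeq.adequateMod (Scheme.precoverage Q) S C.X₁) {U : Over S} (hU : IsAffine U.left) :
    Function.Surjective (smap (Over.forget S) C.g U) :=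
  surjective_of_affAcyc.{u + 1} (T := Over.forget S) _ _ _ (shortExact_toSheaf hC)
    (affAcyc_of_ca _ (K569.FpqcAd.ca h₁)) U hU

/-- Extensions of adequate modules are adequate. -/
theorem adequateMod_ext {C : ShortComplex (BigSite.Mod (Scheme.precoverage Q) S)} (hC : C.ShortExact)
    (h₁ : Adeq.adequateMod (Scheme.precoverage Q) S C.X₁) (h₃ : Adeq.adequateMod (Scheme.precoverage Q) S C.X₃) :
    Adeq.adequateMod (Scheme.precoverage Q) S C.X₂ := by
  rw [← preAdq_iff]
  intro R a
  have e1 := fun (B : Adeq.Alg R) => leftExact_sections (T := Over.forget S) hC ((Adeq.specOver a).obj (op B))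
  have e2 := fun (B : Adeq.Alg R) => surjective_of_shortExact hC h₁ (U := (Adeq.specOver a).obj (op B))
    (inferInstanceAs (IsAffine (Spec (CommRingCat.of B))))
  exact K569.Ext2.adequate_ext (F := (Adeq.toMVFPre (Scheme.precoverage Q) a).obj C.X₁.val)
    ((Adeq.toMVFPre (Scheme.precoverage Q) a).map C.f.val) ((Adeq.toMVFPre (Scheme.precoverage Q) a).map C.g.val)
    (fun B => (e1 B).1) (fun B => e2 B) (fun B => (e1 B).2) (preAdq_iff.2 h₁ R a) (preAdq_iff.2 h₃ R a)

/-- Exactness on affine objects for exact sequences of adequate modules. -/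
theorem exact_of_exact {C : ShortComplex (BigSite.Mod (Scheme.precoverage Q) S)} (hC : C.Exact)
    (h₁ : Adeq.adequateMod (Scheme.precoverage Q) S C.X₁) (h₂ : Adeq.adequateMod (Scheme.precoverage Q) S C.X₂)
    {U : Over S} (hU : IsAffine U.left) :
    Function.Exact (smap (Over.forget S) C.f U) (smap (Over.forget S) C.g U) := by
  have hk := exact_kernel (T := Over.forget S) (kernel.ι C.g) C.g (kernel.condition C.g) (kernelIsKernel C.g) U
  let l : C.X₁ ⟶ kernel C.g := kernel.lift C.g C.f C.zero
  have hl : l ≫ kernel.ι C.g = C.f := kernel.lift_ι _ _ _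
  have : Epi l := C.exact_iff_epi_kernel_lift.1 hC
  have hS : (ShortComplex.mk (kernel.ι l) l (kernel.condition l)).ShortExact :=
    { exact := ShortComplex.exact_of_f_is_kernel _ (kernelIsKernel l)
      mono_f := inferInstanceAs (Mono (kernel.ι l))
      epi_g := this }
  have hkl : kernel.ι l ≫ C.f = 0 := by rw [← hl, ← Category.assoc, kernel.condition, zero_comp]
  have h4 : Adeq.adequateMod (Scheme.precoverage Q) S (kernel l) := by
    let e : kernel l ≅ kernel C.f := (kernelCompMono l (kernel.ι C.g)).symm ≪≫ kernelIsoOfEq hl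
    exact (Adeq.adequateMod (Scheme.precoverage Q) S).prop_of_iso e.symm (K570.Stab.adequateMod_kernel C.f h₁ h₂)
  have h5 := surjective_of_shortExact hS h4 hU
  intro x
  constructor
  · intro hx
    obtain ⟨k, rfl⟩ := (hk.2 x).1 hx
    obtain ⟨y, rfl⟩ := h5 k
    refine ⟨y, ?_⟩
    rw [← smap_comp, hl]
  · rintro ⟨y, rfl⟩
    rw [← smap_comp, C.zero, smap_zero]

/-- Parasitic adequate modules. -/
theorem parasitic_of_exact {C : ShortComplex (BigSite.Mod (Scheme.precoverage Q) S)} (hC : C.Exact)
    (h₁ : Adeq.adequateMod (Scheme.precoverage Q) S C.X₁) (h₂ : Adeq.adequateMod (Scheme.precoverage Q) S C.X₂)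
    (p₁ : Adeq.parasitic (Scheme.precoverage Q) S C.X₁) (p₃ : Adeq.parasitic (Scheme.precoverage Q) S C.X₃) :
    Adeq.parasitic (Scheme.precoverage Q) S C.X₂ := by
  intro U hU
  choose Y g h1 h2 h3 h4 using exists_affine (Q := Q) Good.hz (R := (⊤ : Sieve U))
      (GrothendieckTopology.top_mem (QuotSh.J (Scheme.precoverage Q) S) _)
  have key : ∀ i (x : sec C.X₂ (Y i)), x = 0 := by
    intro i x
    have hfl : Flat (Y i).hom := by
      rw [← Over.w (g i)]
      have := Good.hf _ (h2 i)
      infer_instance
    have s1 : Subsingleton (sec C.X₁ (Y i)) := p₁ (Y i) hfl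
    have s3 : Subsingleton (sec C.X₃ (Y i)) := p₃ (Y i) hfl
    obtain ⟨y, rfl⟩ := (exact_of_exact hC h₁ h₂ (h3 i) x).1 (Subsingleton.elim _ _)
    rw [Subsingleton.elim y 0, map_zero]
  refine ⟨fun x y => sep C.X₂.isSheaf g (ofArrows_mem g fun z => ⟨z, h2 z, h4 z⟩) x y fun i => ?_⟩
  rw [key i (res C.X₂.val.presheaf (g i) x), key i (res C.X₂.val.presheaf (g i) y)]

section Colimits

theorem preservesColimits_toMVFPre {K : Precoverage Scheme.{u}} [BigSite.OSh K] {R : CommRingCat.{u}} (a : Spec R ⟶ S)
    (J : Type (u + 1)) [SmallCategory J] : PreservesColimitsOfShape J (Adeq.toMVFPre K a) := by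
  refine ⟨fun {D} => ⟨fun {c} hc => ⟨PresheafOfModules.evaluationJointlyReflectsColimits _ _ (fun X => ?_)⟩⟩⟩
  have h1 := isColimitOfPreserves (PresheafOfModules.evaluation.{u + 1} (BigSite.ORing K S).obj
    (op ((Adeq.specOver a).obj (op X.unop.unop)))) hc
  have h2 := isColimitOfPreserves (ModuleCat.restrictScalars.{u + 1} (Adeq.toSect K a X.unop.unop)) h1
  exact h2

variable {J : Type (u + 1)} [SmallCategory J] (G : J ⥤ BigSite.Mod (Scheme.precoverage Q) S)

theorem preAdq_of_isColimit {G : J ⥤ PresheafOfModules.{u + 1} (BigSite.ORing (Scheme.precoverage Q) S).obj}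
    (hG : ∀ j, PreAdq (G.obj j)) {c : Cocone G} (hc : IsColimit c) : PreAdq c.pt := by
  intro R a
  have := preservesColimits_toMVFPre (K := Scheme.precoverage Q) a J
  have h1 := isColimitOfPreserves (Adeq.toMVFPre (Scheme.precoverage Q) a) hc
  have := K569.Groth2.closedColimits (A := R) J
  exact (Adeq.adequate R).prop_of_isColimit h1 (fun j => hG j R a)

variable {G}

/-- Colimits of adequate modules are adequate. -/
theorem adequateMod_of_isColimit (hG : ∀ j, Adeq.adequateMod (Scheme.precoverage Q) S (G.obj j)) {c : Cocone G}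
    (hc : IsColimit c) : Adeq.adequateMod (Scheme.precoverage Q) S c.pt := by
  have h := locallyBijective_desc hc (colimit.isColimit (G ⋙ SheafOfModules.forget _))
  exact adequate_of_loc (preAdq_of_isColimit (fun j => preAdq_iff.2 (hG j)) (colimit.isColimit _)) _ h.1 h.2

theorem adequateMod_cokernel {M N : BigSite.Mod (Scheme.precoverage Q) S} (φ : M ⟶ N)
    (hM : Adeq.adequateMod (Scheme.precoverage Q) S M) (hN : Adeq.adequateMod (Scheme.precoverage Q) S N) :
    Adeq.adequateMod (Scheme.precoverage Q) S (cokernel φ) := by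
  let e : ULiftHom.{u + 1} (ULift.{u + 1} WalkingParallelPair) ≌ WalkingParallelPair :=
    (ULiftHomULiftCategory.equiv.{u + 1, u + 1} WalkingParallelPair).symm
  have h1 := (colimit.isColimit (parallelPair φ 0)).whiskerEquivalence e
  exact adequateMod_of_isColimit (fun j => by
    change Adeq.adequateMod (Scheme.precoverage Q) S ((parallelPair φ 0).obj (e.functor.obj j))
    cases h : e.functor.obj j
    · exact hM
    · exact hN) h1

end Colimits

end K569.QCS2
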