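import Groth.Agent.Adeq.K569.QCS2
set_option autoImplicit false
universe u
open CategoryTheory Limits Opposite AlgebraicGeometry
open Adeq

namespace K569.QCS3
open K644.Site K644.Psh K644.Cartan K570.Local K570.CA K569.QCS K644.CohAff

noncomputable section

variable {Q : MorphismProperty Scheme.{u}} [Good Q] [BigSite.OSh (Scheme.precoverage Q)] {S : Scheme.{u}}

theorem subsingleton_HU {M : BigSite.Mod (Scheme.precoverage Q) S}
    (hM : Adeq.adequateMod (Scheme.precoverage Q) S M) (U : Over S) [IsAffine U.left] (q : ℕ) :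
    Subsingleton (BigSite.HU (Scheme.precoverage Q) ((BigSite.toAbMod (Scheme.precoverage Q) S).obj M) (q + 1) U) := by
  have h1 : Adeq.adequateMod (Scheme.precoverage Q) U.left ((BigSite.pullMod (Scheme.precoverage Q) U.hom).obj M) :=
    K570.Stab.adequateMod_pullMod U.hom M hM
  exact subsingleton_H (T := Over.forget U.left) (t := Over.mk (𝟙 U.left)) Over.mkIdTerminal
    (inferInstanceAs (IsAffine U.left)) _ (affAcyc_of_ca _ (K569.FpqcAd.ca h1)) q

end
end K569.QCS3
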