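import Mathlib.CategoryTheory.Sites.Over
import Mathlib.CategoryTheory.Sites.SheafOfTypes
import Mathlib.CategoryTheory.Sites.Canonical

/-!
# Sheaves on `Over S` and sheaves on the base category with a map to `S`
-/

set_option autoImplicit false
universe w v u

open CategoryTheory Limits Opposite

namespace K569.Tot

noncomputable section

variable {C : Type u} [Category.{v} C] {S : C} (F : (Over S)ᵒᵖ ⥤ Type w)

/-- pairs of a morphism to `S` and a section over it -/
abbrev P (T : C) : Type (max v w) := Σ a : T ⟶ S, F.obj (op (Over.mk a))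

variable {F}

/-- pull back the section of a pair -/
def pl {T : C} (p : P F T) (Y : Over S) (e : Y.left ⟶ T) (he : e ≫ p.1 = Y.hom) : F.obj (op Y) :=
  F.map (Over.homMk e he : Y ⟶ Over.mk p.1).op p.2

/-- pull back a pair -/
def mp {T T' : C} (g : T' ⟶ T) (p : P F T) : P F T' :=
  ⟨g ≫ p.1, pl p (Over.mk (g ≫ p.1)) g rfl⟩

theorem pl_congr {T : C} {p q : P F T} (h : p = q) (Y : Over S) (e : Y.left ⟶ T)
    (he : e ≫ p.1 = Y.hom) (he' : e ≫ q.1 = Y.hom) : pl p Y e he = pl q Y e he' := by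
  subst h
  rfl

theorem pl_congr' {T : C} (p : P F T) (Y : Over S) {e e' : Y.left ⟶ T} (hee : e = e')
    (he : e ≫ p.1 = Y.hom) (he' : e' ≫ p.1 = Y.hom) : pl p Y e he = pl p Y e' he' := by
  subst hee
  rfl

theorem pl_mp {T T' : C} (g : T' ⟶ T) (p : P F T) (Y : Over S) (e : Y.left ⟶ T')
    (he : e ≫ (mp g p).1 = Y.hom) :
    pl (mp g p) Y e he = pl p Y (e ≫ g) (by rw [Category.assoc]; exact he) := by
  change F.map (Over.homMk e he : Y ⟶ Over.mk (g ≫ p.1)).op (F.map _ p.2) = F.map _ p.2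
  rw [← Functor.map_comp_apply, ← op_comp]
  rfl

theorem map_pl {T : C} (p : P F T) {Y Y' : Over S} (k : Y' ⟶ Y) (e : Y.left ⟶ T)
    (he : e ≫ p.1 = Y.hom) :
    F.map k.op (pl p Y e he) = pl p Y' (k.left ≫ e) (by rw [Category.assoc, he, Over.w]) := by
  change F.map k.op (F.map _ p.2) = F.map _ p.2
  rw [← Functor.map_comp_apply, ← op_comp]
  congr 1

theorem pl_id {T : C} (a : T ⟶ S) (x : F.obj (op (Over.mk a))) :
    pl (⟨a, x⟩ : P F T) (Over.mk a) (𝟙 T) (Category.id_comp a) = x := by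
  change F.map (𝟙 (Over.mk a)).op x = x
  rw [op_id, F.map_id]
  rfl

theorem ext {T : C} {p q : P F T} (h : p.1 = q.1)
    (h2 : pl q (Over.mk p.1) (𝟙 T) ((Category.id_comp _).trans h.symm) = p.2) : p = q := by
  obtain ⟨a, x⟩ := p
  obtain ⟨b, y⟩ := q
  obtain rfl : a = b := h
  have := pl_id (F := F) a y
  have h3 : y = x := this.symm.trans h2
  rw [h3]

theorem mp_id {T : C} (p : P F T) : mp (𝟙 T) p = p := by
  apply ext (Category.id_comp p.1)
  rfl

theorem mp_mp {T T' T'' : C} (g : T' ⟶ T) (g' : T'' ⟶ T') (p : P F T) :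
    mp g' (mp g p) = mp (g' ≫ g) p := by
  refine ext (Category.assoc _ _ _).symm ?_
  rw [pl_mp]
  change pl p _ _ _ = pl (mp g p) _ _ _
  rw [pl_mp]
  exact pl_congr' _ _ (Category.id_comp _) _ _

variable (F)

/-- the total presheaf: pairs of a morphism to `S` and a section over it -/
def tot : Cᵒᵖ ⥤ Type (max v w) where
  obj T := P F T.unop
  map {T T'} g := ↾fun p => mp g.unop p
  map_id T := by
    refine ConcreteCategory.hom_ext _ _ fun p => ?_
    exact mp_id p
  map_comp {T T' T''} g g' := by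
    refine ConcreteCategory.hom_ext _ _ fun p => ?_
    exact (mp_mp _ _ _).symm

variable {F} {T : C} {R : Sieve T}

theorem mem_of (a : T ⟶ S) {Z : C} (g : Z ⟶ T) (hg : R g) :
    ((Sieve.overEquiv (Over.mk a)).symm R) (Over.homMk g : Over.mk (g ≫ a) ⟶ Over.mk a) :=
  (Sieve.overEquiv_symm_iff (Y := Over.mk a) R
    (Over.homMk g : Over.mk (g ≫ a) ⟶ Over.mk a)).2 hg

theorem map_eq {X Y : Over S} {f g : X ⟶ Y} (h : f.left = g.left) (y : F.obj (op Y)) :
    F.map f.op y = F.map g.op y :=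
  congrArg (fun k : X ⟶ Y => F.map k.op y) (Over.OverMorphism.ext h)

theorem isSheafFor_tot (hS : Presieve.IsSheafFor (yoneda.obj S) R.arrows)
    (hF : ∀ a : T ⟶ S, Presieve.IsSheafFor F ((Sieve.overEquiv (Over.mk a)).symm R).arrows) :
    Presieve.IsSheafFor (tot F) R.arrows := by
  intro fam hfam
  rw [Presieve.compatible_iff_sieveCompatible] at hfam
  let famS : Presieve.FamilyOfElements (yoneda.obj S) R.arrows := fun Z g hg => (fam g hg).1
  have hfamS : famS.Compatible := by
    rw [Presieve.compatible_iff_sieveCompatible]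
    intro Z W g k hg
    exact congrArg Sigma.fst (hfam g k hg)
  obtain ⟨a, ha, hu⟩ := hS famS hfamS
  have ha' : ∀ {Z : C} (g : Z ⟶ T) (hg : R g), g ≫ a = (fam g hg).1 := fun g hg => ha g hg
  let val : Presieve.FamilyOfElements F ((Sieve.overEquiv (Over.mk a)).symm R).arrows :=
    fun Y h hh => pl (fam h.left ((Sieve.overEquiv_symm_iff R h).1 hh)) Y (𝟙 _) (by
      rw [Category.id_comp, ← ha']
      exact Over.w h)
  have hval : val.Compatible := by
    rw [Presieve.compatible_iff_sieveCompatible]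
    intro Y Z f g hf
    have h1 := hfam f.left g.left ((Sieve.overEquiv_symm_iff R f).1 hf)
    refine (pl_congr h1 _ _ _ (by
      rw [← h1]
      rw [Category.id_comp, ← ha']
      exact Over.w (g ≫ f))).trans ?_
    refine (pl_mp _ _ _ _ _).trans ?_
    refine Eq.trans ?_ (map_pl _ g (𝟙 _) _).symm
    apply pl_congr'
    rw [Category.id_comp, Category.comp_id]
    rfl
  obtain ⟨y, hy, hyu⟩ := hF a val hval
  refine ⟨⟨a, y⟩, ?_, ?_⟩
  · intro Z g hg
    change mp g (⟨a, y⟩ : P F T) = fam g hg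
    refine ext (ha' g hg) ?_
    exact (hy (Over.homMk g : Over.mk (g ≫ a) ⟶ Over.mk a) (mem_of a g hg)).symm
  · rintro ⟨a', y'⟩ hy'
    have hy'' : ∀ {Z : C} (g : Z ⟶ T) (hg : R g), mp g (⟨a', y'⟩ : P F T) = fam g hg :=
      fun g hg => hy' g hg
    obtain rfl : a' = a := hu a' fun Z g hg => congrArg Sigma.fst (hy'' g hg)
    have : y' = y := by
      refine hyu y' fun Y h hh => ?_
      have h1 := hy'' h.left ((Sieve.overEquiv_symm_iff R h).1 hh)
      change F.map h.op y' = pl (fam h.left _) Y (𝟙 _) _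
      rw [← pl_congr h1 Y (𝟙 _) (by
        rw [Category.id_comp]
        exact Over.w h), pl_mp]
      exact map_eq (by simp) _
    rw [this]

theorem isSheafFor_of_tot (hS : Presieve.IsSeparatedFor (yoneda.obj S) R.arrows)
    (hF : Presieve.IsSheafFor (tot F) R.arrows) (a : T ⟶ S) :
    Presieve.IsSheafFor F ((Sieve.overEquiv (Over.mk a)).symm R).arrows := by
  intro fam hfam
  rw [Presieve.compatible_iff_sieveCompatible] at hfam
  let val : Presieve.FamilyOfElements (tot F) R.arrows := fun Z g hg =>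
    (⟨g ≫ a, fam (Over.homMk g : Over.mk (g ≫ a) ⟶ Over.mk a) (mem_of a g hg)⟩ : P F Z)
  have hval' : ∀ {Y : Over S} (h : Y ⟶ Over.mk a) (hh : ((Sieve.overEquiv (Over.mk a)).symm R) h)
    (he : 𝟙 _ ≫ (val h.left ((Sieve.overEquiv_symm_iff R h).1 hh)).1 = Y.hom),
      pl (val h.left ((Sieve.overEquiv_symm_iff R h).1 hh)) Y (𝟙 _) he = fam h hh := by
    intro Y h hh he
    have h1 := hfam (Over.homMk h.left : Over.mk (h.left ≫ a) ⟶ Over.mk a)
      (Over.homMk (𝟙 _) he : Y ⟶ Over.mk (h.left ≫ a))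
      (mem_of a h.left ((Sieve.overEquiv_symm_iff R h).1 hh))
    refine Eq.trans h1.symm ?_
    congr 1
    ext
    simp
  have hval : val.Compatible := by
    rw [Presieve.compatible_iff_sieveCompatible]
    intro Z W g k hg
    change (⟨(k ≫ g) ≫ a, _⟩ : P F W) = mp k (val g hg)
    refine ext (Category.assoc _ _ _) ?_
    rw [pl_mp]
    have h1 := hfam (Over.homMk g : Over.mk (g ≫ a) ⟶ Over.mk a)
      (Over.homMk k (by simp) : Over.mk ((k ≫ g) ≫ a) ⟶ Over.mk (g ≫ a)) (mem_of a g hg)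
    refine Eq.trans ?_ (h1.symm.trans ?_)
    · exact map_eq (by simp) _
    · congr 1
  obtain ⟨⟨b, y⟩, hy, hyu⟩ := hF val hval
  have hy' : ∀ {Z : C} (g : Z ⟶ T) (hg : R g), mp g (⟨b, y⟩ : P F T) = val g hg :=
    fun g hg => hy g hg
  obtain rfl : b = a := hS.ext fun Z g hg => congrArg Sigma.fst (hy' g hg)
  refine ⟨y, fun Y h hh => ?_, fun y' hy'' => ?_⟩
  · have h1 := hy' h.left ((Sieve.overEquiv_symm_iff R h).1 hh)
    have he : 𝟙 _ ≫ (mp h.left (⟨b, y⟩ : P F T)).1 = Y.hom := by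
      rw [Category.id_comp]
      exact Over.w h
    rw [← hval' h hh (by rw [← h1]; exact he), ← pl_congr h1 Y (𝟙 _) he, pl_mp]
    exact map_eq (by simp) _
  · have h1 : (⟨b, y'⟩ : P F T) = ⟨b, y⟩ := hyu _ fun Z g hg => by
      change mp g (⟨b, y'⟩ : P F T) = val g hg
      refine ext rfl ?_
      have h2 := hy'' (Over.homMk g : Over.mk (g ≫ b) ⟶ Over.mk b) (mem_of b g hg)
      refine (pl_id _ _).trans ?_
      exact h2.symm
    have h3 := pl_congr h1 (Over.mk b) (𝟙 T) (Category.id_comp b) (Category.id_comp b)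
    rwa [pl_id, pl_id] at h3

variable {J : GrothendieckTopology C}

theorem isSheaf_tot (hS : Presieve.IsSheaf J (yoneda.obj S)) (hF : Presieve.IsSheaf (J.over S) F) :
    Presieve.IsSheaf J (tot F) := by
  intro T R hR
  refine isSheafFor_tot (hS R hR) fun a => hF _ ?_
  rw [GrothendieckTopology.mem_over_iff, OrderIso.apply_symm_apply]
  exact hR

theorem isSheaf_of_tot (hS : Presieve.IsSeparated J (yoneda.obj S))
    (hF : Presieve.IsSheaf J (tot F)) : Presieve.IsSheaf (J.over S) F := by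
  intro X R hR
  rw [GrothendieckTopology.mem_over_iff] at hR
  have h := isSheafFor_of_tot (hS _ hR) (hF _ hR) X.hom
  have e : (Sieve.overEquiv (Over.mk X.hom)).symm (Sieve.overEquiv X R) = R :=
    (Sieve.overEquiv X).symm_apply_apply R
  rw [e] at h
  exact h

end

end K569.Tot
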