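import Groth.Agent.Adeq.K569.BC
import Mathlib.Algebra.QuadraticAlgebra.Basic
import Mathlib.RingTheory.RingHom.Flat
import Mathlib.RingTheory.Flat.Basic

/-!
# Additive maps compatible with units are linear
-/

universe u

open CategoryTheory Limits Opposite TensorProduct Adeq

namespace K569.Units

open K569.Basic K569.BC

noncomputable section

variable {A : Type u} [CommRing A] (B : Alg A) (b : B)

/-- the quadratic algebra `B[ω]`, `ω² = 1 + bω` -/
abbrev Qd : Alg A := algOf A (QuadraticAlgebra (B : Type u) 1 b)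

/-- the structure map -/
def qmap : B ⟶ Qd B b := CommAlgCat.ofHom (IsScalarTower.toAlgHom A B (QuadraticAlgebra (B : Type u) 1 b))

theorem qmap_apply (x : B) : (qmap B b).hom x = algebraMap B (QuadraticAlgebra (B : Type u) 1 b) x := rfl

theorem flat_qmap : (qmap B b).hom.toRingHom.Flat := by
  have : (qmap B b).hom.toRingHom = algebraMap B (QuadraticAlgebra (B : Type u) 1 b) := rfl
  rw [this]
  exact RingHom.flat_algebraMap_iff.2 inferInstance

/-- the generator -/
def om : QuadraticAlgebra (B : Type u) 1 b := QuadraticAlgebra.omega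

theorem om_mul : om B b * (om B b - algebraMap B (QuadraticAlgebra (B : Type u) 1 b) b) = 1 := by
  rw [mul_sub, om, QuadraticAlgebra.omega_mul_omega_eq_mk]
  ext
  · simp
    rfl
  · simp
    rfl

/-- first unit -/
def u₁ : (QuadraticAlgebra (B : Type u) 1 b)ˣ :=
  Units.mkOfMulEqOne _ _ (om_mul B b)

/-- second unit -/
def u₂ : (QuadraticAlgebra (B : Type u) 1 b)ˣ := -(u₁ B b)⁻¹

theorem u₁_add_u₂ : (u₁ B b : QuadraticAlgebra (B : Type u) 1 b) + u₂ B b =
    algebraMap B (QuadraticAlgebra (B : Type u) 1 b) b := by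
  have h1 : (u₁ B b : QuadraticAlgebra (B : Type u) 1 b) = om B b := rfl
  have h2 : ((u₁ B b)⁻¹ : (QuadraticAlgebra (B : Type u) 1 b)ˣ) =
    (om B b - algebraMap B (QuadraticAlgebra (B : Type u) 1 b) b) := rfl
  rw [u₂, Units.val_neg, h2, h1]
  ring

omit b in
variable {B} in
/-- injectivity of a transition map from a retraction of modules -/
theorem injective_tr_of_ret (G : MVF A) {B' : Alg A} (f : B ⟶ B') (hG : IsIso (G.bc f))
    (r : B' →+ B) (hr : ∀ (c : B) (z : B'), r (f.hom c * z) = c * r z) (h1 : r 1 = 1) :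
    Function.Injective (tr G f) := by
  let _ : Algebra B B' := f.hom.toRingHom.toAlgebra
  have h := ((isIso_bc_iff G f).1 hG).1
  let ret : (B' : Type u) →ₗ[B] B :=
    { toFun := r
      map_add' := map_add r
      map_smul' := fun c z => hr c z }
  intro x y hxy
  have h1' : (1 : B') ⊗ₜ[B] x = (1 : B') ⊗ₜ[B] y := by
    apply h
    change (1 : B') • tr G f x = (1 : B') • tr G f y
    rw [hxy]
  have h2 := congrArg (fun z => TensorProduct.lid B _ (ret.rTensor (G.obj (pt B)) z)) h1'
  beta_reduce at h2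
  rw [LinearMap.rTensor_tmul, LinearMap.rTensor_tmul, TensorProduct.lid_tmul,
    TensorProduct.lid_tmul] at h2
  have h3 : ret 1 = 1 := h1
  rwa [h3, one_smul, one_smul] at h2

/-- the retraction -/
def rt : (Qd B b : Type u) →+ B where
  toFun z := QuadraticAlgebra.re z
  map_zero' := rfl
  map_add' _ _ := rfl

theorem injective_tr (G : MVF A) (hG : IsIso (G.bc (qmap B b))) :
    Function.Injective (tr G (qmap B b)) := by
  refine injective_tr_of_ret G (qmap B b) hG (rt B b) (fun c z => ?_) rfl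
  rw [qmap_apply]
  change QuadraticAlgebra.re (algebraMap B (QuadraticAlgebra (B : Type u) 1 b) c * z) = _
  rw [← Algebra.smul_def]
  rfl

theorem smul_comm (F G : MVF A)
    (φ : ∀ B : Alg A, F.obj (pt B) → G.obj (pt B))
    (hnat : ∀ ⦃B B' : Alg A⦄ (f : B ⟶ B') (x : F.obj (pt B)),
      φ B' (tr F f x) = tr G f (φ B x))
    (hadd : ∀ (B : Alg A) (x y : F.obj (pt B)), φ B (x + y) = φ B x + φ B y)
    (hunit : ∀ (B : Alg A) (v : (B : Type u)ˣ) (x : F.obj (pt B)),
      φ B ((v : B) • x) = (v : B) • φ B x)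
    (hG : ∀ ⦃B B' : Alg A⦄ (f : B ⟶ B'), f.hom.toRingHom.Flat → IsIso (G.bc f))
    (x : F.obj (pt B)) : φ B (b • x) = b • φ B x := by
  apply injective_tr B b G (hG _ (flat_qmap B b))
  rw [← hnat, tr_smul, tr_smul, ← hnat, qmap_apply, ← u₁_add_u₂, add_smul, add_smul, hadd]
  exact congrArg₂ (· + ·) (hunit (Qd B b) (u₁ B b) _) (hunit (Qd B b) (u₂ B b) _)

end

end K569.Units
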