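import Groth.Agent.Adeq.K569.QCS3
import Groth.Agent.BigSite.K186.ZarRes

/-!
# Comparison of Zariski cohomology and cohomology on the big site, for acyclic sheaves
-/

set_option autoImplicit false
set_option linter.unusedSectionVars false
universe u
open CategoryTheory Limits Opposite AlgebraicGeometry TopologicalSpace

namespace K569.ZarCmp

open K644.Site K644.Psh K644.Cartan K570.Local K570.CA K569.QCS K644.CohAff Groth.Agent.Etbase

noncomputable section

variable {Q : MorphismProperty Scheme.{u}} [Good Q] {S : Scheme.{u}}
  [BigSite.ZarCont (Scheme.precoverage Q) S]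

theorem epi_resZar {I F : BigSite.Ab (Scheme.precoverage Q) S} (q : I ⟶ F)
    (hq : ∀ U : Over S, IsAffine U.left → Function.Surjective (q.hom.app (op U))) :
    Epi ((BigSite.resZar (Scheme.precoverage Q) S).map q) := by
  have h1 : Presheaf.IsLocallySurjective (Opens.grothendieckTopology S)
      ((BigSite.resZar (Scheme.precoverage Q) S).map q).hom := by
    constructor
    intro V s x hx
    obtain ⟨W, hW, hxW, hWV⟩ := exists_isAffineOpen_mem_and_subset (X := S) (x := x) (U := V) hx
    refine ⟨W, homOfLE hWV, ?_, hxW⟩
    have hW' : IsAffine ((BigSite.zarIncl S).obj W).left := hW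
    obtain ⟨t, ht⟩ := hq _ hW' ((((BigSite.resZar (Scheme.precoverage Q) S).obj F).obj.map (homOfLE hWV).op) s)
    exact ⟨t, ht⟩
  have h2 : Sheaf.IsLocallySurjective ((BigSite.resZar (Scheme.precoverage Q) S).map q) := h1
  exact inferInstance

theorem shortExact_resZar {C : ShortComplex (BigSite.Ab (Scheme.precoverage Q) S)} (hS : C.ShortExact)
    (hq : ∀ U : Over S, IsAffine U.left → Function.Surjective (C.g.hom.app (op U))) :
    (C.map (BigSite.resZar (Scheme.precoverage Q) S)).ShortExact := by
  have hm : Mono C.f := hS.mono_f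
  have := K186.ZarRes.preservesLimits_resZar S (Scheme.precoverage Q)
  have : Mono (C.map (BigSite.resZar (Scheme.precoverage Q) S)).f :=
    inferInstanceAs (Mono ((BigSite.resZar (Scheme.precoverage Q) S).map C.f))
  have : Epi (C.map (BigSite.resZar (Scheme.precoverage Q) S)).g := epi_resZar C.g hq
  exact { exact := hS.exact.map_of_mono_of_preservesKernel _ hm inferInstance }

/-- Comparison. -/
theorem nonempty_H (F : BigSite.Ab (Scheme.precoverage Q) S) (hF : AffAcyc.{u + 1} (Over.forget S) F) (n : ℕ) :
    Nonempty (EtZar.H ((BigSite.resZar (Scheme.precoverage Q) S).obj F) n ≃+ BigSite.H (Scheme.precoverage Q) S F n) := by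
  have h1 := K186.ZarRes.preservesFiniteLimits_piZarPull S (Scheme.precoverage Q)
  have h2 : (BigSite.piZarPull (Scheme.precoverage Q) S).Additive :=
    (BigSite.piZarAdj (Scheme.precoverage Q) S).left_adjoint_additive
  have h3 : PreservesFiniteColimits (BigSite.piZarPull (Scheme.precoverage Q) S) :=
    have : PreservesColimitsOfSize.{0, 0} (BigSite.piZarPull (Scheme.precoverage Q) S) :=
      (BigSite.piZarAdj (Scheme.precoverage Q) S).leftAdjoint_preservesColimits
    PreservesColimitsOfSize.preservesFiniteColimits _
  refine ⟨AddEquiv.ofBijective (AdjCmp530.cmp (BigSite.piZarAdj (Scheme.precoverage Q) S)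
    (K186.ZarRes.constIso S (Scheme.precoverage Q) (AddCommGrpCat.of (ULift.{u + 1} ℤ))).inv F n) ?_⟩
  refine AdjCmp530.bijective_of_class (BigSite.piZarAdj (Scheme.precoverage Q) S) _
    (fun F => AffAcyc.{u + 1} (Over.forget S) F) ?_ n F hF
  intro F hF
  let P : InjectivePresentation F := Classical.arbitrary _
  have hS : (ShortComplex.mk P.f (cokernel.π P.f) (cokernel.condition P.f)).ShortExact :=
    { exact := ShortComplex.exact_cokernel P.f }
  have hP := P.injective
  exact ⟨P.J, cokernel P.f, P.f, cokernel.π P.f, cokernel.condition P.f, hS, hP,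
    affAcyc_step.{u + 1} P.f (cokernel.π P.f) (cokernel.condition P.f) hS hF,
    shortExact_resZar hS fun U hU => surjective_of_affAcyc.{u + 1} (T := Over.forget S) _ _ _ hS hF U hU⟩

end

end K569.ZarCmp
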